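import Cfsg.Agent.Lib.Local.ThreeThree.Flat

/-!
# Goldschmidt's amalgams of index (3, 3): counting lemmas and the case `b = 1`
-/

set_option autoImplicit false
set_option linter.style.haveILetI false
set_option linter.unusedSectionVars false

namespace Cfsg.Lib.Local.ThreeThree

open Subgroup Cfsg Cfsg.Lib Cfsg.Lib.Local MulAction
open scoped commutatorElement

variable {X : Type*} [Group X] {M₁ M₂ : Subgroup X}

local notation "Γ" => cosetGraph M₁ M₂
local notation "b₀" => criticalDistance 2 M₁ M₂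

theorem card_le_two_mul {H K : Subgroup X} [Finite H]
    (hK : ∀ x ∈ H, ∀ y ∈ H, x ∉ K → y ∉ K → x⁻¹ * y ∈ K) :
    Nat.card H ≤ 2 * Nat.card ↥(H ⊓ K) := by
  classical
  haveI : Finite ↥(H ⊓ K) := Finite.of_injective _ (Subgroup.inclusion_injective inf_le_left)
  by_cases hle : H ≤ K
  · rw [inf_eq_left.mpr hle]; omega
  obtain ⟨x, hx, hxK⟩ := SetLike.not_le_iff_exists.mp hle
  let f : H → Bool × ↥(H ⊓ K) := fun y =>
    if hy : (y : X) ∈ K then (false, ⟨y, y.2, hy⟩)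
    else (true, ⟨x⁻¹ * y, H.mul_mem (H.inv_mem hx) y.2, hK x hx y y.2 hxK hy⟩)
  have hf : Function.Injective f := by
    intro y z e
    simp only [f] at e
    by_cases hy : (y : X) ∈ K <;> by_cases hz : (z : X) ∈ K <;> simp [hy, hz] at e
    · exact Subtype.ext (congrArg Subtype.val e :)
    · exact Subtype.ext (mul_left_cancel (congrArg Subtype.val e :))
  have := Nat.card_le_card_of_injective f hf
  rwa [Nat.card_prod, Nat.card_eq_fintype_card (α := Bool), Fintype.card_bool] at this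

theorem card_le_mul_of_inf {H A B : Subgroup X} [Finite H] {m n : ℕ}
    (hA : A ≤ H) (hB : B ≤ H) (hm : Nat.card H ≤ m * Nat.card A) (hn : Nat.card H ≤ n * Nat.card B) :
    Nat.card H ≤ m * n * Nat.card ↥(A ⊓ B) := by
  haveI : Finite A := Finite.of_injective _ (Subgroup.inclusion_injective hA)
  haveI : Finite B := Finite.of_injective _ (Subgroup.inclusion_injective hB)
  have e1 := Core.card_mul_relIndex hA
  have e2 := Core.card_mul_relIndex hB
  have e3 := Core.card_mul_relIndex ((inf_le_left : A ⊓ B ≤ A).trans hA)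
  have h1 : A.relIndex H ≤ m := Nat.le_of_mul_le_mul_left (e1.le.trans (hm.trans_eq (mul_comm _ _))) Nat.card_pos
  have h2 : B.relIndex H ≤ n := Nat.le_of_mul_le_mul_left (e2.le.trans (hn.trans_eq (mul_comm _ _))) Nat.card_pos
  rw [← e3, mul_comm]
  exact Nat.mul_le_mul_right _ ((relIndex_inf_le (L := H)).trans (Nat.mul_le_mul h1 h2))

/-- `Q_v` met with `Q` of all its neighbours. -/
def Dn (v : CosetVertex M₁ M₂) : Subgroup X :=
  vertexQ 2 v ⊓ ⨅ e ∈ (Γ).neighborSet v, vertexQ 2 e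

theorem Dn_le {v e : CosetVertex M₁ M₂} (he : (Γ).Adj v e) : Dn v ≤ vertexQ 2 e :=
  inf_le_right.trans (iInf₂_le (f := fun e (_ : e ∈ (Γ).neighborSet v) => vertexQ 2 e) e he)

theorem mem_Dn {v : CosetVertex M₁ M₂} {x : X} :
    x ∈ Dn v ↔ x ∈ vertexQ 2 v ∧ ∀ e, (Γ).Adj v e → x ∈ vertexQ 2 e := by
  simp [Dn, mem_iInf, SimpleGraph.mem_neighborSet]

namespace Hyp

variable (h : Hyp M₁ M₂)
include h

theorem Dn_conj {v : CosetVertex M₁ M₂} {g x : X} (hx : x ∈ Dn v) : g * x * g⁻¹ ∈ Dn (g • v) := by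
  obtain ⟨h1, h2⟩ := mem_Dn.mp hx
  refine mem_Dn.mpr ⟨h.Q_conj h1, fun e he => ?_⟩
  have := h.Q_conj (g := g) (h2 (g⁻¹ • e) (by simpa using cosetGraph_adj_smul he g⁻¹))
  rwa [smul_inv_smul] at this

theorem card_edge {δ μ : CosetVertex M₁ M₂} (hμ : (Γ).Adj δ μ) :
    Nat.card ↥(edgeStabilizer δ μ) = Nat.card ↥(M₁ ⊓ M₂) := by
  obtain ⟨x, he, -⟩ := edgeStabilizer_of_adj hμ
  rw [he, card_map_equiv]

theorem card_T_le {δ : CosetVertex M₁ M₂} {n : ℕ} (hn : Nat.card ↥(vertexQ 2 δ) ≤ n) :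
    Nat.card ↥(M₁ ⊓ M₂) ≤ 2 * n := by
  obtain ⟨μ, hμ⟩ := exists_adj δ
  rw [← h.card_edge hμ, (h.side hμ).1.card_T]
  exact Nat.mul_le_mul_left 2 hn

theorem card_Q_le_two_mul {δ μ : CosetVertex M₁ M₂} (hμ : (Γ).Adj δ μ) :
    Nat.card ↥(vertexQ 2 δ) ≤ 2 * Nat.card ↥(vertexQ 2 δ ⊓ vertexQ 2 μ) := by
  haveI := h.finQ δ
  exact card_le_two_mul fun x hx y hy hx' hy' =>
    h.inv_mul_mem_Q hμ.symm (edge_comm δ μ ▸ h.Q_le_edge hμ hx) (edge_comm δ μ ▸ h.Q_le_edge hμ hy) hx' hy'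

theorem crit_edge (hb : b₀ = 1) {a v : CosetVertex M₁ M₂} (hav : (Γ).Adj a v) (ha : Al a) :
    ¬ vertexZ 2 a ≤ vertexQ 2 v := by
  obtain ⟨q, hq⟩ := h.exists_crit
  rw [Crit, hb] at hq
  obtain ⟨g, hg⟩ := exists_smul_al ha hq.1.al
  obtain ⟨k, hk, hk'⟩ := exists_smul_eq_of_adj (hg ▸ cosetGraph_adj_smul hav g) (hq.1.adj 0 one_pos)
  intro hle
  apply hq.2
  rw [show q 1 = (k * g) • v by rw [mul_smul, hk'],
    show q 0 = (k * g) • a by rw [mul_smul, hg, mem_stabilizer_iff.mp hk], ← h.Z_map, ← h.Q_map]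
  exact map_mono hle

theorem bound_one (hb : b₀ = 1) : Nat.card ↥(M₁ ⊓ M₂) ≤ 2 ^ 7 := by
  set a : CosetVertex M₁ M₂ := Sum.inl ((1 : X) : X ⧸ M₁)
  have ha : Al a := rfl
  -- `Dn v` has index at most four in `Q_v`, and is normal in the stabilizer
  have hD : ∀ v, (Γ).Adj a v → Nat.card ↥(vertexQ 2 a) ≤ 4 * Nat.card ↥(Dn v) ∧
      ∀ c, (Γ).Adj v c → ∃ t ∈ vertexZ 2 c, t ∈ edgeStabilizer v c ∧ t ∉ vertexQ 2 v := by
    intro v hav
    have hv := not_al_of_adj hav ha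
    have hex : ∀ c, (Γ).Adj v c → ∃ t ∈ vertexZ 2 c, t ∈ edgeStabilizer v c ∧ t ∉ vertexQ 2 v :=
      fun c hc => by
        obtain ⟨t, ht, htQ⟩ := SetLike.not_le_iff_exists.mp (h.crit_edge hb hc.symm (al_of_adj hc.symm hv))
        exact ⟨t, ht, edge_comm c v ▸ h.Z_le_edge hc.symm ht, htQ⟩
    refine ⟨?_, hex⟩
    obtain ⟨c, hc, hca⟩ := h.exists_two_neighbours hav.symm
    set D := (vertexQ 2 v ⊓ vertexQ 2 a) ⊓ (vertexQ 2 v ⊓ vertexQ 2 c) with hDdef
    have hT : ∀ e, (Γ).Adj v e → D ≤ vertexQ 2 e → edgeStabilizer v e ≤ normalizer (D : Set X) := by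
      intro e he hDe
      refine Core.le_normalizer_iff_conj_mem.mpr fun g hg x hx => ?_
      by_cases hgQ : g ∈ vertexQ 2 v
      · exact ⟨⟨conj_mem_Q hg.1 hx.1.1, conj_mem_Q (h.Q_smul hav.symm hgQ) hx.1.2⟩,
          conj_mem_Q hg.1 hx.2.1, conj_mem_Q (h.Q_smul hc hgQ) hx.2.2⟩
      · obtain ⟨t, htZ, ht, htQ⟩ := hex e he
        set q := t⁻¹ * g with hq
        have hqQ : q ∈ vertexQ 2 v := h.inv_mul_mem_Q he ht hg htQ hgQ
        have hx' : q * x * q⁻¹ ∈ D :=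
          ⟨⟨conj_mem_Q (h.Q_smul_self hqQ) hx.1.1, conj_mem_Q (h.Q_smul hav.symm hqQ) hx.1.2⟩,
            conj_mem_Q (h.Q_smul_self hqQ) hx.2.1, conj_mem_Q (h.Q_smul hc hqQ) hx.2.2⟩
        rw [show g * x * g⁻¹ = t * (q * x * q⁻¹) * t⁻¹ by rw [hq]; group,
          ← (h.Z_commute_Q htZ (hDe hx')).eq, mul_inv_cancel_right]
        exact hx'
    have hDn : stabilizer X v ≤ normalizer (D : Set X) :=
      h.edge_sup hav.symm hc hca.symm (hT a hav.symm (inf_le_left.trans inf_le_right))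
        (hT c hc (inf_le_right.trans inf_le_right))
    have hDD : D ≤ Dn v := fun x hx => mem_Dn.mpr ⟨hx.1.1, fun e he => by
      obtain ⟨g, hg, rfl⟩ := exists_smul_eq_of_adj hav.symm he
      have := h.Q_conj (g := g) (δ := a) ((mem_normalizer_iff''.mp (hDn hg) x).mp hx).1.2
      rwa [show g * (g⁻¹ * x * g) * g⁻¹ = x by group] at this⟩
    haveI := h.finQ v
    haveI : Finite ↥(Dn v) := Finite.of_injective _ (Subgroup.inclusion_injective inf_le_left)
    have h4 := card_le_mul_of_inf (H := vertexQ 2 v) inf_le_left inf_le_left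
      (h.card_Q_le_two_mul hav.symm) (h.card_Q_le_two_mul hc)
    rw [h.card_Q_eq hav]
    exact h4.trans (Nat.mul_le_mul_left 4 (Subgroup.card_le_of_le hDD))
  obtain ⟨v, hav⟩ := exists_adj a
  obtain ⟨w, haw, hwv⟩ := h.exists_two_neighbours hav
  obtain ⟨x, hax, hxv, hxw, hall⟩ := h.exists_third hav haw hwv.symm
  set N := (Dn v ⊓ Dn w) ⊓ Dn x with hN
  have hNa : ∀ e, (Γ).Adj a e → N ≤ Dn e := fun e he => by
    rcases hall e he with rfl | rfl | rfl
    exacts [inf_le_left.trans inf_le_left, inf_le_left.trans inf_le_right, inf_le_right]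
  have hNn : stabilizer X a ≤ normalizer (N : Set X) := by
    refine Core.le_normalizer_iff_conj_mem.mpr fun g hg z hz => ?_
    have key : ∀ e, (Γ).Adj a e → g * z * g⁻¹ ∈ Dn e := fun e he => by
      have he' : (Γ).Adj a (g⁻¹ • e) := adj_smul_of_mem he (by rw [inv_smul_eq_iff]; exact (mem_stabilizer_iff.mp hg).symm)
      have := h.Dn_conj (g := g) (hNa _ he' hz)
      rwa [smul_inv_smul] at this
    exact ⟨⟨key v hav, key w haw⟩, key x hax⟩
  have hNv : stabilizer X v ≤ normalizer (N : Set X) := by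
    obtain ⟨c, hc, hca⟩ := h.exists_two_neighbours hav.symm
    obtain ⟨t, htZ, ht, htQ⟩ := (hD v hav).2 c hc
    refine h.stab_le_of hav.symm (fun g hg => hNn hg.2) ?_ ht.1 (h.smul_ne hc hav.symm hca ht htQ)
    refine Core.mem_normalizer_iff_map_conj.mpr (le_antisymm ?_ ?_)
    · rintro _ ⟨z, hz, rfl⟩
      show t * z * t⁻¹ ∈ N
      rw [← (h.Z_commute_Q htZ (Dn_le hc (hNa v hav hz))).eq, mul_inv_cancel_right]
      exact hz
    · exact fun z hz => ⟨z, hz, by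
        show t * z * t⁻¹ = z
        rw [← (h.Z_commute_Q htZ (Dn_le hc (hNa v hav hz))).eq, mul_inv_cancel_right]⟩
  have hbot := h.eq_bot_of_normalized hav
    (fun z hz => h.Q_le_edge hav (Dn_le hav.symm (hNa v hav hz))) hNn hNv
  haveI := h.finQ a
  have h2 := card_le_mul_of_inf (H := vertexQ 2 a) (Dn_le hav.symm) (Dn_le haw.symm) (hD v hav).1 (hD w haw).1
  have h3 := card_le_mul_of_inf (H := vertexQ 2 a) (A := Dn v ⊓ Dn w)
    (inf_le_left.trans (Dn_le hav.symm)) (Dn_le hax.symm) h2 (hD x hax).1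
  rw [← hN, hbot, card_bot] at h3
  exact (h.card_T_le h3).trans (by norm_num)

end Hyp

end Cfsg.Lib.Local.ThreeThree
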