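import Cfsg.Agent.Lib.Local.ThreeThree.OddSmall

/-!
# Goldschmidt's amalgams of index (3, 3): the case `b = 3`
-/

set_option autoImplicit false
set_option linter.style.haveILetI false
set_option linter.unusedSectionVars false

namespace Cfsg.Lib.Local.ThreeThree

open Subgroup Cfsg Cfsg.Lib Cfsg.Lib.Local MulAction
open scoped commutatorElement

variable {X : Type*} [Group X] {M₁ M₂ : Subgroup X}

local notation "Γ" => cosetGraph M₁ M₂
local notation "b₀" => criticalDistance 2 M₁ M₂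

/-- The centraliser of `V_v` in `Q_v`. -/
def Kv (v : CosetVertex M₁ M₂) : Subgroup X := vertexQ 2 v ⊓ centralizer (Vv v : Set X)

/-- The centraliser in `K_v` of everything at distance three from `v`. -/
def Nv (v : CosetVertex M₁ M₂) : Subgroup X := Kv v ⊓ centralizer (Uv v : Set X)

theorem card_le_card_mul_centralizer {H Zs : Subgroup X} [Finite H] [Finite Zs] {t : X}
    (hZ : ∀ x ∈ H, x * t * x⁻¹ * t⁻¹ ∈ Zs) :
    Nat.card H ≤ Nat.card Zs * Nat.card ↥(H ⊓ centralizer {t}) := by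
  classical
  haveI : Finite ↥(H ⊓ centralizer {t}) :=
    Finite.of_injective _ (Subgroup.inclusion_injective inf_le_left)
  let c : H → Zs := fun x => ⟨(x : X) * t * (x : X)⁻¹ * t⁻¹, hZ x x.2⟩
  let r : H → H := fun x => Function.invFun c (c x)
  have hr : ∀ x : H, ((r x : H) : X) * t * ((r x : H) : X)⁻¹ = (x : X) * t * (x : X)⁻¹ := fun x =>
    mul_right_cancel (congrArg Subtype.val (Function.invFun_eq (f := c) ⟨x, rfl⟩) :)
  let f : H → Zs × ↥(H ⊓ centralizer {t}) := fun x =>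
    (c x, ⟨((r x : H) : X)⁻¹ * x, H.mul_mem (H.inv_mem (r x).2) x.2, mem_centralizer_singleton_iff.mpr (by
      calc ((r x : H) : X)⁻¹ * x * t = ((r x : H) : X)⁻¹ * ((x : X) * t * (x : X)⁻¹) * x := by group
        _ = ((r x : H) : X)⁻¹ * (((r x : H) : X) * t * ((r x : H) : X)⁻¹) * x := by rw [hr x]
        _ = t * (((r x : H) : X)⁻¹ * x) := by group)⟩)
  have hf : Function.Injective f := by
    intro x y e
    have h1 : c x = c y := congrArg Prod.fst e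
    have h2 : ((r x : H) : X)⁻¹ * x = ((r y : H) : X)⁻¹ * y := congrArg (fun z : Zs × ↥(H ⊓ centralizer {t}) => (z.2 : X)) e
    have h3 : r x = r y := congrArg (Function.invFun c) h1
    rw [h3] at h2
    exact Subtype.ext (mul_left_cancel h2)
  have := Nat.card_le_card_of_injective f hf
  rwa [Nat.card_prod] at this

namespace Hyp

variable (h : Hyp M₁ M₂)
include h

variable {p : ℕ → CosetVertex M₁ M₂}

theorem stab_le_normalizer_K (v : CosetVertex M₁ M₂) : stabilizer X v ≤ normalizer (Kv v : Set X) :=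
  Core.le_normalizer_iff_conj_mem.mpr fun g hg k hk => ⟨conj_mem_Q hg hk.1,
    mem_centralizer_iff.mpr fun z hz => by
      have h1 := (mem_normalizer_iff''.mp (h.stab_le_normalizer_V v hg) z).mp hz
      calc z * (g * k * g⁻¹) = g * ((g⁻¹ * z * g) * k) * g⁻¹ := by group
        _ = g * (k * (g⁻¹ * z * g)) * g⁻¹ := by rw [mem_centralizer_iff.mp hk.2 _ h1]
        _ = g * k * g⁻¹ * z := by group⟩

theorem stab_le_normalizer_N (v : CosetVertex M₁ M₂) : stabilizer X v ≤ normalizer (Nv v : Set X) :=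
  Core.le_normalizer_iff_conj_mem.mpr fun g hg k hk => ⟨
    (mem_normalizer_iff.mp (h.stab_le_normalizer_K v hg) k).mp hk.1,
    mem_centralizer_iff.mpr fun z hz => by
      have h1 := (mem_normalizer_iff''.mp (h.stab_le_normalizer_U v hg) z).mp hz
      calc z * (g * k * g⁻¹) = g * ((g⁻¹ * z * g) * k) * g⁻¹ := by group
        _ = g * (k * (g⁻¹ * z * g)) * g⁻¹ := by rw [mem_centralizer_iff.mp hk.2 _ h1]
        _ = g * k * g⁻¹ * z := by group⟩

theorem K_commute {v : CosetVertex M₁ M₂} {k z : X} (hk : k ∈ Kv v) (hz : z ∈ Vv v) : Commute k z :=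
  (mem_centralizer_iff.mp hk.2 z hz).symm

theorem K_le_Q {v a : CosetVertex M₁ M₂} (hv : ¬ Al v) (hva : (Γ).Adj v a) : Kv v ≤ vertexQ 2 a :=
  fun _ hk => h.mem_Q_of_commute (al_of_adj hva.symm hv) (h.Q_smul hva hk.1)
    fun _ hz => (h.K_commute hk (Z_le_V hva hz)).symm

theorem mem_K (hb : 3 ≤ b₀) (ho : Odd b₀) {v a c : CosetVertex M₁ M₂} (hv : ¬ Al v) (hva : (Γ).Adj v a)
    (hvc : (Γ).Adj v c) (hne : a ≠ c) {k : X} (hk : k ∈ vertexQ 2 v) (hka : k ∈ vertexQ 2 a)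
    (hkc : k ∈ vertexQ 2 c) : k ∈ Kv v := by
  refine ⟨hk, mem_centralizer_iff.mpr fun z hz => ?_⟩
  have hle : vertexZ 2 a ⊔ vertexZ 2 c ≤ centralizer {k} :=
    sup_le (fun y hy => mem_centralizer_singleton_iff.mpr (h.Z_commute_Q hy hka).eq.symm)
      (fun y hy => mem_centralizer_singleton_iff.mpr (h.Z_commute_Q hy hkc).eq.symm)
  exact mem_centralizer_singleton_iff.mp (hle (h.V_small hb ho hv hva hvc hne hz))

theorem card_Z_be_le (hs : Single M₁ M₂) {v : CosetVertex M₁ M₂} (hv : ¬ Al v) :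
    Nat.card ↥(vertexZ 2 v) ≤ 2 := by
  classical
  refine (Nat.card_le_card_of_injective (fun z : vertexZ 2 v => decide ((z : X) = 1)) ?_).trans
    (by rw [Nat.card_eq_fintype_card, Fintype.card_bool])
  intro x y e
  simp only [decide_eq_decide] at e
  by_cases hx : (x : X) = 1
  · exact Subtype.ext (hx.trans (e.mp hx).symm)
  · exact Subtype.ext (hs v hv x x.2 y y.2 hx fun hy => hx (e.mpr hy))

theorem card_Z_al_le (hs : Single M₁ M₂) {a : CosetVertex M₁ M₂} (ha : Al a) :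
    Nat.card ↥(vertexZ 2 a) ≤ 4 := by
  obtain ⟨v, hav⟩ := exists_adj a
  haveI := h.finQ a
  haveI : Finite ↥(vertexZ 2 a) := Finite.of_injective _ (Subgroup.inclusion_injective (h.Z_le_Q a))
  haveI : Finite ↥(vertexZ 2 v) := Finite.of_injective _ (Subgroup.inclusion_injective (h.Z_be_le hav ha))
  have h1 := card_le_two_mul (H := vertexZ 2 a) (K := vertexZ 2 v) fun x hx y hy hx' hy' => by
    rw [h.Z_inv hx]; exact h.mul_mem_Z_be hs hav ha hx hy hx' hy'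
  have h2 := (Subgroup.card_le_of_le (inf_le_right : vertexZ 2 a ⊓ vertexZ 2 v ≤ vertexZ 2 v)).trans
    (h.card_Z_be_le hs (not_al_of_adj hav ha))
  omega

/-- The three statements about one side of a walk critical from both ends. -/
theorem three_side (hb3 : b₀ = 3) (ho : Odd b₀) (hp : DC p) :
    Nat.card ↥(Kv (p 1) ⊓ Kv (p 3)) ≤ 2 * Nat.card ↥(Kv (p 1) ⊓ Kv (p 3) ⊓ Nv (p 3)) ∧
      (∀ E : Subgroup X, E ≤ Nv (p 3) → vertexQ 2 (p 2) ≤ normalizer (E : Set X) →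
        stabilizer X (p 3) ≤ normalizer (E : Set X)) ∧
      Nat.card ↥(Kv (p 3)) ≤ 4 * Nat.card ↥(Kv (p 1) ⊓ Kv (p 3)) := by
  have hb : 3 ≤ b₀ := by omega
  have hs := h.single_odd hb ho
  obtain ⟨t, ht, htQ⟩ := SetLike.not_le_iff_exists.mp hp.left
  obtain ⟨u, hu, huQ⟩ := SetLike.not_le_iff_exists.mp hp.right
  obtain ⟨hu1, hu0, hur, hutu, -, -, hy1⟩ := h.y_facts hb hp ht htQ hu huQ
  have hy2 := h.y_mem hb ho hp ht htQ hu huQ
  have hy3 := (h.y_mem' hb ho hp ht htQ hu huQ).2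
  obtain ⟨htT, htm⟩ := h.odd_move hb hp.pth ht htQ
  have ht1 := h.notMem_Z_one hp htQ
  have hu' : u ∈ vertexZ 2 (p 4) := by simpa [hb3] using hu
  simp only [hb3, show (3:ℕ) - 1 = 2 from rfl] at htT htQ hy3
  have h01 := hp.pth.adj 0 (by omega)
  have h12 := hp.pth.adj 1 (by omega)
  have h23 := hp.pth.adj 2 (by omega)
  have h34 := hp.pth.adj 3 (by omega)
  have h02 : p 0 ≠ p 2 := hp.pth.nb 0 (by omega)
  have h13 : p 1 ≠ p 3 := hp.pth.nb 1 (by omega)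
  have h24 : p 2 ≠ p 4 := hp.pth.nb 2 (by omega)
  have hA2 : Al (p 2) := (hp.pth.al_iff (by omega)).mpr even_two
  have hv1 := not_al_of_adj h01 hp.pth.al
  have hv3 := not_al_of_adj h23 hA2
  have hA4 : Al (p 4) := (hp.pth.al_iff (by omega)).mpr (by decide)
  obtain ⟨vc, hvc, hc1, hc3, hall⟩ := h.exists_third h12.symm h23 h13
  have hyc : t * (u * t * u) ∈ vertexZ 2 vc :=
    h.mem_Z_third hs hvc h12.symm h23 hA2 hc1 hc3 h13 hy2 hy1 hy3
  have hvcB := not_al_of_adj hvc hA2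
  have hutut : u * t * u * t ∈ vertexZ 2 vc := by
    have := inv_mem hyc
    rwa [show (t * (u * t * u))⁻¹ = u⁻¹ * t⁻¹ * u⁻¹ * t⁻¹ by group, h.Z_inv ht, h.Z_inv hu] at this
  -- commutators with `t`
  have hV3 : Vv (p 3) ≤ vertexZ 2 (p 2) ⊔ vertexZ 2 (p 4) := h.V_small hb ho hv3 h23.symm h34 h24
  have hVcomm : ∀ v ∈ Vv (p 3), v * t * v⁻¹ * t⁻¹ ∈ vertexZ 2 vc := by
    intro v hv
    obtain ⟨m, hm, n, hn, rfl⟩ := exists_mul_of_mem_sup
      (fun x hx y hy => h.commute_near hb h23.symm h34 hx hy) (hV3 hv)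
    have hmt : Commute m t := (h.commute_near hb h01.symm h12 ht hm).symm
    rw [show m * n * t * (m * n)⁻¹ * t⁻¹ = m * (n * t * n⁻¹ * t⁻¹) * (t * m⁻¹ * t⁻¹) by group,
      hmt.inv_left.eq.symm, mul_inv_cancel_right]
    have hn3 : ∀ z ∈ vertexZ 2 (p 3), z * t * z⁻¹ * t⁻¹ = 1 := fun z hz => by
      have hc : Commute z t := h.Z_commute_Q ht
        (h.Z_be_le_Q hv3 ((h.walk_dist hp.pth (i := 0) (j := 3) (by omega) (by omega)).2.trans (by omega)) hz)
      rw [hc.eq, mul_inv_cancel_right, mul_inv_cancel]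
    by_cases hn' : n ∈ vertexZ 2 (p 3)
    · rw [hn3 n hn', mul_one, mul_inv_cancel]; exact one_mem _
    have hu3 : u ∉ vertexZ 2 (p 3) := fun e =>
      huQ (h.Z_be_le_Q hv3 ((h.walk_dist hp.pth (i := 1) (j := 3) (by omega) (by omega)).2.trans (by omega)) e)
    have hz := h.mul_mem_Z_be hs h34.symm hA4 hn hu' hn' hu3
    have hzu : Commute u (n * u) := h.Z_be_commute hv3 (h.walk_fix hp.pth (i := 4) (j := 3) (by omega) (by omega) (by omega) (by omega) hu') hz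
    have e : n * t * n⁻¹ * t⁻¹ = u * t * u * t := by
      have hnu : n = u * (n * u) := by
        rw [hzu.eq, mul_assoc n u u, h.Z_sq hu, mul_one]
      conv_lhs => rw [hnu]
      rw [show u * (n * u) * t * (u * (n * u))⁻¹ * t⁻¹ =
        u * ((n * u) * t * (n * u)⁻¹ * t⁻¹) * (t * u⁻¹ * t⁻¹) by group, hn3 _ hz, mul_one, h.Z_inv hu, h.Z_inv ht]
      group
    rw [e, ← (h.Z_commute_Q hm (h.Z_le_Q (p 2) (h.Z_be_le hvc hA2 hutut))).eq, mul_inv_cancel_right]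
    exact hutut
  have hQcomm : ∀ r ∈ vertexQ 2 (p 2), r ∈ vertexQ 2 (p 3) → r * t * r⁻¹ * t⁻¹ ∈ vertexZ 2 (p 2) := by
    intro r hr _
    have hr1 : r • p 1 = p 1 := h.Q_smul h12.symm hr
    have hz12 := h.Z_be_le h12.symm hA2
    by_cases hr0 : r • p 0 = p 0
    · have h1 := h.comm_mem h01 hp.pth.al (t := r) ⟨hr0, hr1⟩ ht
      rw [(h.Z_comm ht (h.Z_conj_self hr0 ht)).eq] at h1
      rw [h.Z_inv ht]
      exact hz12 h1
    · have ho1 := adj_smul_of_mem h01.symm hu1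
      have hr0' : r • p 0 = u • p 0 := h.eq_third h12 h01.symm ho1 (adj_smul_of_mem h01.symm hr1) h02.symm
        hur hu0 (fun e => h02 (MulAction.injective r (e.trans (h.Q_smul_self hr).symm))) hr0
      have hrt : r * t * r⁻¹ ∈ vertexZ 2 (u • p 0) := hr0' ▸ h.Z_conj ht
      have hn1 : r * t * r⁻¹ ∉ vertexZ 2 (p 1) := fun e => ht1 (by
        have := h.Z_conj_self (g := r⁻¹) (by rw [inv_smul_eq_iff, hr1]) e
        rwa [inv_inv, show r⁻¹ * (r * t * r⁻¹) * r = t by group] at this)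
      have hn2 : u * t * u ∉ vertexZ 2 (p 1) := fun e => ht1 (by
        have := h.Z_conj_self hu1 e
        rwa [h.Z_inv hu, show u * (u * t * u) * u = (u * u) * t * (u * u) by group, h.Z_sq hu, one_mul, mul_one] at this)
      have hz := h.mul_mem_Z_be hs ho1.symm ((al_smul u _).mpr hp.pth.al) hrt hutu hn1 hn2
      have := mul_mem (hz12 hz) (h.Z_be_le hvc hA2 hutut)
      rwa [show r * t * r⁻¹ * (u * t * u) * (u * t * u * t) = r * t * r⁻¹ * ((u * t * u) * (u * t * u)) * t by group,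
        h.Z_sq hutu, mul_one, show r * t * r⁻¹ * t = r * t * r⁻¹ * t⁻¹ by rw [h.Z_inv ht]] at this
  have hK2 : Kv (p 3) ≤ vertexQ 2 (p 2) := h.K_le_Q hv3 h23.symm
  have hK3 : Kv (p 3) ≤ vertexQ 2 (p 3) := inf_le_left
  -- elements acting trivially on `K / V`
  have hVn := h.stab_le_normalizer_V (p 3)
  have hKn := h.stab_le_normalizer_K (p 3)
  let H₀ : Subgroup X :=
    { carrier := {g | g ∈ stabilizer X (p 3) ∧ ∀ k ∈ Kv (p 3), g * k * g⁻¹ * k⁻¹ ∈ Vv (p 3)}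
      one_mem' := ⟨one_mem _, fun k _ => by simp⟩
      mul_mem' := fun {g g'} hg hg' => ⟨mul_mem hg.1 hg'.1, fun k hk => by
        rw [show g * g' * k * (g * g')⁻¹ * k⁻¹ = g * (g' * k * g'⁻¹ * k⁻¹) * g⁻¹ * (g * k * g⁻¹ * k⁻¹) by group]
        exact mul_mem ((mem_normalizer_iff.mp (hVn hg.1) _).mp (hg'.2 k hk)) (hg.2 k hk)⟩
      inv_mem' := fun {g} hg => ⟨inv_mem hg.1, fun k hk => by
        rw [show g⁻¹ * k * g⁻¹⁻¹ * k⁻¹ = g⁻¹ * (g * k * g⁻¹ * k⁻¹)⁻¹ * g by group]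
        exact (mem_normalizer_iff''.mp (hVn hg.1) _).mp (inv_mem (hg.2 k hk))⟩ }
  have H₀conj : ∀ g : X, g • p 3 = p 3 → ∀ x ∈ H₀, g * x * g⁻¹ ∈ H₀ := fun g hg x hx =>
    ⟨(stabilizer X (p 3)).mul_mem ((stabilizer X (p 3)).mul_mem hg hx.1) ((stabilizer X (p 3)).inv_mem hg),
      fun k hk => by
      have h1 := hx.2 _ ((mem_normalizer_iff''.mp (hKn hg) k).mp hk)
      have h2 := (mem_normalizer_iff.mp (hVn hg) _).mp h1
      rwa [show g * (x * (g⁻¹ * k * g) * x⁻¹ * (g⁻¹ * k * g)⁻¹) * g⁻¹ =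
        g * x * g⁻¹ * k * (g * x * g⁻¹)⁻¹ * k⁻¹ by group] at h2⟩
  have ht3 : t • p 3 = p 3 := htT.1
  have htH : t ∈ H₀ := ⟨ht3, fun k hk => by
    have := inv_mem (Z_le_V h23.symm (hQcomm k (hK2 hk) (hK3 hk)))
    rwa [show (k * t * k⁻¹ * t⁻¹)⁻¹ = t * k * t⁻¹ * k⁻¹ by group] at this⟩
  have h32 := h23.symm
  obtain ⟨g, hg, hg4⟩ := exists_smul_eq_of_adj h32 h34
  have hg3 : g • p 3 = p 3 := hg
  set a := g * t * g⁻¹ with hadef
  have haH : a ∈ H₀ := H₀conj g hg3 t htH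
  have haT : a ∈ edgeStabilizer (p 3) (p 4) := by
    refine ⟨haH.1, ?_⟩
    show a • p 4 = p 4
    rw [← hg4, hadef, mul_smul, mul_smul, inv_smul_smul, htT.2]
  have haQ : a ∉ vertexQ 2 (p 3) := fun e => htQ (by
    have := conj_mem_Q (g := g⁻¹) (by rw [inv_smul_eq_iff, hg3]) e
    rwa [inv_inv, hadef, show g⁻¹ * (g * t * g⁻¹) * g = t by group] at this)
  have ha3 : a • p 3 = p 3 := haH.1
  set a₂ := a • p 2 with ha2def
  have ha2 : a₂ ≠ p 2 := h.smul_ne h34 h32 h24.symm haT haQ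
  have h3a : (Γ).Adj (p 3) a₂ := adj_smul_of_mem h32 ha3
  obtain ⟨hh', hhQ, hh2, hh4⟩ := h.exists_branch (by omega) hv3 h34 h32 h24.symm
  set q := hh' * a * hh'⁻¹ * a⁻¹ with hqdef
  have hqH : q ∈ H₀ := H₀.mul_mem (H₀conj hh' (h.Q_smul_self hhQ) a haH) (H₀.inv_mem haH)
  have hqQ : q ∈ vertexQ 2 (p 3) := by
    rw [hqdef, show hh' * a * hh'⁻¹ * a⁻¹ = hh' * (a * hh'⁻¹ * a⁻¹) by group]
    exact mul_mem hhQ (conj_mem_Q ha3 (inv_mem hhQ))
  have hq2 : q ∉ vertexQ 2 (p 2) := fun e => hh4 (by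
    have h1 : a * hh' * a⁻¹ ∈ vertexQ 2 (p 2) := by
      have := inv_mem (mul_mem (inv_mem hh2) e)
      rwa [hqdef, show (hh'⁻¹ * (hh' * a * hh'⁻¹ * a⁻¹))⁻¹ = a * hh' * a⁻¹ by group] at this
    have h2 := h.mem_K hb ho hv3 h3a h32 ha2 (conj_mem_Q ha3 hhQ) (h.Q_conj hh2) h1
    have h3 := h.K_le_Q hv3 h34 h2
    have h4 := conj_mem_Q (g := a⁻¹) (δ := p 4) (by rw [inv_smul_eq_iff]; exact (haT.2 : a • p 4 = p 4).symm) h3
    rwa [inv_inv, show a⁻¹ * (a * hh' * a⁻¹) * a = hh' by group] at h4)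
  have hqT : q ∈ edgeStabilizer (p 2) (p 3) := edge_comm (p 3) (p 2) ▸ h.Q_le_edge h32 hqQ
  have hq1 : q • p 1 = vc := h.swap_eq h23 h12.symm hvc h13 hc3 hc1.symm hqT hq2
  have hqc : q • vc = p 1 := h.swap_eq h23 hvc h12.symm hc3 h13 hc1 hqT hq2
  set w := q * t * q⁻¹ with hwdef
  set o := q • p 0 with hodef
  have hco : (Γ).Adj vc o := hq1 ▸ cosetGraph_adj_smul h01.symm q
  have ho2 : o ≠ p 2 := fun e => h02 (MulAction.injective q (e.trans (hqT.1 : q • p 2 = p 2).symm))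
  have hw : w ∈ vertexZ 2 o := h.Z_conj ht
  have hwc : w ∉ vertexZ 2 vc := fun e => ht1 (by
    have := h.Z_conj (g := q⁻¹) e
    rwa [← hq1, inv_smul_smul, inv_inv, hwdef, show q⁻¹ * (q * t * q⁻¹) * q = t by group] at this)
  have ht0V : t ∈ Vv (p 1) := Z_le_V h01.symm ht
  have hcomm1 : ∀ k ∈ Kv (p 1) ⊓ Kv (p 3), ∀ s ∈ Vv vc, k * s * k⁻¹ * s⁻¹ ∈ vertexZ 2 (p 1) := by
    intro k hk s hs'
    obtain ⟨m, hm, n, hn, rfl⟩ := exists_mul_of_mem_sup
      (fun x hx y hy => h.commute_near hb hvc.symm hco hx hy) (h.V_small hb ho hvcB hvc.symm hco ho2.symm hs')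
    have hkm : Commute k m := h.Z_commute_Q hm (hK2 hk.2)
    rw [show k * (m * n) * k⁻¹ * (m * n)⁻¹ = (k * m * k⁻¹ * m⁻¹) * (m * (k * n * k⁻¹ * n⁻¹) * m⁻¹) by group,
      hkm.eq, mul_inv_cancel_right, mul_inv_cancel, one_mul]
    suffices hsuff : k * n * k⁻¹ * n⁻¹ ∈ vertexZ 2 (p 1) by
      rw [(h.Z_comm hm (h.Z_be_le h12.symm hA2 hsuff)).eq, mul_inv_cancel_right]
      exact hsuff
    have hkc : ∀ z ∈ vertexZ 2 vc, Commute k z := fun z hz => h.Z_commute_Q (h.Z_be_le hvc hA2 hz) (hK2 hk.2)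
    by_cases hn' : n ∈ vertexZ 2 vc
    · rw [(hkc n hn').eq, mul_inv_cancel_right, mul_inv_cancel]; exact one_mem _
    have hAo : Al o := al_of_adj hco.symm hvcB
    set z := n * w with hzdef
    have hz : z ∈ vertexZ 2 vc := h.mul_mem_Z_be hs hco.symm hAo hn hw hn' hwc
    have hnw : n = z * w := by rw [hzdef, mul_assoc, h.Z_sq hw, mul_one]
    have hw' : k * w * k⁻¹ * w⁻¹ ∈ vertexZ 2 (p 1) := by
      have hv' := (H₀.inv_mem hqH).2 k hk.2
      rw [inv_inv] at hv'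
      have hkt : k * t * k⁻¹ = t := by rw [(h.K_commute hk.1 ht0V).eq, mul_inv_cancel_right]
      have h1 := h.Z_conj (g := q) (hVcomm _ hv')
      rw [hqc] at h1
      convert h1 using 1
      calc k * w * k⁻¹ * w⁻¹
          = k * q * t * q⁻¹ * k⁻¹ * w⁻¹ := by rw [hwdef]; group
        _ = q * ((q⁻¹ * k * q * k⁻¹) * (k * t * k⁻¹) * (q⁻¹ * k * q * k⁻¹)⁻¹ * t⁻¹) * q⁻¹ := by
            rw [hwdef]; group
        _ = _ := by rw [hkt]
    have hwz : Commute z w := h.Z_comm (h.Z_be_le hco.symm hAo hz) hw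
    rw [hnw, show k * (z * w) * k⁻¹ * (z * w)⁻¹ = (k * z * k⁻¹) * (k * w * k⁻¹ * w⁻¹) * z⁻¹ by group,
      (hkc z hz).eq, mul_inv_cancel_right,
      (h.Z_comm (h.Z_be_le hvc hA2 hz) (h.Z_be_le h12.symm hA2 hw')).eq, mul_inv_cancel_right]
    exact hw'
  have hcomm2 : ∀ k ∈ Kv (p 1) ⊓ Kv (p 3), ∀ s ∈ Vv vc, Commute k s := by
    intro k hk s hs'
    obtain ⟨f, hf, hfQ⟩ := h.exists_notMem_Q hvc
    have f1 : f • p 1 = p 3 := h.swap_eq hvc h12.symm h23 hc1.symm hc3.symm h13 hf hfQ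
    have f3 : f • p 3 = p 1 := h.swap_eq hvc h23 h12.symm hc3.symm hc1.symm h13.symm hf hfQ
    have fK : ∀ {v : CosetVertex M₁ M₂} {k : X}, k ∈ Kv v → f * k * f⁻¹ ∈ Kv (f • v) := fun {v k} hk =>
      ⟨h.Q_conj hk.1, mem_centralizer_iff.mpr fun z hz => by
        have h1 := h.V_conj (g := f⁻¹) hz
        rw [inv_smul_smul, inv_inv] at h1
        calc z * (f * k * f⁻¹) = f * ((f⁻¹ * z * f) * k) * f⁻¹ := by group
          _ = f * (k * (f⁻¹ * z * f)) * f⁻¹ := by rw [mem_centralizer_iff.mp hk.2 _ h1]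
          _ = f * k * f⁻¹ * z := by group⟩
    have h1 := hcomm1 (f * k * f⁻¹) ⟨f3 ▸ fK hk.2, f1 ▸ fK hk.1⟩ (f * s * f⁻¹) (by
      have := h.V_conj (g := f) hs'
      rwa [hf.2] at this)
    have h2 := h.Z_conj (g := f⁻¹) h1
    rw [← f3, inv_smul_smul, inv_inv, show f⁻¹ * (f * k * f⁻¹ * (f * s * f⁻¹) * (f * k * f⁻¹)⁻¹ *
      (f * s * f⁻¹)⁻¹) * f = k * s * k⁻¹ * s⁻¹ by group] at h2
    have h3 := h.eq_one_of_mem_two h12.symm h23 hA2 h13 (hcomm1 k hk s hs') h2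
    exact mul_inv_eq_iff_eq_mul.mp (mul_inv_eq_one.mp h3)
  set D := Kv (p 1) ⊓ Kv (p 3) with hD
  haveI := h.finQ (p 1)
  haveI := h.finQ (p 3)
  haveI : Finite ↥(Kv (p 3)) := Finite.of_injective _ (Subgroup.inclusion_injective hK3)
  haveI : Finite ↥D := Finite.of_injective _ (Subgroup.inclusion_injective (inf_le_right : D ≤ Kv (p 3)))
  -- the conjugate of `t` at another edge
  set t' := a * t * a⁻¹ with ht'def
  have ht'H : t' ∈ H₀ := H₀conj a ha3 t htH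
  have ht'T : t' ∈ edgeStabilizer (p 3) a₂ := by
    refine ⟨ht'H.1, ?_⟩
    show t' • a₂ = a₂
    rw [ha2def, ht'def, mul_smul, mul_smul, inv_smul_smul, htT.2]
  have ht'Q : t' ∉ vertexQ 2 (p 3) := fun e => htQ (by
    have := conj_mem_Q (g := a⁻¹) (by rw [inv_smul_eq_iff, ha3]) e
    rwa [inv_inv, ht'def, show a⁻¹ * (a * t * a⁻¹) * a = t by group] at this)
  have ht'U : t' ∈ Uv (p 3) := by
    have := Z_le_U h32 h12.symm h01.symm ht
    exact (mem_normalizer_iff.mp (h.stab_le_normalizer_U _ haH.1) t).mp this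
  obtain ⟨o₃, h3o, ho3a, ho32, hall3⟩ := h.exists_third h3a h32 ha2
  have hx2 : (t * t') • p 2 = a₂ := by
    rw [mul_smul, h.swap_eq h3a h32 h3o ha2.symm ho3a ho32.symm ht'T ht'Q]
    exact h.swap_eq h32 h3o h3a ho32 ha2 ho3a htT htQ
  have hxa : (t * t') • a₂ = o₃ := by
    rw [mul_smul, (ht'T.2 : t' • a₂ = a₂)]
    exact h.swap_eq h32 h3a h3o ha2 ho32 ho3a.symm htT htQ
  have hD3 : D ⊓ centralizer {t'} ≤ D ⊓ Nv (p 3) := by
    rintro d ⟨hd, hdt⟩
    refine ⟨hd, hd.2, mem_centralizer_iff.mpr ?_⟩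
    set x := t * t' with hxdef
    have hx3 : x • p 3 = p 3 := by rw [hxdef, mul_smul, (ht'T.1 : t' • p 3 = p 3), ht3]
    have hdx : Commute x d :=
      (h.K_commute hd.1 ht0V).symm.mul_left (mem_centralizer_singleton_iff.mp hdt : d * t' = t' * d).symm
    have base : ∀ c e, (Γ).Adj (p 2) c → (Γ).Adj c e → vertexZ 2 e ≤ centralizer {d} := by
      intro c e hc he z hz
      refine mem_centralizer_singleton_iff.mpr (?_ : Commute z d)
      rcases hall c hc with rfl | rfl | rfl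
      exacts [(h.K_commute hd.1 (Z_le_V he hz)).symm, (h.K_commute hd.2 (Z_le_V he hz)).symm,
        (hcomm2 d hd z (Z_le_V he hz)).symm]
    have push : ∀ b : CosetVertex M₁ M₂, (∀ c e, (Γ).Adj b c → (Γ).Adj c e → vertexZ 2 e ≤ centralizer {d}) →
        ∀ c e, (Γ).Adj (x • b) c → (Γ).Adj c e → vertexZ 2 e ≤ centralizer {d} := by
      intro b hb' c e hc he z hz
      have hc' : (Γ).Adj b (x⁻¹ • c) := by simpa using cosetGraph_adj_smul hc x⁻¹
      have h1 := h.Z_conj (g := x⁻¹) hz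
      rw [inv_inv] at h1
      have h2 : Commute (x⁻¹ * z * x) d :=
        mem_centralizer_singleton_iff.mp (hb' _ _ hc' (cosetGraph_adj_smul he x⁻¹) h1)
      have h3 := (hdx.mul_left h2).mul_left hdx.inv_left
      rw [show x * (x⁻¹ * z * x) * x⁻¹ = z by group] at h3
      exact mem_centralizer_singleton_iff.mpr h3.eq
    have hle : Uv (p 3) ≤ centralizer {d} := U_le fun b c e hb' hc he => by
      rcases hall3 b hb' with rfl | rfl | rfl
      · exact push _ base c e (by rw [hx2]; exact hc) he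
      · exact base c e hc he
      · exact push _ (push _ base) c e (by rw [hx2, hxa]; exact hc) he
    exact fun z hz => mem_centralizer_singleton_iff.mp (hle hz)
  refine ⟨?_, fun E hE hEQ => ?_, ?_⟩
  · have hzc : ∀ d ∈ D, d * t' * d⁻¹ * t'⁻¹ ∈ vertexZ 2 (a • vc) := fun d hd => by
      have hv' := (H₀.inv_mem haH).2 d hd.2
      rw [inv_inv] at hv'
      have hdt : d * t * d⁻¹ = t := by rw [(h.K_commute hd.1 ht0V).eq, mul_inv_cancel_right]
      convert h.Z_conj (g := a) (hVcomm _ hv') using 1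
      calc d * t' * d⁻¹ * t'⁻¹
          = a * ((a⁻¹ * d * a * d⁻¹) * (d * t * d⁻¹) * (a⁻¹ * d * a * d⁻¹)⁻¹ * t⁻¹) * a⁻¹ := by
            rw [ht'def]; group
        _ = _ := by rw [hdt]
    have hcv : ¬ Al (a • vc) := fun e => hvcB ((al_smul a vc).mp e)
    refine (card_le_two_mul_centralizer (hs _ hcv) hzc).trans (Nat.mul_le_mul_left 2 ?_)
    haveI : Finite ↥(D ⊓ Nv (p 3)) := Finite.of_injective _ (Subgroup.inclusion_injective inf_le_left)
    exact Subgroup.card_le_of_le hD3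
  · have ht'N : t' ∈ normalizer (E : Set X) := by
      refine mem_normalizer_iff.mpr fun y => ?_
      have hfix : ∀ e ∈ E, t' * e * t'⁻¹ = e := fun e he => by
        rw [mem_centralizer_iff.mp (hE he).2 t' ht'U, mul_inv_cancel_right]
      refine ⟨fun hy => by rw [hfix y hy]; exact hy, fun hy => ?_⟩
      have e1 := hfix _ hy
      rwa [mul_left_cancel (mul_right_cancel e1)] at hy
    have hQ3N : vertexQ 2 (p 3) ≤ normalizer (E : Set X) := by
      intro x hx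
      by_cases hx2 : x ∈ vertexQ 2 (p 2)
      · exact hEQ hx2
      have hne : t'⁻¹ • p 2 ≠ p 2 := fun e => h.smul_ne h3a h32 ha2 ht'T ht'Q (inv_smul_eq_iff.mp e).symm
      have h3i : (Γ).Adj (p 3) (t'⁻¹ • p 2) :=
        adj_smul_of_mem h32 (by rw [inv_smul_eq_iff]; exact (ht'T.1 : t' • p 3 = p 3).symm)
      obtain ⟨r, hr, hr2, hrn⟩ := h.exists_branch (by omega) hv3 h3i h32 hne
      set r₀ := t' * r * t'⁻¹ with hr0def
      have hr0 : r₀ ∉ vertexQ 2 (p 2) := fun e => hrn (by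
        have := h.Q_conj (g := t'⁻¹) e
        rwa [inv_inv, hr0def, show t'⁻¹ * (t' * r * t'⁻¹) * t' = r by group] at this)
      have hr03 : r₀ ∈ vertexQ 2 (p 3) := conj_mem_Q ht'T.1 hr
      have h1 := h.inv_mul_mem_Q h23 (edge_comm (p 3) (p 2) ▸ h.Q_le_edge h32 hr03)
        (edge_comm (p 3) (p 2) ▸ h.Q_le_edge h32 hx) hr0 hx2
      rw [show x = r₀ * (r₀⁻¹ * x) by group]
      exact mul_mem (mul_mem (mul_mem ht'N (hEQ hr2)) (inv_mem ht'N)) (hEQ h1)
    have ht2 : t ∈ vertexQ 2 (p 2) := h.walk_Q hp.pth (i := 0) (j := 2) (by omega) (by omega) (by omega) (by omega) ht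
    refine h.stab_le_of h32 (fun x hx => ?_) ht'N (ht'T.1) (h.smul_ne h3a h32 ha2 ht'T ht'Q)
    by_cases hx3 : x ∈ vertexQ 2 (p 3)
    · exact hQ3N hx3
    · rw [show x = t * (t⁻¹ * x) by group]
      exact mul_mem (hEQ ht2) (hQ3N (h.inv_mul_mem_Q h32 htT hx htQ hx3))
  · haveI := h.finQ (p 2)
    haveI : Finite ↥(vertexZ 2 (p 2)) := Finite.of_injective _ (Subgroup.inclusion_injective (h.Z_le_Q (p 2)))
    refine (card_le_card_mul_centralizer fun k hk => hQcomm k (hK2 hk) (hK3 hk)).trans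
      (Nat.mul_le_mul (h.card_Z_al_le hs hA2) (Subgroup.card_le_of_le ?_))
    rintro k ⟨hk, hkt⟩
    have hkt' : Commute k t := mem_centralizer_singleton_iff.mp hkt
    have hk1 : k • p 1 = p 1 := h.Q_smul h12.symm (hK2 hk)
    have hk0 : k • p 0 = p 0 := by_contra fun e => by
      have h1 := h.Z_conj (g := k) ht
      rw [hkt'.eq, mul_inv_cancel_right] at h1
      exact ht1 (h.mem_Z_be_of_two (by omega) hv1 h01.symm (adj_smul_of_mem h01.symm hk1) (Ne.symm e) ht h1)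
    have hkQ : k ∈ vertexQ 2 (p 1) := h.mem_Q_of_fix h01.symm h12 h02 hk1 hk0 (h.Q_smul_self (hK2 hk))
    have hkZ : vertexZ 2 (p 0) ≤ centralizer {k} := fun z hz => by
      refine mem_centralizer_singleton_iff.mpr (?_ : Commute z k)
      have hc1 : ∀ y ∈ vertexZ 2 (p 1), Commute y k := fun y hy => (h.Z_be_commute hv1 hk1 hy).symm
      by_cases hz1 : z ∈ vertexZ 2 (p 1)
      · exact hc1 z hz1
      · have := (hc1 _ (h.mul_mem_Z_be hs h01 hp.pth.al hz ht hz1 ht1)).mul_left hkt'.symm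
        rwa [mul_assoc, h.Z_sq ht, mul_one] at this
    refine ⟨⟨hkQ, mem_centralizer_iff.mpr fun z hz => ?_⟩, hk⟩
    have hle : vertexZ 2 (p 0) ⊔ vertexZ 2 (p 2) ≤ centralizer {k} :=
      sup_le hkZ (fun y hy => mem_centralizer_singleton_iff.mpr (h.Z_commute_Q hy (hK2 hk)).eq.symm)
    exact mem_centralizer_singleton_iff.mp (hle (h.V_small hb ho hv1 h01.symm h12 h02 hz))

theorem bound_three (hb3 : b₀ = 3) : Nat.card ↥(M₁ ⊓ M₂) ≤ 2 ^ 7 := by
  have ho : Odd b₀ := by rw [hb3]; decide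
  have hb : 3 ≤ b₀ := by omega
  obtain ⟨p, hp⟩ := h.exists_DC hb ho
  obtain ⟨a3, n3, k3⟩ := h.three_side hb3 ho hp
  obtain ⟨a1, n1, -⟩ := h.three_side hb3 ho (hp.rev ho)
  simp only [hb3, show (3:ℕ) + 1 - 1 = 3 from rfl, show (3:ℕ) + 1 - 3 = 1 from rfl,
    show (3:ℕ) + 1 - 2 = 2 from rfl] at a1 n1
  rw [inf_comm (Kv (p 3)) (Kv (p 1))] at a1
  have h12 := hp.pth.adj 1 (by omega)
  have h23 : (Γ).Adj (p 2) (p 3) := hp.pth.adj 2 (by omega)
  have h13 : p 1 ≠ p 3 := hp.pth.nb 1 (by omega)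
  have h24 : p 2 ≠ p 4 := hp.pth.nb 2 (by omega)
  have h34 := hp.pth.adj 3 (by omega)
  have hA2 : Al (p 2) := (hp.pth.al_iff (by omega)).mpr even_two
  set E := Nv (p 3) ⊓ Nv (p 1) with hE
  have hEQ : vertexQ 2 (p 2) ≤ normalizer (E : Set X) := Core.le_normalizer_iff_conj_mem.mpr fun g hg x hx =>
    ⟨(mem_normalizer_iff.mp (h.stab_le_normalizer_N (p 3) (h.Q_smul h23 hg)) x).mp hx.1,
      (mem_normalizer_iff.mp (h.stab_le_normalizer_N (p 1) (h.Q_smul h12.symm hg)) x).mp hx.2⟩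
  have e3 := n3 E inf_le_left hEQ
  have e1 := n1 E inf_le_right hEQ
  have e2 : stabilizer X (p 2) ≤ normalizer (E : Set X) :=
    h.edge_sup h12.symm h23 h13 (fun x hx => e1 hx.2) (fun x hx => e3 hx.2)
  have hbot : E = ⊥ := h.eq_bot_of_normalized h23
    (fun x hx => h.Q_le_edge h23 (h.K_le_Q (not_al_of_adj h23 hA2) h23.symm hx.1.1)) e2 e3
  haveI := h.finQ (p 1)
  haveI := h.finQ (p 2)
  set D := Kv (p 1) ⊓ Kv (p 3) with hD
  haveI : Finite ↥D :=
    Finite.of_injective _ (Subgroup.inclusion_injective ((inf_le_left : D ≤ Kv (p 1)).trans inf_le_left))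
  have hD4 := card_le_mul_of_inf (H := D) inf_le_left inf_le_left a3 a1
  have hsub : (D ⊓ Nv (p 3)) ⊓ (D ⊓ Nv (p 1)) ≤ E := fun x hx => ⟨hx.1.2, hx.2.2⟩
  rw [hbot] at hsub
  rw [le_bot_iff.mp hsub, card_bot] at hD4
  have hK : vertexQ 2 (p 2) ⊓ vertexQ 2 (p 3) ⊓ vertexQ 2 (p 4) ≤ Kv (p 3) := fun x hx =>
    h.mem_K hb ho (not_al_of_adj h23 hA2) h23.symm h34 h24 hx.1.2 hx.1.1 hx.2
  haveI : Finite ↥(vertexQ 2 (p 2) ⊓ vertexQ 2 (p 3)) :=
    Finite.of_injective _ (Subgroup.inclusion_injective inf_le_left)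
  haveI := h.finQ (p 3)
  haveI : Finite ↥(Kv (p 3)) :=
    Finite.of_injective _ (Subgroup.inclusion_injective (inf_le_left : Kv (p 3) ≤ vertexQ 2 (p 3)))
  have f1 := h.card_Q_le_two_mul h23
  have f2 : Nat.card ↥(vertexQ 2 (p 2) ⊓ vertexQ 2 (p 3)) ≤
      2 * Nat.card ↥(vertexQ 2 (p 2) ⊓ vertexQ 2 (p 3) ⊓ vertexQ 2 (p 4)) :=
    card_le_two_mul fun x hx y hy hx' hy' => h.inv_mul_mem_Q h34.symm
      (edge_comm (p 3) (p 4) ▸ h.Q_le_edge h34 hx.2) (edge_comm (p 3) (p 4) ▸ h.Q_le_edge h34 hy.2) hx' hy'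
  have f3 := Subgroup.card_le_of_le hK
  exact (h.card_T_le (n := 64) (δ := p 2) (by omega)).trans (by norm_num)

end Hyp

end Cfsg.Lib.Local.ThreeThree
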