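import Cfsg.Agent.Lib.Local.AmalgamMethod
import Cfsg.Agent.Lib.Local.VertexVIterNoncentral
import Mathlib.GroupTheory.Index

/-!
# Goldschmidt's amalgams of index (3, 3): the graph seen from one edge

Two finite groups with residues of order six, characteristic two, `Ω₁Z(T)` central in the second
group and noncentral in the first one.
-/

set_option autoImplicit false
set_option linter.style.haveILetI false
set_option linter.unusedSectionVars false

namespace Cfsg.Lib.Local.ThreeThree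

open Subgroup Cfsg Cfsg.Lib Cfsg.Lib.Local MulAction

variable {X : Type*} [Group X]

/-- One vertex group with the Sylow subgroup it shares. -/
structure Res (M T : Subgroup X) : Prop where
  le : T ≤ M
  card_M : Nat.card M = 3 * Nat.card T
  card_T : Nat.card T = 2 * Nat.card (pCoreOf 2 M)

/-- The hypotheses on the pair. -/
structure Hyp (M₁ M₂ : Subgroup X) : Prop where
  pair : IsCharPAmalgamPair 2 M₁ M₂
  isPGroup : IsPGroup 2 ↥(M₁ ⊓ M₂)
  left : Res M₁ (M₁ ⊓ M₂)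
  right : Res M₂ (M₁ ⊓ M₂)
  noncentral : ¬ M₁ ≤ centralizer (omegaOne 2 ((M₁ ⊓ M₂) ⊓ centralizer ((M₁ ⊓ M₂ : Subgroup X) : Set X)) : Set X)
  central : M₂ ≤ centralizer (omegaOne 2 ((M₁ ⊓ M₂) ⊓ centralizer ((M₁ ⊓ M₂ : Subgroup X) : Set X)) : Set X)

theorem Res.map {M T : Subgroup X} [Finite M] (h : Res M T) (e : X ≃* X) :
    Res (M.map e.toMonoidHom) (T.map e.toMonoidHom) := by
  refine ⟨map_mono h.le, ?_, ?_⟩
  · rw [card_map_equiv, card_map_equiv, h.card_M]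
  · rw [pCoreOf_map, card_map_equiv, card_map_equiv, h.card_T]

variable {M₁ M₂ : Subgroup X}

/-- The vertices of the first kind (cosets of `M₁`). -/
def Al (v : CosetVertex M₁ M₂) : Prop := v.isLeft = true

local notation "Γ" => cosetGraph M₁ M₂

theorem al_smul (g : X) (v : CosetVertex M₁ M₂) : Al (g • v) ↔ Al v := by
  rcases v with c | c <;> exact Iff.rfl

theorem al_adj {a c : CosetVertex M₁ M₂} (hac : (Γ).Adj a c) : Al a ↔ ¬ Al c := by
  obtain ⟨x, ⟨rfl, rfl⟩ | ⟨rfl, rfl⟩⟩ := cosetGraph_adj.mp hac <;> simp [Al]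

namespace Hyp

variable (h : Hyp M₁ M₂)
include h

theorem fin (δ : CosetVertex M₁ M₂) : Finite ↥(stabilizer X δ) :=
  finite_stabilizer h.pair.2.1 h.pair.2.2.1 δ

theorem connected : (Γ).Connected :=
  cosetGraph_connected h.pair.1.1

theorem side {δ μ : CosetVertex M₁ M₂} (hμ : (Γ).Adj δ μ) :
    Res (stabilizer X δ) (edgeStabilizer δ μ) ∧ IsPGroup 2 ↥(edgeStabilizer δ μ) := by
  haveI := h.pair.2.1
  haveI := h.pair.2.2.1
  obtain ⟨x, he, hcase⟩ := edgeStabilizer_of_adj hμ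
  refine ⟨?_, by rw [he]; exact h.isPGroup.map _⟩
  rw [he]
  rcases hcase with ⟨hd, -⟩ | ⟨hd, -⟩ <;> rw [hd]
  exacts [h.left.map _, h.right.map _]

omit h in
theorem exists_adj (δ : CosetVertex M₁ M₂) : ∃ μ, (Γ).Adj δ μ := by
  rcases δ with c | c <;> obtain ⟨x, rfl⟩ := QuotientGroup.mk_surjective c
  exacts [⟨_, cosetGraph_adj.mpr ⟨x, Or.inl ⟨rfl, rfl⟩⟩⟩, ⟨_, cosetGraph_adj.mpr ⟨x, Or.inr ⟨rfl, rfl⟩⟩⟩]

omit h in
theorem exists_smul_al {v w : CosetVertex M₁ M₂} (hv : Al v) (hw : Al w) : ∃ g : X, g • v = w := by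
  rcases v with c | c
  · rcases w with d | d
    · obtain ⟨x, rfl⟩ := QuotientGroup.mk_surjective c
      obtain ⟨y, rfl⟩ := QuotientGroup.mk_surjective d
      exact ⟨y * x⁻¹, congrArg Sum.inl (congrArg QuotientGroup.mk (inv_mul_cancel_right y x) :)⟩
    · simp [Al] at hw
  · simp [Al] at hv

omit h in
theorem edge_comm (δ μ : CosetVertex M₁ M₂) :
    edgeStabilizer δ μ = edgeStabilizer μ δ := inf_comm _ _

theorem Q_le_edge {δ μ : CosetVertex M₁ M₂} (hμ : (Γ).Adj δ μ) :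
    vertexQ 2 δ ≤ edgeStabilizer δ μ :=
  le_inf (map_subtype_le _)
    ((le_neighbourKernel_iff.mp (vertexQ_le_neighbourKernel h.pair δ)).2 μ hμ)

theorem finQ (δ : CosetVertex M₁ M₂) : Finite ↥(vertexQ 2 δ) :=
  haveI := h.fin δ
  Finite.of_injective _ (Subgroup.inclusion_injective
    (map_subtype_le _ : vertexQ 2 δ ≤ stabilizer X δ))

theorem finT (δ μ : CosetVertex M₁ M₂) : Finite ↥(edgeStabilizer δ μ) :=
  haveI := h.fin δ
  Finite.of_injective _ (Subgroup.inclusion_injective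
    (inf_le_left : edgeStabilizer δ μ ≤ stabilizer X δ))

omit h in
theorem stab_le_normalizer_Q (δ : CosetVertex M₁ M₂) :
    stabilizer X δ ≤ normalizer (vertexQ 2 δ : Set X) := by
  refine Core.le_normalizer_iff_conj_mem.mpr ?_
  rintro g hg _ ⟨q, hq, rfl⟩
  exact ⟨⟨g, hg⟩ * q * ⟨g, hg⟩⁻¹, (inferInstance : (pCore 2 ↥(stabilizer X δ)).Normal).conj_mem q hq _, rfl⟩

theorem Q_isPGroup (δ : CosetVertex M₁ M₂) : IsPGroup 2 ↥(vertexQ 2 δ) :=
  haveI := h.fin δ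
  (Core.pCore_isPGroup 2 _).map _

/-- A normal 2-subgroup of a vertex stabilizer lies in `Q`. -/
theorem le_Q {δ : CosetVertex M₁ M₂} {N : Subgroup X} (hle : N ≤ stabilizer X δ)
    (hn : stabilizer X δ ≤ normalizer (N : Set X)) (hp : IsPGroup 2 N) : N ≤ vertexQ 2 δ := by
  haveI : (N.subgroupOf (stabilizer X δ)).Normal := (normal_subgroupOf_iff_le_normalizer hle).mpr hn
  intro x hx
  exact ⟨⟨x, hle hx⟩, Core.le_pCore (N := N.subgroupOf (stabilizer X δ)) hp.comap_subtype (mem_subgroupOf.mpr hx), rfl⟩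

theorem relindex_Q {δ μ : CosetVertex M₁ M₂} (hμ : (Γ).Adj δ μ) :
    (vertexQ 2 δ).relIndex (edgeStabilizer δ μ) = 2 := by
  haveI := h.finQ δ
  have h1 := Core.card_mul_relIndex (h.Q_le_edge hμ)
  rw [(h.side hμ).1.card_T, Nat.mul_comm 2] at h1
  exact Nat.eq_of_mul_eq_mul_left Nat.card_pos h1

theorem exists_notMem_Q {δ μ : CosetVertex M₁ M₂} (hμ : (Γ).Adj δ μ) :
    ∃ t ∈ edgeStabilizer δ μ, t ∉ vertexQ 2 δ := by
  refine SetLike.not_le_iff_exists.mp fun hle => ?_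
  have := relIndex_eq_one.mpr hle
  rw [h.relindex_Q hμ] at this
  omega

/-- Two elements of an edge group outside `Q` differ by an element of `Q`. -/
theorem inv_mul_mem_Q {δ μ : CosetVertex M₁ M₂} (hμ : (Γ).Adj δ μ) {a b : X}
    (ha : a ∈ edgeStabilizer δ μ) (hb : b ∈ edgeStabilizer δ μ) (ha' : a ∉ vertexQ 2 δ)
    (hb' : b ∉ vertexQ 2 δ) : a⁻¹ * b ∈ vertexQ 2 δ := by
  have h2 : ((vertexQ 2 δ).subgroupOf (edgeStabilizer δ μ)).index = 2 := h.relindex_Q hμ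
  have h3 := (mul_mem_iff_of_index_two h2 (a := ⟨a, ha⟩⁻¹) (b := ⟨b, hb⟩)).mpr
    (iff_of_false (fun hm => ha' (by simpa [mem_subgroupOf] using hm)) (fun hm => hb' hm))
  exact h3

/-- The edge group is a maximal subgroup of the vertex stabilizer. -/
theorem eq_stab_of_lt {δ μ : CosetVertex M₁ M₂} (hμ : (Γ).Adj δ μ) {N : Subgroup X}
    (hT : edgeStabilizer δ μ ≤ N) (hN : N ≤ stabilizer X δ) (hne : ¬ N ≤ edgeStabilizer δ μ) :
    N = stabilizer X δ := by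
  haveI := h.fin δ
  haveI := h.finT δ μ
  haveI : Finite N := Finite.of_injective _ (Subgroup.inclusion_injective hN)
  refine Subgroup.eq_of_le_of_card_ge hN ?_
  have h1 := Core.card_mul_relIndex hT
  have h2 := Core.card_mul_relIndex hN
  have hd : (edgeStabilizer δ μ).relIndex N ∣ 3 := by
    refine Nat.dvd_of_mul_dvd_mul_left (Nat.card_pos (α := ↥(edgeStabilizer δ μ))) ⟨N.relIndex (stabilizer X δ), ?_⟩
    rw [h1, h2, (h.side hμ).1.card_M, mul_comm]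
  rcases (Nat.dvd_prime Nat.prime_three).mp hd with e | e
  · exact absurd (relIndex_eq_one.mp e) hne
  · rw [← h1, e, (h.side hμ).1.card_M, mul_comm]

theorem edge_not_normal {δ μ : CosetVertex M₁ M₂} (hμ : (Γ).Adj δ μ) :
    ¬ stabilizer X δ ≤ normalizer (edgeStabilizer δ μ : Set X) := fun hn => by
  have := relIndex_eq_one.mpr (h.le_Q inf_le_left hn (h.side hμ).2)
  rw [h.relindex_Q hμ] at this
  omega

theorem normalizer_edge {δ μ : CosetVertex M₁ M₂} (hμ : (Γ).Adj δ μ) {g : X}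
    (hg : g ∈ stabilizer X δ) (hn : g ∈ normalizer (edgeStabilizer δ μ : Set X)) :
    g ∈ edgeStabilizer δ μ := by
  by_contra hgT
  refine h.edge_not_normal hμ ?_
  have e := h.eq_stab_of_lt hμ
    (N := stabilizer X δ ⊓ normalizer (edgeStabilizer δ μ : Set X))
    (le_inf inf_le_left le_normalizer) inf_le_left fun hle => hgT (hle ⟨hg, hn⟩)
  exact e.ge.trans inf_le_right

theorem exists_two_neighbours {δ μ : CosetVertex M₁ M₂} (hμ : (Γ).Adj δ μ) :
    ∃ ν, (Γ).Adj δ ν ∧ ν ≠ μ := by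
  obtain ⟨g, hg, hgn⟩ := SetLike.not_le_iff_exists.mp (h.edge_not_normal hμ)
  have he : g • δ = δ := hg
  refine ⟨g • μ, he ▸ cosetGraph_adj_smul hμ g, fun e => hgn (le_normalizer ⟨hg, e⟩)⟩

/-- Two edge groups at a vertex meet in `Q`. -/
theorem edge_inf {δ μ ν : CosetVertex M₁ M₂} (hμ : (Γ).Adj δ μ) (hν : (Γ).Adj δ ν) (hne : μ ≠ ν) :
    edgeStabilizer δ μ ⊓ edgeStabilizer δ ν = vertexQ 2 δ := by
  refine le_antisymm (fun x hx => ?_) (le_inf (h.Q_le_edge hμ) (h.Q_le_edge hν))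
  by_contra hxQ
  obtain ⟨g, hg, hgν⟩ := exists_smul_eq_of_adj hμ hν
  have hle : edgeStabilizer δ μ ≤ edgeStabilizer δ ν := fun y hy => by
    by_cases hyQ : y ∈ vertexQ 2 δ
    · exact h.Q_le_edge hν hyQ
    · have h1 := (edgeStabilizer δ ν).mul_mem hx.2
        (h.Q_le_edge hν (h.inv_mul_mem_Q hμ hx.1 hy hxQ hyQ))
      rwa [mul_inv_cancel_left] at h1
  haveI := h.finT δ ν
  have heq := Subgroup.eq_of_le_of_card_ge hle
    (by rw [(h.side hμ).1.card_T, (h.side hν).1.card_T])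
  refine hne (Eq.trans ?_ hgν)
  refine (mem_stabilizer_iff.mp (h.normalizer_edge hμ hg
    (Core.mem_normalizer_iff_map_conj.mpr ?_)).2).symm
  rw [edgeStabilizer, map_inf _ _ _ (MulAut.conj g).injective,
    ← stabilizer_smul_eq_stabilizer_map_conj, ← stabilizer_smul_eq_stabilizer_map_conj, hgν,
    mem_stabilizer_iff.mp hg]
  exact heq.symm

/-- Two edge groups at a vertex generate the stabilizer. -/
theorem edge_sup {δ μ ν : CosetVertex M₁ M₂} (hμ : (Γ).Adj δ μ) (hν : (Γ).Adj δ ν) (hne : μ ≠ ν)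
    {N : Subgroup X} (h1 : edgeStabilizer δ μ ≤ N) (h2 : edgeStabilizer δ ν ≤ N) :
    stabilizer X δ ≤ N := by
  obtain ⟨t, ht, htQ⟩ := h.exists_notMem_Q hν
  refine (h.eq_stab_of_lt hμ (N := N ⊓ stabilizer X δ) (le_inf h1 inf_le_left) inf_le_right
    fun hle => htQ ((h.edge_inf hμ hν hne).le ⟨hle ⟨h2 ht, ht.1⟩, ht⟩)).ge.trans inf_le_left

theorem neighbourKernel_eq (δ : CosetVertex M₁ M₂) : neighbourKernel δ = vertexQ 2 δ := by
  refine le_antisymm (fun x hx => ?_) (vertexQ_le_neighbourKernel h.pair δ)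
  obtain ⟨μ, hμ⟩ : ∃ μ, (Γ).Adj δ μ := by
    rcases δ with c | c <;> obtain ⟨x, rfl⟩ := QuotientGroup.mk_surjective c
    exacts [⟨_, cosetGraph_adj.mpr ⟨x, Or.inl ⟨rfl, rfl⟩⟩⟩, ⟨_, cosetGraph_adj.mpr ⟨x, Or.inr ⟨rfl, rfl⟩⟩⟩]
  obtain ⟨ν, hν, hne⟩ := h.exists_two_neighbours hμ
  obtain ⟨h1, h2⟩ := mem_neighbourKernel.mp hx
  exact (h.edge_inf hν hμ hne).le ⟨⟨h1, h2 ν hν⟩, ⟨h1, h2 μ hμ⟩⟩

/-- There are only three neighbours. -/
theorem neighbour_eq {δ μ ν ρ σ : CosetVertex M₁ M₂} (hμ : (Γ).Adj δ μ) (hν : (Γ).Adj δ ν)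
    (hρ : (Γ).Adj δ ρ) (hσ : (Γ).Adj δ σ) (h1 : μ ≠ ν) (h2 : μ ≠ ρ) (h3 : ν ≠ ρ) :
    σ = μ ∨ σ = ν ∨ σ = ρ := by
  haveI := h.fin δ
  haveI := h.finT δ μ
  have hmem : ∀ τ, (Γ).Adj δ τ → τ ∈ MulAction.orbit ↥(stabilizer X δ) μ := fun τ hτ => by
    obtain ⟨g, hg, e⟩ := exists_smul_eq_of_adj hμ hτ
    exact ⟨⟨g, hg⟩, e⟩
  have hstab : MulAction.stabilizer ↥(stabilizer X δ) μ =
      (edgeStabilizer δ μ).subgroupOf (stabilizer X δ) := by
    ext g
    simp only [mem_subgroupOf, mem_inf, mem_stabilizer_iff]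
    exact ⟨fun e => ⟨mem_stabilizer_iff.mp g.2, e⟩, fun e => e.2⟩
  have hidx : (edgeStabilizer δ μ).relIndex (stabilizer X δ) = 3 := by
    have h4 := Core.card_mul_relIndex (inf_le_left : edgeStabilizer δ μ ≤ stabilizer X δ)
    rw [(h.side hμ).1.card_M, Nat.mul_comm 3] at h4
    exact Nat.eq_of_mul_eq_mul_left Nat.card_pos h4
  have hcard : (MulAction.orbit ↥(stabilizer X δ) μ).ncard = 3 := by
    refine (MulAction.index_stabilizer ↥(stabilizer X δ) μ).symm.trans ?_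
    exact (congrArg Subgroup.index hstab).trans hidx
  by_contra hcon
  simp only [not_or] at hcon
  obtain ⟨c1, c2, c3⟩ := hcon
  have hle : ({σ, μ, ν, ρ} : Set (CosetVertex M₁ M₂)).ncard ≤ 3 := by
    rw [← hcard]
    refine Set.ncard_le_ncard ?_ (Set.finite_of_ncard_pos (by rw [hcard]; omega))
    rintro v (rfl | rfl | rfl | rfl)
    exacts [hmem _ hσ, hmem _ hμ, hmem _ hν, hmem _ hρ]
  rw [Set.ncard_insert_of_notMem (by simp [c1, c2, c3]), Set.ncard_insert_of_notMem (by simp [h1, h2]),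
    Set.ncard_pair h3] at hle
  omega

/-- A subgroup of an edge normalized by both ends is trivial. -/
theorem eq_bot_of_normalized {δ μ : CosetVertex M₁ M₂} (hμ : (Γ).Adj δ μ) {N : Subgroup X}
    (hle : N ≤ edgeStabilizer δ μ) (hδ : stabilizer X δ ≤ normalizer (N : Set X))
    (hμ' : stabilizer X μ ≤ normalizer (N : Set X)) : N = ⊥ := by
  refine eq_bot_of_transitive h.pair.1 hμ hle (fun a b ha hb => ?_) (fun a b ha hb => ?_)
  · obtain ⟨g, hg, e⟩ := exists_smul_eq_of_adj ha hb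
    exact ⟨g, ⟨hδ hg, hg⟩, e⟩
  · obtain ⟨g, hg, e⟩ := exists_smul_eq_of_adj ha hb
    exact ⟨g, ⟨hμ' hg, hg⟩, e⟩

theorem Q_ne {δ μ : CosetVertex M₁ M₂} (hμ : (Γ).Adj δ μ) : vertexQ 2 δ ≠ vertexQ 2 μ := by
  intro e
  have h1 := h.eq_bot_of_normalized hμ (h.Q_le_edge hμ) (stab_le_normalizer_Q δ)
    (e ▸ stab_le_normalizer_Q μ)
  obtain ⟨t, ht, htQ⟩ := h.exists_notMem_Q hμ
  refine htQ (inf_centralizer_vertexQ_le h.pair δ ⟨ht.1, ?_⟩)
  rw [h1]
  exact mem_centralizer_iff.mpr fun x hx => by simp [mem_bot.mp hx]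

theorem card_Q_eq {δ μ : CosetVertex M₁ M₂} (hμ : (Γ).Adj δ μ) :
    Nat.card ↥(vertexQ 2 δ) = Nat.card ↥(vertexQ 2 μ) := by
  have h1 := (h.side hμ).1.card_T
  have h2 := (h.side hμ.symm).1.card_T
  rw [edge_comm] at h2
  rw [vertexQ, vertexQ]
  omega

theorem not_Q_le {δ μ : CosetVertex M₁ M₂} (hμ : (Γ).Adj δ μ) : ¬ vertexQ 2 δ ≤ vertexQ 2 μ := by
  haveI := h.finQ μ
  exact fun hle => h.Q_ne hμ (Subgroup.eq_of_le_of_card_ge hle (h.card_Q_eq hμ).ge)

theorem exists_Q_sub {δ μ : CosetVertex M₁ M₂} (hμ : (Γ).Adj δ μ) :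
    ∃ q ∈ vertexQ 2 δ, q ∉ vertexQ 2 μ := SetLike.not_le_iff_exists.mp (h.not_Q_le hμ)

/-- An element of an edge group outside `Q` moves every other neighbour. -/
theorem smul_ne {δ μ ν : CosetVertex M₁ M₂} (hμ : (Γ).Adj δ μ) (hν : (Γ).Adj δ ν) (hne : μ ≠ ν)
    {t : X} (ht : t ∈ edgeStabilizer δ μ) (htQ : t ∉ vertexQ 2 δ) : t • ν ≠ ν := fun e =>
  htQ ((h.edge_inf hμ hν hne).le ⟨ht, ⟨ht.1, e⟩⟩)

theorem isSylow_edge {δ μ : CosetVertex M₁ M₂} (hμ : (Γ).Adj δ μ) :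
    IsSylowIn 2 (edgeStabilizer δ μ) (stabilizer X δ) := by
  haveI := h.fin δ
  haveI := h.finT δ μ
  obtain ⟨hs, hp⟩ := h.side hμ
  obtain ⟨k, hk⟩ := IsPGroup.iff_card.mp hp
  refine isSylowIn_of_card inf_le_left hp (le_of_eq ?_)
  rw [hs.card_M, hk, Nat.factorization_mul (by norm_num) (by positivity),
    Nat.Prime.factorization Nat.prime_three, Nat.Prime.factorization_pow Nat.prime_two]
  simp

theorem Z_le_Q (δ : CosetVertex M₁ M₂) : vertexZ 2 δ ≤ vertexQ 2 δ :=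
  vertexZ_le_vertexQ h.pair δ

/-- `Z_δ` is central in `Q_δ`. -/
theorem Z_commute_Q {δ : CosetVertex M₁ M₂} {z q : X} (hz : z ∈ vertexZ 2 δ) (hq : q ∈ vertexQ 2 δ) :
    Commute q z := by
  have hle : vertexZ 2 δ ≤ centralizer (vertexQ 2 δ : Set X) := iSup_le fun S =>
    (closure_le _).mpr fun x hx =>
      centralizer_le (IsSylowIn.vertexQ_le h.pair (δ := δ) ⟨S, rfl⟩) hx.1.2
  exact mem_centralizer_iff.mp (hle hz) q hq

theorem Z_comm {δ : CosetVertex M₁ M₂} {x y : X} (hx : x ∈ vertexZ 2 δ) (hy : y ∈ vertexZ 2 δ) :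
    Commute x y := h.Z_commute_Q hy (h.Z_le_Q δ hx)

theorem Z_sq {δ : CosetVertex M₁ M₂} {x : X} (hx : x ∈ vertexZ 2 δ) : x * x = 1 := by
  let S : Subgroup X :=
    { carrier := {x | x ∈ vertexZ 2 δ ∧ x * x = 1}
      one_mem' := ⟨one_mem _, one_mul 1⟩
      mul_mem' := fun {a b} ha hb => ⟨mul_mem ha.1 hb.1, by
        rw [(h.Z_comm hb.1 ha.1).mul_mul_mul_comm, ha.2, hb.2, one_mul]⟩
      inv_mem' := fun {a} ha => ⟨inv_mem ha.1, by rw [← mul_inv_rev, ha.2, inv_one]⟩ }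
  have hle : vertexZ 2 δ ≤ S := iSup_le fun P => (closure_le _).mpr fun x hx =>
    ⟨le_iSup (fun S : Sylow 2 (stabilizer X δ) => omegaOne 2 (((S : Subgroup _).map (stabilizer X δ).subtype) ⊓
      centralizer (((S : Subgroup _).map (stabilizer X δ).subtype : Subgroup X) : Set X))) P
      (subset_closure hx), by rw [← pow_two]; exact hx.2⟩
  exact (hle hx).2

theorem Z_inv {δ : CosetVertex M₁ M₂} {x : X} (hx : x ∈ vertexZ 2 δ) : x⁻¹ = x :=
  inv_eq_of_mul_eq_one_right (h.Z_sq hx)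

omit h in
theorem stabilizer_map (g : X) (δ : CosetVertex M₁ M₂) :
    (stabilizer X δ).map (MulAut.conj g).toMonoidHom = stabilizer X (g • δ) :=
  (stabilizer_smul_eq_stabilizer_map_conj g δ).symm

theorem Z_map (g : X) (δ : CosetVertex M₁ M₂) :
    (vertexZ 2 δ).map (MulAut.conj g).toMonoidHom = vertexZ 2 (g • δ) := by
  refine le_antisymm (VertexVIterNoncentral.vertexZ_map_le h.pair g δ) fun x hx => ?_
  have := VertexVIterNoncentral.vertexZ_map_le h.pair g⁻¹ (g • δ) (mem_map_of_mem _ hx)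
  rw [inv_smul_smul] at this
  exact ⟨_, this, by simp [mul_assoc]⟩

theorem Z_conj {g x : X} {δ : CosetVertex M₁ M₂} (hx : x ∈ vertexZ 2 δ) :
    g * x * g⁻¹ ∈ vertexZ 2 (g • δ) := h.Z_map g δ ▸ mem_map_of_mem _ hx

theorem Q_map (g : X) (δ : CosetVertex M₁ M₂) :
    (vertexQ 2 δ).map (MulAut.conj g).toMonoidHom = vertexQ 2 (g • δ) := by
  haveI := h.fin δ
  rw [vertexQ, vertexQ, ← stabilizer_map g δ, pCoreOf_map]

omit h in
theorem edge_map (g : X) (δ μ : CosetVertex M₁ M₂) :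
    (edgeStabilizer δ μ).map (MulAut.conj g).toMonoidHom = edgeStabilizer (g • δ) (g • μ) := by
  rw [edgeStabilizer, edgeStabilizer, map_inf _ _ _ (MulAut.conj g).injective, stabilizer_map,
    stabilizer_map]

theorem stab_le_normalizer_Z (δ : CosetVertex M₁ M₂) :
    stabilizer X δ ≤ normalizer (vertexZ 2 δ : Set X) :=
  haveI := h.fin δ
  sylowCenterClosure_normalized _

end Hyp

end Cfsg.Lib.Local.ThreeThree
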