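import Cfsg.Agent.Lib.Local.ThreeThree.Single

/-!
# Goldschmidt's amalgams of index (3, 3): even critical distance
-/

set_option autoImplicit false
set_option linter.style.haveILetI false
set_option linter.unusedSectionVars false

namespace Cfsg.Lib.Local.ThreeThree

open Subgroup Cfsg Cfsg.Lib Cfsg.Lib.Local MulAction
open scoped commutatorElement

variable {X : Type*} [Group X] {M₁ M₂ : Subgroup X}

local notation "Γ" => cosetGraph M₁ M₂
local notation "b₀" => criticalDistance 2 M₁ M₂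

namespace Hyp

variable (h : Hyp M₁ M₂)
include h

variable {q : ℕ → CosetVertex M₁ M₂}

theorem even_two_le (he : Even b₀) : 2 ≤ b₀ := by
  have := h.b_pos
  obtain ⟨k, hk⟩ := he
  omega

theorem even_symm (he : Even b₀) (hq : Crit q) : Crit (fun i => q (b₀ - i)) := by
  refine ⟨hq.1.rev he, fun hle => hq.2 fun z hz => ?_⟩
  simp only [Nat.sub_zero, Nat.sub_self] at hle
  exact h.mem_Q_of_commute ((hq.1.al_iff le_rfl).mpr he)
    (h.walk_fix hq.1 (Nat.zero_le _) le_rfl (by omega) (by omega) hz)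
    fun w hw => (h.Z_commute_Q hz (hle hw))

theorem even_elem (he : Even b₀) (hq : Crit q) :
    ∃ t ∈ vertexZ 2 (q b₀), t ∈ edgeStabilizer (q 0) (q 1) ∧ t ∉ vertexQ 2 (q 0) := by
  have hb := h.even_two_le he
  obtain ⟨t, ht, htQ⟩ := SetLike.not_le_iff_exists.mp (h.even_symm he hq).2
  simp only [Nat.sub_zero] at ht
  simp only [Nat.sub_self] at htQ
  exact ⟨t, ht, ⟨h.walk_fix hq.1 le_rfl (Nat.zero_le _) (by omega) (by omega) ht,
    h.walk_fix hq.1 le_rfl (by omega) (by omega) (by omega) ht⟩, htQ⟩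

theorem single_even (he : Even b₀) (hq : Crit q) : Single M₁ M₂ := by
  have hb := h.even_two_le he
  obtain ⟨t, ht, htT, htQ⟩ := h.even_elem he hq
  have hadj := hq.1.adj 0 (by omega)
  have hlast : (Γ).Adj (q b₀) (q (b₀ - 1)) := by
    have := (hq.1.adj (b₀ - 1) (by omega)).symm
    rwa [Nat.sub_add_cancel (by omega)] at this
  refine h.single_of hadj hq.1.al (S := vertexQ 2 (q b₀)) (fun x hx y hy hx' hy' => ?_)
    fun x hx hxS => h.mem_Z_be_of_commute hadj hq.1.al htT htQ hx (h.Z_commute_Q ht hxS).symm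
  exact h.inv_mul_mem_Q hlast
    ⟨h.walk_fix hq.1 (Nat.zero_le _) le_rfl (by omega) (by omega) hx,
      h.walk_fix hq.1 (Nat.zero_le _) (by omega) (by omega) (by omega) hx⟩
    ⟨h.walk_fix hq.1 (Nat.zero_le _) le_rfl (by omega) (by omega) hy,
      h.walk_fix hq.1 (Nat.zero_le _) (by omega) (by omega) (by omega) hy⟩ hx' hy'

theorem even_z_le (he : Even b₀) (hq : Crit q) : vertexZ 2 (q 1) ≤ vertexZ 2 (q (b₀ - 1)) := by
  have hb := h.even_two_le he
  obtain ⟨t, ht, htT, htQ⟩ := h.even_elem he hq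
  have hadj := hq.1.adj 0 (by omega)
  obtain ⟨w, haw, hw⟩ := h.exists_two_neighbours hadj
  intro c hc
  obtain ⟨z, hz, rfl⟩ := h.comm_surj hadj haw hq.1.al hw.symm htT htQ hc
  have hza := h.Z_be_le haw hq.1.al hz
  have hzb : z • q b₀ = q b₀ := h.walk_fix hq.1 (Nat.zero_le _) le_rfl (by omega) (by omega) hza
  have hlast : (Γ).Adj (q b₀) (q (b₀ - 1)) := by
    have := (hq.1.adj (b₀ - 1) (by omega)).symm
    rwa [Nat.sub_add_cancel (by omega)] at this
  have h1 := h.comm_mem hlast ((hq.1.al_iff le_rfl).mpr he) (t := z) (z := t)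
    ⟨hzb, h.walk_fix hq.1 (Nat.zero_le _) (by omega) (by omega) (by omega) hza⟩ ht
  rw [(h.Z_comm ht (h.Z_conj_self hzb ht)).eq, h.Z_inv hza] at h1
  rw [h.Z_inv ht]
  simpa [mul_assoc] using h1

theorem even_lt_four (he : Even b₀) (hq : Crit q) : b₀ < 4 := by
  by_contra hb'
  have hb : 4 ≤ b₀ := by omega
  have hs := h.single_even he hq
  obtain ⟨t, ht, htT, htQ⟩ := h.even_elem he hq
  have hadj := hq.1.adj 0 (by omega)
  obtain ⟨w, haw, hw⟩ := h.exists_two_neighbours hadj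
  have hwv := not_al_of_adj haw hq.1.al
  have hlast : (Γ).Adj (q b₀) (q (b₀ - 1)) := by
    have := (hq.1.adj (b₀ - 1) (by omega)).symm
    rwa [Nat.sub_add_cancel (by omega)] at this
  have htw : t • w ≠ w := h.smul_ne hadj haw hw.symm htT htQ
  have hwalk : ∀ e, (Γ).Adj w e → e ≠ q 0 → Pth (b₀ + 2) (cons e (cons w q)) := fun e hwe hne =>
    hq.1.cons₂ hwe.symm haw.symm hne fun _ => hw
  have hnc : ∀ e, (Γ).Adj w e → e ≠ q 0 → ¬ Crit (cons e (cons w q)) := by
    intro e hwe hne hc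
    obtain ⟨z, hz, hz1⟩ := h.exists_ne_one w
    have h3 : cons e (cons w q) (b₀ - 1) = q (b₀ - 3) := by
      obtain ⟨k, hk⟩ : ∃ k, b₀ - 1 = k + 2 := ⟨b₀ - 3, by omega⟩
      rw [hk, show b₀ - 3 = k by omega]
      rfl
    have hz' : z ∈ vertexZ 2 (q (b₀ - 3)) := h3 ▸ h.even_z_le he hc hz
    have hodd : ¬ Al (q (b₀ - 3)) := fun e => by
      obtain ⟨k, hk⟩ := (hq.1.al_iff (by omega)).mp e
      obtain ⟨j, hj⟩ := he
      omega
    have hfix : t * z * t⁻¹ = z := by
      rw [(h.Z_be_commute hodd (h.walk_fix hq.1 le_rfl (by omega) (by omega) (by omega) ht) hz').eq,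
        mul_inv_cancel_right]
    have := h.Z_conj (g := t) hz
    rw [hfix] at this
    exact hz1 (h.eq_one_of_mem_two haw (adj_smul_of_mem haw htT.1) hq.1.al htw.symm hz this)
  -- `V_w` fixes `q (b₀ - 1)`
  have hVQ : Vv w ≤ vertexQ 2 (q (b₀ - 2)) := V_le fun e hwe => by
    rcases eq_or_ne e (q 0) with rfl | hne
    · exact h.small ((h.walk_dist hq.1 (Nat.zero_le _) (Nat.sub_le _ _)).1.trans_lt (by omega))
    · by_contra hle
      refine hnc e hwe hne ⟨(hwalk e hwe hne).mono (by omega), ?_⟩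
      have h2 : cons e (cons w q) b₀ = q (b₀ - 2) := by
        obtain ⟨k, hk⟩ : ∃ k, b₀ = k + 2 := ⟨b₀ - 2, by omega⟩
        rw [hk, Nat.add_sub_cancel]
        rfl
      rw [h2]
      exact hle
  have hprev : (Γ).Adj (q (b₀ - 1)) (q (b₀ - 2)) := by
    have := (hq.1.adj (b₀ - 2) (by omega)).symm
    rwa [show b₀ - 2 + 1 = b₀ - 1 by omega] at this
  have hVfix : ∀ z ∈ Vv w, z • q (b₀ - 1) = q (b₀ - 1) := fun z hz => h.Q_smul hprev.symm (hVQ hz)
  by_cases hV : ∀ e, (Γ).Adj w e → vertexZ 2 e ≤ vertexQ 2 (q (b₀ - 1))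
  · have h1b : vertexZ 2 (q (b₀ - 1)) ≤ Vv w := by
      have := h.even_z_le he (h.even_symm he hq)
      simp only [show b₀ - (b₀ - 1) = 1 by omega] at this
      exact this.trans ((h.Z_be_le hadj hq.1.al).trans (Z_le_V haw.symm))
    have htt := h.Z_sq ht
    have hcl : ∀ z ∈ Vv w, t * z * t⁻¹ ∈ Vv w := by
      have hle : Vv w ≤ (Vv w).comap (MulAut.conj t).toMonoidHom := V_le fun e hwe z hz => by
        show t * z * t⁻¹ ∈ Vv w
        have hzQ := hV e hwe hz
        have h1 := h.comm_mem hlast ((hq.1.al_iff le_rfl).mpr he) (t := z) (z := t)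
          (edge_comm (q (b₀ - 1)) (q b₀) ▸ h.Q_le_edge hlast.symm hzQ) ht
        rw [show t * z * t⁻¹ = (t * (z * t⁻¹ * z⁻¹)) * z by group, h.Z_inv ht]
        exact mul_mem (h1b h1) (Z_le_V hwe hz)
      exact fun z hz => hle hz
    have htn : t ∈ normalizer (Vv w : Set X) := by
      refine mem_normalizer_iff.mpr fun z => ⟨hcl z, fun hz => ?_⟩
      have := hcl _ hz
      rwa [show t * (t * z * t⁻¹) * t⁻¹ = (t * t) * z * (t * t)⁻¹ by group, htt, one_mul, inv_one, mul_one] at this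
    refine h.V_ne_bot (h.eq_bot_of_normalized haw.symm
      ((h.V_le_Q (by omega)).trans (h.Q_le_edge haw.symm)) (h.stab_le_normalizer_V w) ?_)
    exact h.stab_le_of haw (fun g hg => h.stab_le_normalizer_V w hg.2) htn htT.1 htw
  · push Not at hV
    obtain ⟨e, hwe, hle⟩ := hV
    obtain ⟨z, hz, hzQ⟩ := SetLike.not_le_iff_exists.mp hle
    have hne : e ≠ q 0 := by
      rintro rfl
      exact hzQ (h.walk_Q hq.1 (Nat.zero_le _) (Nat.sub_le _ _) (by omega) (by omega) hz)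
    have hp := hwalk e hwe hne
    have hfix : ∀ i, i < b₀ → z • q i = q i := fun i hi => by
      rcases Nat.lt_or_ge i (b₀ - 1) with h1 | h1
      · exact h.walk_fix hp (i := 0) (j := i + 2) (Nat.zero_le _) (by omega) (by omega) (by omega) hz
      · rw [show i = b₀ - 1 by omega]; exact hVfix z (Z_le_V hwe hz)
    have hmove : z • q b₀ ≠ q b₀ := fun e' => hzQ (h.mem_Q_of_fix hprev hlast.symm (by
      have := hq.1.nb (b₀ - 2) (by omega)
      rwa [show b₀ - 2 + 2 = b₀ by omega] at this) (hfix _ (by omega)) (hfix _ (by omega)) e')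
    have hp' : Pth (b₀ + 1) (snoc b₀ (fun i => q (b₀ - i)) w) := (hq.1.rev he).snoc'
      (by show (Γ).Adj (q (b₀ - b₀)) w; rw [Nat.sub_self]; exact haw)
      (fun i hi => by show q (b₀ - i) ≠ w; rw [show b₀ - i = 1 by omega]; exact hw.symm)
    have hcov : ∀ k, k < b₀ → Cover M₁ M₂ k := by
      intro k hk
      rcases Nat.even_or_odd k with hk' | hk'
      · refine cover_of (N := b₀ + 1) (j := b₀ - k) hp'.adj hp'.nb (g := t) (fun i hi => ?_) ?_ (by omega)
          ((hp'.al_iff (by omega)).mpr ((Nat.even_sub (by omega)).mpr (iff_of_true he hk')))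
        · rw [snoc_le (by omega)]
          exact h.walk_fix hq.1 le_rfl (Nat.sub_le _ _) (by omega) (by omega) ht
        · rw [snoc_last]; exact htw
      · refine cover_of (N := b₀) (j := b₀ - (k + 1)) hq.1.adj hq.1.nb hfix hmove (by omega)
          ((hq.1.al_iff (by omega)).mpr ((Nat.even_sub (by omega)).mpr (iff_of_true he (Nat.even_add_one.mpr (Nat.not_even_iff_odd.mpr hk')))))
    exact hnc e hwe hne (h.crit_of_covers hcov hq (hp.mono (by omega)))

theorem bound_two (hb : b₀ = 2) : Nat.card ↥(M₁ ⊓ M₂) ≤ 2 ^ 7 := by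
  have he : Even b₀ := by rw [hb]; exact even_two
  obtain ⟨q, hq⟩ := h.exists_crit
  have hs := h.single_even he hq
  set a := q 0 with hadef
  set v := q 1 with hvdef
  have ha : Al a := hq.1.al
  have hav : (Γ).Adj a v := hq.1.adj 0 (by omega)
  have hv := not_al_of_adj hav ha
  obtain ⟨w, haw, hwv⟩ := h.exists_two_neighbours hav
  obtain ⟨x, hax, hxv, hxw, hall⟩ := h.exists_third hav haw hwv.symm
  set ε := q 2 with hεdef
  have hve : (Γ).Adj v ε := hq.1.adj 1 (by omega)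
  have hεa : a ≠ ε := hq.1.nb 0 (by omega)
  have hq2 : ¬ vertexZ 2 a ≤ vertexQ 2 ε := by
    have := hq.2
    rwa [hb] at this
  -- every vertex at distance two through a neighbour carries an element outside `Q_a`
  have hout : ∀ u e, (Γ).Adj a u → (Γ).Adj u e → e ≠ a →
      ∃ t ∈ vertexZ 2 e, t ∈ edgeStabilizer a u ∧ t ∉ vertexQ 2 a := by
    intro u e hau hue hne
    obtain ⟨g, -, g2, g3⟩ := h.transport₃ hv (not_al_of_adj hau ha) hav.symm hve hεa hau.symm hue hne.symm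
    let p : ℕ → CosetVertex M₁ M₂ := cons a (cons u fun _ => e)
    have hp : Crit p := by
      refine ⟨⟨ha, fun i hi => ?_, fun i hi => ?_⟩, fun hle => hq2 ?_⟩
      · rcases (by omega : i = 0 ∨ i = 1) with rfl | rfl
        exacts [hau, hue]
      · obtain rfl : i = 0 := by omega
        exact hne.symm
      · rw [hb] at hle
        have hle' : (vertexZ 2 (g • a)) ≤ vertexQ 2 (g • ε) := by rw [g2, g3]; exact hle
        intro z hz
        have := hle' (h.Z_conj (g := g) hz)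
        have h2 := h.Q_conj (g := g⁻¹) this
        rwa [inv_smul_smul, inv_inv, show g⁻¹ * (g * z * g⁻¹) * g = z by group] at h2
    obtain ⟨t, ht, htT, htQ⟩ := h.even_elem he hp
    rw [hb] at ht
    exact ⟨t, ht, htT, htQ⟩
  set R := ((vertexQ 2 a ⊓ vertexQ 2 v) ⊓ vertexQ 2 w) ⊓ vertexQ 2 x with hR
  have hRQ : ∀ u, (Γ).Adj a u → R ≤ vertexQ 2 u := fun u hu r hr => by
    rcases hall u hu with rfl | rfl | rfl
    exacts [hr.1.1.2, hr.1.2, hr.2]
  have hRa : R ≤ vertexQ 2 a := fun r hr => hr.1.1.1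
  haveI := h.finQ a
  haveI : Finite ↥R := Finite.of_injective _ (Subgroup.inclusion_injective hRa)
  -- commutators with elements at distance two
  have hcomm : ∀ u e, (Γ).Adj a u → (Γ).Adj u e → e ≠ a → ∀ r ∈ vertexQ 2 u, ∀ t ∈ vertexZ 2 e,
      r * t * r⁻¹ * t⁻¹ ∈ vertexZ 2 u := by
    intro u e hau hue hne r hr t ht
    have hal := al_of_adj hue.symm (not_al_of_adj hau ha)
    have h1 := h.comm_mem hue.symm hal (t := r) (edge_comm u e ▸ h.Q_le_edge hue hr) ht
    rwa [(h.Z_comm ht (h.Z_conj_self (h.Q_smul hue hr) ht)).eq,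
      show r * t * r⁻¹ * t = r * t * r⁻¹ * t⁻¹ by rw [h.Z_inv ht]] at h1
  -- `Q_a / R` has order at most four
  have h4 : Nat.card ↥(vertexQ 2 a) ≤ 4 * Nat.card ↥R := by
    obtain ⟨t, ht, htT, htQ⟩ := hout v ε hav hve hεa.symm
    have htw : t • w = x := h.swap_eq hav haw hax hwv hxv hxw.symm htT htQ
    haveI : Finite ↥(vertexQ 2 a ⊓ vertexQ 2 v) :=
      Finite.of_injective _ (Subgroup.inclusion_injective inf_le_left)
    have h2 : vertexQ 2 a ⊓ vertexQ 2 v ⊓ vertexQ 2 w ≤ R := fun r hr => by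
      refine ⟨hr, ?_⟩
      have hc := h.Z_be_le hav ha (hcomm v ε hav hve hεa.symm r hr.1.2 t ht)
      have hcx : r * t * r⁻¹ * t⁻¹ ∈ vertexQ 2 x := h.small (δ := a) (by
        rw [SimpleGraph.dist_eq_one_iff_adj.mpr hax]; omega) hc
      have h3 := htw ▸ h.Q_conj (g := t) hr.2
      have := mul_mem hcx h3
      rwa [show r * t * r⁻¹ * t⁻¹ * (t * r * t⁻¹) = r by group] at this
    have e1 := h.card_Q_le_two_mul hav
    have e2 : Nat.card ↥(vertexQ 2 a ⊓ vertexQ 2 v) ≤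
        2 * Nat.card ↥(vertexQ 2 a ⊓ vertexQ 2 v ⊓ vertexQ 2 w) :=
      card_le_two_mul fun r hr s hs' hr' hs'' => h.inv_mul_mem_Q haw.symm
        (edge_comm a w ▸ h.Q_le_edge haw hr.1) (edge_comm a w ▸ h.Q_le_edge haw hs'.1) hr' hs''
    have e3 := Subgroup.card_le_of_le h2
    omega
  -- three centralisers
  obtain ⟨ε', hve', hε'a, hε'ε, hallv⟩ := h.exists_third hav.symm hve hεa
  obtain ⟨e₂, hwe₂, he₂a⟩ := h.exists_two_neighbours haw.symm
  obtain ⟨t₁, ht₁, ht₁T, ht₁Q⟩ := hout v ε hav hve hεa.symm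
  obtain ⟨t₂, ht₂, ht₂T, ht₂Q⟩ := hout w e₂ haw hwe₂ he₂a
  obtain ⟨t₁', ht₁', ht₁'T, ht₁'Q⟩ := hout v ε' hav hve' hε'a
  set R₁ := R ⊓ centralizer {t₁}
  set R₂ := R₁ ⊓ centralizer {t₂}
  set R₃ := R₂ ⊓ centralizer {t₁'}
  haveI : Finite ↥R₁ := Finite.of_injective _ (Subgroup.inclusion_injective (inf_le_left : R₁ ≤ R))
  haveI : Finite ↥R₂ := Finite.of_injective _ (Subgroup.inclusion_injective (inf_le_left : R₂ ≤ R₁))
  have c1 : Nat.card ↥R ≤ 2 * Nat.card ↥R₁ :=
    card_le_two_mul_centralizer (hs v hv) fun r hr => hcomm v ε hav hve hεa.symm r (hRQ v hav hr) t₁ ht₁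
  have c2 : Nat.card ↥R₁ ≤ 2 * Nat.card ↥R₂ :=
    card_le_two_mul_centralizer (hs w (not_al_of_adj haw ha)) fun r hr =>
      hcomm w e₂ haw hwe₂ he₂a r (hRQ w haw hr.1) t₂ ht₂
  have c3 : Nat.card ↥R₂ ≤ 2 * Nat.card ↥R₃ :=
    card_le_two_mul_centralizer (hs v hv) fun r hr =>
      hcomm v ε' hav hve' hε'a r (hRQ v hav hr.1.1) t₁' ht₁'
  -- the last centraliser is trivial
  set N := R ⊓ centralizer ((Vv v ⊔ Vv w ⊔ Vv x : Subgroup X) : Set X) with hN
  have hNV : ∀ u, (Γ).Adj a u → ∀ r ∈ N, ∀ z ∈ Vv u, Commute z r := fun u hu r hr z hz => by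
    refine mem_centralizer_iff.mp hr.2 z ?_
    rcases hall u hu with rfl | rfl | rfl
    exacts [mem_sup_left (mem_sup_left hz), mem_sup_left (mem_sup_right hz), mem_sup_right hz]
  have hR3 : R₃ ≤ N := by
    intro r hr
    have hrR : r ∈ R := hr.1.1.1
    have r1 : r * t₁ = t₁ * r := mem_centralizer_singleton_iff.mp hr.1.1.2
    have r2 : r * t₂ = t₂ * r := mem_centralizer_singleton_iff.mp hr.1.2
    have r3 : r * t₁' = t₁' * r := mem_centralizer_singleton_iff.mp hr.2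
    have key : Vv v ≤ centralizer {r} := V_le fun e hve'' z hz => by
      refine mem_centralizer_singleton_iff.mpr ?_
      rcases eq_or_ne e a with rfl | hea
      · exact (h.Z_commute_Q hz (hRa hrR)).eq.symm
      obtain ⟨t, ht, htr, hte⟩ : ∃ t ∈ vertexZ 2 e, Commute t r ∧ t ∉ vertexQ 2 a := by
        rcases hallv e hve'' with e' | e' | e'
        · exact absurd e' hea
        · exact ⟨t₁, e' ▸ ht₁, r1.symm, ht₁Q⟩
        · exact ⟨t₁', e' ▸ ht₁', r3.symm, ht₁'Q⟩
      have hze : ∀ y ∈ vertexZ 2 v, Commute y r := fun y hy =>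
        (h.Z_commute_Q (h.Z_be_le hav ha hy) (hRa hrR)).symm
      by_cases hzv : z ∈ vertexZ 2 v
      · exact (hze z hzv).eq
      · have htv : t ∉ vertexZ 2 v := fun e' => hte (h.Z_le_Q a (h.Z_be_le hav ha e'))
        have hal := al_of_adj hve''.symm hv
        have h5 := (hze _ (h.mul_mem_Z_be hs hve''.symm hal hz ht hzv htv)).mul_left htr
        rwa [mul_assoc, h.Z_sq ht, mul_one] at h5
    set g := t₁ * t₂ with hg
    have hga : g • a = a := by rw [hg, mul_smul, ht₂T.1, ht₁T.1]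
    have hgr : g * r = r * g := ((Commute.symm r1).mul_left (Commute.symm r2)).eq
    have hgv : g • v = w := by
      rw [hg, mul_smul, h.swap_eq haw hav hax hwv.symm hxw hxv.symm ht₂T ht₂Q]
      exact h.swap_eq hav hax haw hxv hwv hxw ht₁T ht₁Q
    have hgw : g • w = x := by
      rw [hg, mul_smul, ht₂T.2]
      exact h.swap_eq hav haw hax hwv hxv hxw.symm ht₁T ht₁Q
    have push : ∀ u, Vv u ≤ centralizer {r} → Vv (g • u) ≤ centralizer {r} := fun u hu z hz => by
      refine mem_centralizer_singleton_iff.mpr ?_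
      have h1 := h.V_conj (g := g⁻¹) hz
      rw [inv_smul_smul, inv_inv] at h1
      have h2 : Commute (g⁻¹ * z * g) r := mem_centralizer_singleton_iff.mp (hu h1)
      have h3 : g * r * g⁻¹ = r := mul_inv_eq_iff_eq_mul.mpr hgr
      calc z * r = g * ((g⁻¹ * z * g) * r) * g⁻¹ := by
            conv_lhs => rw [← h3]
            group
        _ = g * (r * (g⁻¹ * z * g)) * g⁻¹ := by rw [h2.eq]
        _ = g * r * g⁻¹ * z := by group
        _ = r * z := by rw [h3]
    have hall3 : (Vv v ⊔ Vv w ⊔ Vv x : Subgroup X) ≤ centralizer {r} :=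
      sup_le (sup_le key (hgv ▸ push v key)) (hgw ▸ push w (hgv ▸ push v key))
    exact ⟨hrR, mem_centralizer_iff.mpr fun z hz => mem_centralizer_singleton_iff.mp (hall3 hz)⟩
  have hNbot : N = ⊥ := by
    by_contra hne
    have hn : edgeStabilizer a v ≤ normalizer (N : Set X) := by
      refine Core.le_normalizer_iff_conj_mem.mpr fun g hg r hr => ?_
      have hga : g • a = a := hg.1
      have key : ∀ u, (Γ).Adj a u →
          g * r * g⁻¹ ∈ vertexQ 2 u ∧ ∀ z ∈ Vv u, z * (g * r * g⁻¹) = g * r * g⁻¹ * z := by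
        intro u hu
        have hu' : (Γ).Adj a (g⁻¹ • u) := adj_smul_of_mem hu (by rw [inv_smul_eq_iff, hga])
        refine ⟨by simpa using h.Q_conj (g := g) (hRQ _ hu' hr.1), fun z hz => ?_⟩
        have h1 := h.V_conj (g := g⁻¹) hz
        rw [inv_inv] at h1
        calc z * (g * r * g⁻¹) = g * ((g⁻¹ * z * g) * r) * g⁻¹ := by group
          _ = g * (r * (g⁻¹ * z * g)) * g⁻¹ := by rw [(hNV _ hu' r hr _ h1).eq]
          _ = g * r * g⁻¹ * z := by group
      refine ⟨⟨⟨⟨conj_mem_Q hga (hRa hr.1), (key v hav).1⟩, (key w haw).1⟩, (key x hax).1⟩,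
        mem_centralizer_iff.mpr fun z hz => ?_⟩
      have hle : (Vv v ⊔ Vv w ⊔ Vv x : Subgroup X) ≤ centralizer {g * r * g⁻¹} :=
        sup_le (sup_le (fun z hz => mem_centralizer_singleton_iff.mpr ((key v hav).2 z hz))
          (fun z hz => mem_centralizer_singleton_iff.mpr ((key w haw).2 z hz)))
          (fun z hz => mem_centralizer_singleton_iff.mpr ((key x hax).2 z hz))
      exact mem_centralizer_singleton_iff.mp (hle hz)
    obtain ⟨z, hzN, hzv, hz1⟩ := h.exists_Z_be_mem hav hv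
      ((inf_le_left : N ≤ R).trans (hRa.trans (h.Q_le_edge hav))) hn hne
    exact hz1 (h.eq_one_of_mem_two haw hav ha hwv (h.mem_Z_be_of_commute haw ha ht₂T ht₂Q
      (h.Z_be_le hav ha hzv) (hNV w haw z hzN _ (Z_le_V hwe₂ ht₂))) hzv)
  have h5 : Nat.card ↥R₃ ≤ 1 := by
    rw [hNbot] at hR3
    rw [le_bot_iff.mp hR3, card_bot]
  have h6 : Nat.card ↥(vertexQ 2 a) ≤ 32 :=
    calc Nat.card ↥(vertexQ 2 a) ≤ 4 * Nat.card ↥R := h4
      _ ≤ 4 * (2 * Nat.card ↥R₁) := Nat.mul_le_mul_left 4 c1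
      _ ≤ 4 * (2 * (2 * Nat.card ↥R₂)) := Nat.mul_le_mul_left 4 (Nat.mul_le_mul_left 2 c2)
      _ ≤ 4 * (2 * (2 * (2 * Nat.card ↥R₃))) :=
        Nat.mul_le_mul_left 4 (Nat.mul_le_mul_left 2 (Nat.mul_le_mul_left 2 c3))
      _ ≤ 4 * (2 * (2 * (2 * 1))) :=
        Nat.mul_le_mul_left 4 (Nat.mul_le_mul_left 2 (Nat.mul_le_mul_left 2 (Nat.mul_le_mul_left 2 h5)))
  exact (h.card_T_le h6).trans (by norm_num)

end Hyp

end Cfsg.Lib.Local.ThreeThree
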