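import Cfsg.Agent.Lib.Local.ThreeThree.Walks
import Mathlib.GroupTheory.Perm.Cycle.Type

/-!
# Goldschmidt's amalgams of index (3, 3): a vertex of the second kind is not flat

If `b ≥ 2`, two neighbours `a`, `c` of a vertex `v` of the second kind have
`Q_a ∩ Q_v ≠ Q_c ∩ Q_v`; consequently `Z_a ∩ Z_c = Z_v`.
-/

set_option autoImplicit false
set_option linter.style.haveILetI false
set_option linter.unusedSectionVars false

namespace Cfsg.Lib.Local.ThreeThree

open Subgroup Cfsg Cfsg.Lib Cfsg.Lib.Local MulAction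
open scoped commutatorElement

variable {X : Type*} [Group X] {M₁ M₂ : Subgroup X}

local notation "Γ" => cosetGraph M₁ M₂
local notation "b₀" => criticalDistance 2 M₁ M₂

theorem conj_mem_Q {δ : CosetVertex M₁ M₂} {g x : X} (hg : g • δ = δ) (hx : x ∈ vertexQ 2 δ) :
    g * x * g⁻¹ ∈ vertexQ 2 δ :=
  (mem_normalizer_iff.mp (Hyp.stab_le_normalizer_Q δ hg) x).mp hx

namespace Hyp

variable (h : Hyp M₁ M₂)
include h

theorem Q_conj {δ : CosetVertex M₁ M₂} {g x : X} (hx : x ∈ vertexQ 2 δ) :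
    g * x * g⁻¹ ∈ vertexQ 2 (g • δ) := h.Q_map g δ ▸ mem_map_of_mem _ hx

/-- A subgroup generated by pairwise commuting `Z`s is elementary abelian. -/
theorem V_elem {v : CosetVertex M₁ M₂}
    (hc : ∀ e e', (Γ).Adj v e → (Γ).Adj v e' → ∀ x ∈ vertexZ 2 e, ∀ y ∈ vertexZ 2 e', Commute x y) :
    (∀ x ∈ Vv v, ∀ y ∈ Vv v, Commute x y) ∧ ∀ x ∈ Vv v, x * x = 1 := by
  have hcc : ∀ x ∈ Vv v, ∀ y ∈ Vv v, Commute x y := by
    have h1 : Vv v ≤ centralizer (Vv v : Set X) := V_le fun e he x hx => by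
      refine mem_centralizer_iff.mpr fun y hy => ?_
      have h2 : Vv v ≤ centralizer {x} := V_le fun e' he' z hz =>
        mem_centralizer_singleton_iff.mpr (hc e' e he' he z hz x hx).eq
      exact (mem_centralizer_singleton_iff.mp (h2 hy))
    exact fun x hx y hy => (mem_centralizer_iff.mp (h1 hx) y hy).symm
  refine ⟨hcc, fun x hx => ?_⟩
  let S : Subgroup X :=
    { carrier := {x | x ∈ Vv v ∧ x * x = 1}
      one_mem' := ⟨one_mem _, one_mul 1⟩
      mul_mem' := fun {a c} ha hc' => ⟨mul_mem ha.1 hc'.1, by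
        rw [(hcc c hc'.1 a ha.1).mul_mul_mul_comm, ha.2, hc'.2, one_mul]⟩
      inv_mem' := fun {a} ha => ⟨inv_mem ha.1, by rw [← mul_inv_rev, ha.2, inv_one]⟩ }
  exact ((V_le fun e he z hz => (⟨Z_le_V he hz, h.Z_sq hz⟩ : z ∈ S) : Vv v ≤ S) hx).2

theorem no_flat (hb : 2 ≤ b₀) {v a c : CosetVertex M₁ M₂} (hv : ¬ Al v) (hva : (Γ).Adj v a)
    (hvc : (Γ).Adj v c) (hne : a ≠ c)
    (hflat : vertexQ 2 a ⊓ vertexQ 2 v = vertexQ 2 c ⊓ vertexQ 2 v) : False := by
  set K := vertexQ 2 a ⊓ vertexQ 2 v with hK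
  have hKn : stabilizer X v ≤ normalizer (K : Set X) := by
    refine h.edge_sup hva hvc hne ?_ ?_
    · exact Core.le_normalizer_iff_conj_mem.mpr fun g hg x hx =>
        ⟨conj_mem_Q hg.2 hx.1, conj_mem_Q hg.1 hx.2⟩
    · rw [hflat]
      exact Core.le_normalizer_iff_conj_mem.mpr fun g hg x hx =>
        ⟨conj_mem_Q hg.2 hx.1, conj_mem_Q hg.1 hx.2⟩
  have hKe : ∀ e, (Γ).Adj v e → K = vertexQ 2 e ⊓ vertexQ 2 v := by
    intro e he
    obtain ⟨g, hg, rfl⟩ := exists_smul_eq_of_adj hva he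
    conv_lhs => rw [← Core.map_conj_eq_of_mem_normalizer (hKn hg)]
    rw [hK, map_inf _ _ _ (MulAut.conj g).injective, h.Q_map, h.Q_map, mem_stabilizer_iff.mp hg]
  have hZK : ∀ e, (Γ).Adj v e → vertexZ 2 e ≤ K := fun e he z hz => by
    rw [hKe e he]
    exact ⟨h.Z_le_Q e hz, h.small (by
      rw [SimpleGraph.dist_comm, SimpleGraph.dist_eq_one_iff_adj.mpr he]; omega) hz⟩
  have hKV : ∀ k ∈ K, ∀ x ∈ Vv v, Commute k x := by
    intro k hk x hx
    have h2 : Vv v ≤ centralizer {k} := V_le fun e he z hz =>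
      mem_centralizer_singleton_iff.mpr (h.Z_commute_Q hz ((hKe e he).le hk).1).eq.symm
    exact (mem_centralizer_singleton_iff.mp (h2 hx) : x * k = k * x).symm
  obtain ⟨hcomm, hsq⟩ := h.V_elem (v := v) fun e e' he he' x hx y hy =>
    hKV x (hZK e he hx) y (Z_le_V he' hy)
  obtain ⟨q, hq, hqa⟩ := h.exists_Q_sub hva
  have hQcases : ∀ g ∈ vertexQ 2 v, g ∉ K → q⁻¹ * g ∈ K := fun g hg hgK =>
    ⟨h.inv_mul_mem_Q hva.symm (edge_comm v a ▸ h.Q_le_edge hva hq)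
      (edge_comm v a ▸ h.Q_le_edge hva hg) hqa fun e => hgK ⟨e, hg⟩,
      (vertexQ 2 v).mul_mem ((vertexQ 2 v).inv_mem hq) hg⟩
  have hVn : ∀ g : X, g • v = v → ∀ x ∈ Vv v, g * x * g⁻¹ ∈ Vv v := fun g hg x hx => by
    have := h.V_conj (g := g) hx
    rwa [hg] at this
  have hqV := hVn q (h.Q_smul_self hq)
  set f : X → X := fun x => x * (q * x * q⁻¹) with hf
  have fmul : ∀ x ∈ Vv v, ∀ y ∈ Vv v, f (x * y) = f x * f y := fun x hx y hy => by
    calc x * y * (q * (x * y) * q⁻¹) = x * y * ((q * x * q⁻¹) * (q * y * q⁻¹)) := by group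
      _ = _ := (hcomm y hy _ (hqV x hx)).mul_mul_mul_comm x (q * y * q⁻¹)
  have fZ : ∀ x ∈ Vv v, f x ∈ vertexZ 2 v := by
    let S : Subgroup X :=
      { carrier := {x | x ∈ Vv v ∧ f x ∈ vertexZ 2 v}
        one_mem' := ⟨one_mem _, by simp [hf]⟩
        mul_mem' := fun {x y} hx hy => ⟨mul_mem hx.1 hy.1, by rw [fmul x hx.1 y hy.1]; exact mul_mem hx.2 hy.2⟩
        inv_mem' := fun {x} hx => by rw [inv_eq_of_mul_eq_one_right (hsq x hx.1)]; exact hx }
    exact fun x hx => ((V_le fun e he z hz => (⟨Z_le_V he hz,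
      h.comm_mem he.symm (al_of_adj he.symm hv) (edge_comm v e ▸ h.Q_le_edge he hq) hz⟩ : z ∈ S) :
      Vv v ≤ S) hx).2
  have finv : ∀ g : X, g • v = v → ∀ x ∈ Vv v, f (g * x * g⁻¹) = f x := by
    intro g hg x hx
    set q' := g⁻¹ * q * g with hq'
    have hgi : g⁻¹ • v = v := by rw [inv_smul_eq_iff, hg]
    have hq'v : q' ∈ vertexQ 2 v := by
      have := conj_mem_Q hgi hq
      rwa [inv_inv] at this
    have hq'K : q' ∉ K := fun e => by
      have := (mem_normalizer_iff.mp (hKn hg) q').mp e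
      rw [hq', show g * (g⁻¹ * q * g) * g⁻¹ = q by group] at this
      exact hqa this.1
    have hk := hKV _ (hQcases q' hq'v hq'K) x hx
    have e1 : q' * x * q'⁻¹ = q * x * q⁻¹ := by
      calc q' * x * q'⁻¹ = q * ((q⁻¹ * q') * x * (q⁻¹ * q')⁻¹) * q⁻¹ := by group
        _ = _ := by rw [hk.eq, mul_inv_cancel_right]
    calc f (g * x * g⁻¹) = g * (x * (q' * x * q'⁻¹)) * g⁻¹ := by
          simp only [hf, hq']; group
      _ = g * f x * g⁻¹ := by rw [e1]
      _ = f x := by rw [(h.Z_be_commute hv hg (fZ x hx)).eq, mul_inv_cancel_right]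
  have hWQ : ∀ x ∈ Vv v, f x = 1 → ∀ g ∈ vertexQ 2 v, Commute g x := by
    intro x hx hfx g hg
    have hqx : Commute q x := by
      refine mul_inv_eq_iff_eq_mul.mp ?_
      rw [eq_inv_of_mul_eq_one_right hfx, inv_eq_of_mul_eq_one_right (hsq x hx)]
    by_cases hgK : g ∈ K
    · exact hKV g hgK x hx
    · rw [show g = q * (q⁻¹ * g) by group]
      exact hqx.mul_left (hKV _ (hQcases g hg hgK) x hx)
  have hW : ∀ g : X, g • v = v → ∀ x ∈ Vv v, f x = 1 → x * (g * x * g⁻¹) ∈ vertexZ 2 v := by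
    let S : Subgroup X :=
      { carrier := {g | g • v = v ∧ ∀ x ∈ Vv v, f x = 1 → x * (g * x * g⁻¹) ∈ vertexZ 2 v}
        one_mem' := ⟨one_smul X v, fun x hx _ => by simp [hsq x hx]⟩
        mul_mem' := fun {g k} hg hk => ⟨by rw [mul_smul, hk.1, hg.1], fun x hx hfx => by
          have h1 := hk.2 x hx hfx
          have h2 := hg.2 (k * x * k⁻¹) (hVn k hk.1 x hx) (by rw [finv k hk.1 x hx, hfx])
          have := mul_mem h1 h2
          rwa [show x * (k * x * k⁻¹) * (k * x * k⁻¹ * (g * (k * x * k⁻¹) * g⁻¹)) =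
            x * ((k * x * k⁻¹) * (k * x * k⁻¹)) * ((g * k) * x * (g * k)⁻¹) by group,
            hsq _ (hVn k hk.1 x hx), mul_one] at this⟩
        inv_mem' := fun {g} hg => by
          have hgi : g⁻¹ • v = v := by rw [inv_smul_eq_iff, hg.1]
          refine ⟨hgi, fun x hx hfx => ?_⟩
          have hy := hVn g⁻¹ hgi x hx
          have h2 := hg.2 _ hy (by rw [finv g⁻¹ hgi x hx, hfx])
          rwa [show g * (g⁻¹ * x * g⁻¹⁻¹) * g⁻¹ = x by group, (hcomm _ hy x hx).eq] at h2 }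
    have hT : ∀ e, (Γ).Adj v e → edgeStabilizer v e ≤ S := fun e he g hg => ⟨hg.1, fun x hx hfx => by
      by_cases hgQ : g ∈ vertexQ 2 v
      · rw [(hWQ x hx hfx g hgQ).eq, mul_inv_cancel_right, hsq x hx]
        exact one_mem _
      have hy := hVn g hg.1 x hx
      have hfy : f (x * (g * x * g⁻¹)) = 1 := by rw [fmul x hx _ hy, finv g hg.1 x hx, hfx, one_mul]
      have hm := mul_mem hx hy
      refine h.mem_Z_be he.symm hv (edge_comm v e ▸ h.Q_le_edge he (h.V_le_Q (by omega) hm))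
        (fun k hk => ?_) (hsq _ hm)
      rw [edge_comm] at hk
      by_cases hkQ : k ∈ vertexQ 2 v
      · exact hWQ _ hm hfy k hkQ
      · have hg2 : g * g ∈ vertexQ 2 v := by
          have := h.inv_mul_mem_Q he (inv_mem hg) hg (fun e => hgQ (inv_mem_iff.mp e)) hgQ
          rwa [inv_inv] at this
        have hgx : Commute g (x * (g * x * g⁻¹)) := by
          refine mul_inv_eq_iff_eq_mul.mp ?_
          calc g * (x * (g * x * g⁻¹)) * g⁻¹
              = (g * x * g⁻¹) * ((g * g) * x * (g * g)⁻¹) := by group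
            _ = x * (g * x * g⁻¹) := by rw [(hWQ x hx hfx _ hg2).eq, mul_inv_cancel_right, (hcomm _ hy x hx).eq]
        rw [show k = g * (g⁻¹ * k) by group]
        exact hgx.mul_left (hWQ _ hm hfy _ (h.inv_mul_mem_Q he hg hk hgQ hkQ))⟩
    exact fun g hg => (h.edge_sup hva hvc hne (hT a hva) (hT c hvc) (mem_stabilizer_iff.mpr hg)).2
  -- an element of order three centralises `Z_a`
  haveI := h.fin v
  haveI : Fact (Nat.Prime 3) := ⟨Nat.prime_three⟩
  obtain ⟨⟨d, hd⟩, hord⟩ := exists_prime_orderOf_dvd_card' (G := ↥(stabilizer X v)) 3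
    ⟨_, (h.side hva).1.card_M⟩
  rw [Subgroup.orderOf_mk] at hord
  have hdv : d • v = v := hd
  have hd3 : d ^ 3 = 1 := by rw [← hord]; exact pow_orderOf_eq_one d
  have hda : d • a ≠ a := fun e => by
    obtain ⟨k, hk⟩ := (h.side hva).2 ⟨d, hdv, e⟩
    have := orderOf_dvd_of_pow_eq_one (congrArg Subtype.val hk : d ^ 2 ^ k = 1)
    rw [hord] at this
    exact absurd ((Nat.prime_dvd_prime_iff_eq Nat.prime_three Nat.prime_two).mp
      (Nat.prime_three.dvd_of_dvd_pow this)) (by norm_num)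
  have hfix : ∀ z ∈ vertexZ 2 a, d * z * d⁻¹ = z := by
    intro z hz
    have hzV := Z_le_V hva hz
    have hdz := hVn d hdv z hzV
    set w := z * (d * z * d⁻¹) with hw
    have hwV : w ∈ Vv v := mul_mem hzV hdz
    have hfw : f w = 1 := by
      rw [hw, fmul z hzV _ hdz, finv d hdv z hzV, h.Z_sq (fZ z hzV)]
    set e := w * (d * w * d⁻¹) with he
    have heZ : e ∈ vertexZ 2 v := hW d hdv w hwV hfw
    have s1 : d * z * d⁻¹ = z * w := by rw [hw, ← mul_assoc, hsq z hzV, one_mul]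
    have s2 : d * w * d⁻¹ = w * e := by rw [he, ← mul_assoc w w, hsq w hwV, one_mul]
    have s3 : d * e * d⁻¹ = e := by rw [(h.Z_be_commute hv hdv heZ).eq, mul_inv_cancel_right]
    have key : d ^ 3 * z * (d ^ 3)⁻¹ = z * w * (w * e) * (w * e * e) := by
      calc d ^ 3 * z * (d ^ 3)⁻¹ = d * (d * (d * z * d⁻¹) * d⁻¹) * d⁻¹ := by
            rw [pow_succ, pow_two]; simp only [mul_inv_rev, mul_assoc]
        _ = d * (d * (z * w) * d⁻¹) * d⁻¹ := by rw [s1]
        _ = d * ((d * z * d⁻¹) * (d * w * d⁻¹)) * d⁻¹ := by group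
        _ = d * ((z * w) * (w * e)) * d⁻¹ := by rw [s1, s2]
        _ = ((d * z * d⁻¹) * (d * w * d⁻¹)) * ((d * w * d⁻¹) * (d * e * d⁻¹)) := by group
        _ = _ := by rw [s1, s2, s3]
    rw [hd3, one_mul, inv_one, mul_one] at key
    have hee : e * e = 1 := h.Z_sq heZ
    have hwe : w * e = 1 := by
      have e2 : z * w * (w * e) * (w * e * e) = z * ((w * w) * (e * w) * (e * e)) := by
        group
      rw [e2, hsq w hwV, hee, one_mul, mul_one] at key
      have h1 : e * w = 1 := by simpa using key.symm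
      rw [mul_eq_one_comm] at h1
      exact h1
    have hwe' : d * w * d⁻¹ = 1 := by rw [s2, hwe]
    rw [s1, conj_eq_one_iff.mp hwe', mul_one]
  refine h.Z_ne_bot a (h.eq_bot_of_normalized hva.symm (h.Z_le_edge hva.symm) (h.stab_le_normalizer_Z a) ?_)
  refine h.stab_le_of hva (fun t ht => h.stab_le_normalizer_Z a ht.2) ?_ hdv hda
  refine Core.mem_normalizer_iff_map_conj.mpr (le_antisymm ?_ ?_)
  · rintro _ ⟨z, hz, rfl⟩
    show d * z * d⁻¹ ∈ _; rw [hfix z hz]; exact hz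
  · exact fun z hz => ⟨z, hz, hfix z hz⟩

theorem exists_branch (hb : 2 ≤ b₀) {v a c : CosetVertex M₁ M₂} (hv : ¬ Al v) (hva : (Γ).Adj v a)
    (hvc : (Γ).Adj v c) (hne : a ≠ c) : ∃ q ∈ vertexQ 2 v, q ∈ vertexQ 2 c ∧ q ∉ vertexQ 2 a := by
  by_contra hcon
  simp only [not_exists, not_and, not_not] at hcon
  have hle : vertexQ 2 c ⊓ vertexQ 2 v ≤ vertexQ 2 a ⊓ vertexQ 2 v := fun x hx =>
    ⟨hcon x hx.2 hx.1, hx.2⟩
  haveI := h.finQ v
  haveI : Finite ↥(vertexQ 2 a ⊓ vertexQ 2 v) :=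
    Finite.of_injective _ (Subgroup.inclusion_injective inf_le_right)
  obtain ⟨g, hg, rfl⟩ := exists_smul_eq_of_adj hva hvc
  have e : (vertexQ 2 a ⊓ vertexQ 2 v).map (MulAut.conj g).toMonoidHom =
      vertexQ 2 (g • a) ⊓ vertexQ 2 v := by
    rw [map_inf _ _ _ (MulAut.conj g).injective, h.Q_map, h.Q_map, mem_stabilizer_iff.mp hg]
  refine h.no_flat hb hv hva hvc hne (Subgroup.eq_of_le_of_card_ge hle ?_).symm
  rw [← e, card_map_equiv]

theorem mem_Z_be_of_two (hb : 2 ≤ b₀) {v a c : CosetVertex M₁ M₂} (hv : ¬ Al v) (hva : (Γ).Adj v a)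
    (hvc : (Γ).Adj v c) (hne : a ≠ c) {z : X} (hza : z ∈ vertexZ 2 a) (hzc : z ∈ vertexZ 2 c) :
    z ∈ vertexZ 2 v := by
  obtain ⟨q, hq, hqc, hqa⟩ := h.exists_branch hb hv hva hvc hne
  exact h.mem_Z_be_of_commute hva.symm (al_of_adj hva.symm hv) (edge_comm v a ▸ h.Q_le_edge hva hq) hqa
    hza (h.Z_commute_Q hzc hqc)

theorem exists_notMem_Z_be {v a : CosetVertex M₁ M₂} (hva : (Γ).Adj v a) (hv : ¬ Al v) :
    ∃ z ∈ vertexZ 2 a, z ∉ vertexZ 2 v := by
  obtain ⟨w, haw, hwv⟩ := h.exists_two_neighbours hva.symm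
  obtain ⟨z, hz, hz1⟩ := h.exists_ne_one w
  have ha := al_of_adj hva.symm hv
  exact ⟨z, h.Z_be_le haw ha hz, fun hzv => hz1 (h.eq_one_of_mem_two haw hva.symm ha hwv hz hzv)⟩

theorem Z_not_le (hb : 2 ≤ b₀) {v a c : CosetVertex M₁ M₂} (hv : ¬ Al v) (hva : (Γ).Adj v a)
    (hvc : (Γ).Adj v c) (hne : a ≠ c) : ¬ vertexZ 2 a ≤ vertexZ 2 c := fun hle => by
  obtain ⟨z, hz, hzv⟩ := h.exists_notMem_Z_be hva hv
  exact hzv (h.mem_Z_be_of_two hb hv hva hvc hne hz (hle hz))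

omit h in
theorem exists_smul_be {v w : CosetVertex M₁ M₂} (hv : ¬ Al v) (hw : ¬ Al w) : ∃ g : X, g • v = w := by
  rcases v with c | c
  · exact absurd rfl hv
  · rcases w with d | d
    · exact absurd rfl hw
    · obtain ⟨x, rfl⟩ := QuotientGroup.mk_surjective c
      obtain ⟨y, rfl⟩ := QuotientGroup.mk_surjective d
      exact ⟨y * x⁻¹, congrArg Sum.inr (congrArg QuotientGroup.mk (inv_mul_cancel_right y x) :)⟩

/-- The group is transitive on ordered pairs of distinct neighbours of vertices of the second kind. -/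
theorem transport₃ {v a c v' a' c' : CosetVertex M₁ M₂} (hv : ¬ Al v) (hv' : ¬ Al v')
    (hva : (Γ).Adj v a) (hvc : (Γ).Adj v c) (hne : a ≠ c) (hva' : (Γ).Adj v' a') (hvc' : (Γ).Adj v' c')
    (hne' : a' ≠ c') : ∃ g : X, g • v = v' ∧ g • a = a' ∧ g • c = c' := by
  obtain ⟨g, hg⟩ := exists_smul_be hv hv'
  obtain ⟨k, hk, hka⟩ := exists_smul_eq_of_adj (hg ▸ cosetGraph_adj_smul hva g) hva'
  have hkv : k • v' = v' := hk
  have h1 : (k * g) • v = v' := by rw [mul_smul, hg, hkv]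
  have h2 : (k * g) • a = a' := by rw [mul_smul, hka]
  by_cases h3 : (k * g) • c = c'
  · exact ⟨k * g, h1, h2, h3⟩
  obtain ⟨t, ht, htQ⟩ := h.exists_notMem_Q hva'
  refine ⟨t * (k * g), by rw [mul_smul, h1]; exact ht.1, by rw [mul_smul, h2]; exact ht.2, ?_⟩
  rw [mul_smul]
  have hc1 : (Γ).Adj v' ((k * g) • c) := h1 ▸ cosetGraph_adj_smul hvc _
  exact h.swap_eq hva' hc1 hvc' (fun e => hne (MulAction.injective _ (h2.trans e.symm))) hne'.symm h3 ht htQ

/-- The group is transitive on walks of length four centred at vertices of the second kind. -/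
theorem transport₅ (hb : 2 ≤ b₀) {v a c a₁ c₁ v' a' c' a₁' c₁' : CosetVertex M₁ M₂}
    (hv : ¬ Al v) (hv' : ¬ Al v')
    (hva : (Γ).Adj v a) (hvc : (Γ).Adj v c) (hne : a ≠ c) (ha₁ : (Γ).Adj a a₁) (ha₁v : a₁ ≠ v)
    (hc₁ : (Γ).Adj c c₁) (hc₁v : c₁ ≠ v)
    (hva' : (Γ).Adj v' a') (hvc' : (Γ).Adj v' c') (hne' : a' ≠ c') (ha₁' : (Γ).Adj a' a₁')
    (ha₁v' : a₁' ≠ v') (hc₁' : (Γ).Adj c' c₁') (hc₁v' : c₁' ≠ v') :
    ∃ g : X, g • v = v' ∧ g • a = a' ∧ g • c = c' ∧ g • a₁ = a₁' ∧ g • c₁ = c₁' := by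
  obtain ⟨g, h1, h2, h3⟩ := h.transport₃ hv hv' hva hvc hne hva' hvc' hne'
  have fix1 : ∃ k : X, k • v = v' ∧ k • a = a' ∧ k • c = c' ∧ k • a₁ = a₁' := by
    by_cases h4 : g • a₁ = a₁'
    · exact ⟨g, h1, h2, h3, h4⟩
    obtain ⟨q, hq, hqc, hqa⟩ := h.exists_branch hb hv' hva' hvc' hne'
    have hga : (Γ).Adj a' (g • a₁) := h2 ▸ cosetGraph_adj_smul ha₁ g
    refine ⟨q * g, by rw [mul_smul, h1]; exact h.Q_smul_self hq, by rw [mul_smul, h2]; exact h.Q_smul hva' hq,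
      by rw [mul_smul, h3]; exact h.Q_smul hvc' hq, ?_⟩
    rw [mul_smul]
    exact h.swap_eq hva'.symm hga ha₁' (fun e => ha₁v (MulAction.injective g (e.trans h1.symm))) ha₁v' h4
      (edge_comm v' a' ▸ h.Q_le_edge hva' hq) hqa
  obtain ⟨k, k1, k2, k3, k4⟩ := fix1
  by_cases h5 : k • c₁ = c₁'
  · exact ⟨k, k1, k2, k3, k4, h5⟩
  obtain ⟨q, hq, hqa, hqc⟩ := h.exists_branch hb hv' hvc' hva' hne'.symm
  have hkc : (Γ).Adj c' (k • c₁) := k3 ▸ cosetGraph_adj_smul hc₁ k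
  refine ⟨q * k, by rw [mul_smul, k1]; exact h.Q_smul_self hq, by rw [mul_smul, k2]; exact h.Q_smul hva' hq,
    by rw [mul_smul, k3]; exact h.Q_smul hvc' hq, by rw [mul_smul, k4]; exact h.Q_smul ha₁' hqa, ?_⟩
  rw [mul_smul]
  exact h.swap_eq hvc'.symm hkc hc₁' (fun e => hc₁v (MulAction.injective k (e.trans k1.symm))) hc₁v' h5
    (edge_comm v' c' ▸ h.Q_le_edge hvc' hq) hqc

end Hyp

end Cfsg.Lib.Local.ThreeThree
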