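import Cfsg.Agent.Lib.Local.ThreeThree.Even
import Cfsg.Agent.Lib.Local.ThreeThree.BThree
import Cfsg.Agent.Lib.Local.SThreePair.Endgame

/-!
# Goldschmidt's amalgams of index (3, 3): the bound
-/

set_option autoImplicit false
set_option linter.style.haveILetI false
set_option linter.unusedSectionVars false

namespace Cfsg.Lib.Local.ThreeThree

open Subgroup Cfsg Cfsg.Lib Cfsg.Lib.Local MulAction

variable {X : Type*} [Group X]

/-- `Ω₁Z` of the common Sylow subgroup. -/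
def OmT (M₁ M₂ : Subgroup X) : Subgroup X :=
  omegaOne 2 ((M₁ ⊓ M₂) ⊓ centralizer ((M₁ ⊓ M₂ : Subgroup X) : Set X))

theorem OmT_comm (M₁ M₂ : Subgroup X) : OmT M₁ M₂ = OmT M₂ M₁ := by
  simp only [OmT, inf_comm M₁ M₂]

/-- The main case. -/
theorem Hyp.bound {M₁ M₂ : Subgroup X} (h : Hyp M₁ M₂) : Nat.card ↥(M₁ ⊓ M₂) ≤ 2 ^ 7 := by
  obtain ⟨q, hq⟩ := h.exists_crit
  have hpos := h.b_pos
  rcases Nat.even_or_odd (criticalDistance 2 M₁ M₂) with he | ho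
  · have := h.even_lt_four he hq
    obtain ⟨k, hk⟩ := he
    exact h.bound_two (by omega)
  · by_cases h1 : criticalDistance 2 M₁ M₂ = 1
    · exact h.bound_one h1
    have hb := h.odd_three_le ho h1
    have h7 := h.odd_lt_seven hb ho
    have h5 := h.odd_ne_five hb ho
    obtain ⟨k, hk⟩ := ho
    exact h.bound_three (by omega)

theorem res_of_quotient {M T : Subgroup X} [Finite M] (hle : T ≤ M)
    (hS : ∃ P : Sylow 2 M, (P : Subgroup M) = T.subgroupOf M)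
    (hq : Nonempty (M ⧸ pCore 2 M ≃* Equiv.Perm (Fin 3))) :
    Res M T ∧ pCoreOf 2 M ≤ T ∧ IsPGroup 2 T ∧
      Nat.card T = 2 ^ (Nat.card M).factorization 2 := by
  haveI : Fact (Nat.Prime 2) := ⟨Nat.prime_two⟩
  obtain ⟨e⟩ := hq
  obtain ⟨S, hS⟩ := hS
  have h6 : Nat.card M = 6 * Nat.card (pCoreOf 2 M) := by
    rw [pCoreOf, ← Nat.card_congr ((pCore 2 ↥M).equivMapOfInjective _ M.subtype_injective).toEquiv,
      ← (pCore 2 ↥M).card_mul_index, Nat.mul_comm]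
    congr 1
    show Nat.card (↥M ⧸ pCore 2 ↥M) = 6
    rw [Nat.card_congr e.toEquiv, Nat.card_perm]
    simp [Nat.factorial]
  haveI : Finite ↥(pCoreOf 2 M) := Finite.of_injective _
    (Subgroup.inclusion_injective (map_subtype_le _ : pCoreOf 2 M ≤ M))
  have hQp : IsPGroup 2 ↥(pCoreOf 2 M) := (Core.pCore_isPGroup 2 ↥M).map M.subtype
  obtain ⟨i, hi⟩ := IsPGroup.iff_card.mp hQp
  have h3 : (Nat.card M).factorization 2 = i + 1 := by
    rw [h6, hi, show 6 * 2 ^ i = 3 * 2 ^ (i + 1) by ring, Nat.factorization_mul (by norm_num) (by positivity),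
      Nat.Prime.factorization Nat.prime_three, Nat.Prime.factorization_pow Nat.prime_two]
    simp
  have hc := S.card_eq_multiplicity
  rw [hS, Nat.card_congr (subgroupOfEquivOfLe hle).toEquiv] at hc
  refine ⟨⟨hle, ?_, ?_⟩, ?_, ?_, hc⟩
  · rw [h6, hi, hc, h3]; ring
  · rw [hi, hc, h3]; ring
  · have := map_mono (f := M.subtype) (Core.pCore_le_sylow S)
    rwa [hS, map_subgroupOf_eq_of_le hle] at this
  · have := S.isPGroup'.map M.subtype
    rwa [hS, map_subgroupOf_eq_of_le hle] at this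

/-- The centraliser of `O₂` is not contained in it: the order is at most 16. -/
theorem bound_of_not_charP {M M' T : Subgroup X} [Finite M] [Finite M'] (hT : IsPGroup 2 T)
    (hr : Res M T) (hr' : Res M' T) (hQT : pCoreOf 2 M ≤ T) (hQT' : pCoreOf 2 M' ≤ T)
    (hc : ∀ N : Subgroup X, N ≤ T → M ≤ normalizer (N : Set X) → M' ≤ normalizer (N : Set X) → N = ⊥)
    (hn : ¬ M ⊓ centralizer (pCoreOf 2 M : Set X) ≤ pCoreOf 2 M) : Nat.card T ≤ 16 := by
  haveI : Fact (Nat.Prime 2) := ⟨Nat.prime_two⟩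
  have hQn : ∀ (L : Subgroup X), L ≤ normalizer (pCoreOf 2 L : Set X) := fun L => by
    refine Core.le_normalizer_iff_conj_mem.mpr ?_
    rintro g hg _ ⟨q, hq, rfl⟩
    exact ⟨⟨g, hg⟩ * q * ⟨g, hg⟩⁻¹, (inferInstance : (pCore 2 ↥L).Normal).conj_mem q hq _, rfl⟩
  haveI : Finite T := Finite.of_injective _ (Subgroup.inclusion_injective hr.le)
  set Q := pCoreOf 2 M with hQ
  set Q' := pCoreOf 2 M' with hQ'
  haveI : Finite Q' := Finite.of_injective _ (Subgroup.inclusion_injective hQT')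
  haveI : Finite Q := Finite.of_injective _ (Subgroup.inclusion_injective hQT)
  -- an element of `M` outside `T` centralising `O₂(M)`
  obtain ⟨x, hxM, hxC, hxT⟩ : ∃ x ∈ M, x ∈ centralizer (Q : Set X) ∧ x ∉ T := by
    by_contra hcon
    simp only [not_exists, not_and, not_not] at hcon
    set C := M ⊓ centralizer (Q : Set X) with hC
    have hCn : (C.subgroupOf M).Normal := by
      refine (normal_subgroupOf_iff_le_normalizer inf_le_left).mpr
        (Core.le_normalizer_iff_conj_mem.mpr fun g hg c hc' => ⟨M.mul_mem (M.mul_mem hg hc'.1) (M.inv_mem hg),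
          mem_centralizer_iff.mpr fun z hz => ?_⟩)
      have h1 := (mem_normalizer_iff''.mp (hQn M hg) z).mp hz
      calc z * (g * c * g⁻¹) = g * ((g⁻¹ * z * g) * c) * g⁻¹ := by group
        _ = g * (c * (g⁻¹ * z * g)) * g⁻¹ := by rw [mem_centralizer_iff.mp hc'.2 _ h1]
        _ = g * c * g⁻¹ * z := by group
    refine hn fun c hc' => ?_
    have hCT : C ≤ T := fun c hc' => hcon c hc'.1 hc'.2
    exact ⟨⟨c, hc'.1⟩, Core.le_pCore' hCn (hT.to_le hCT).comap_subtype (mem_subgroupOf.mpr hc'), rfl⟩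
  have hidx : ∀ L : Subgroup X, Res L T → T.relIndex L = 3 := fun L hL => by
    have h1 := Core.card_mul_relIndex hL.le
    rw [hL.card_M, mul_comm 3] at h1
    exact Nat.eq_of_mul_eq_mul_left Nat.card_pos h1
  have gen : ∀ N : Subgroup X, T ≤ N → x ∈ N → M ≤ N := fun N hTN hxN => by
    have h1 : T.relIndex (N ⊓ M) ∣ 3 := by
      rw [← hidx M hr]
      exact ⟨(N ⊓ M).relIndex M, (relIndex_mul_relIndex _ _ _ (le_inf hTN hr.le) inf_le_right).symm⟩
    rcases (Nat.dvd_prime Nat.prime_three).mp h1 with e | e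
    · exact absurd (relIndex_eq_one.mp e ⟨hxN, hxM⟩) hxT
    · have h2 := relIndex_mul_relIndex T (N ⊓ M) M (le_inf hTN hr.le) inf_le_right
      rw [e, hidx M hr] at h2
      have h3 : (N ⊓ M).relIndex M = 1 := by omega
      exact (relIndex_eq_one.mp h3).trans inf_le_left
  set K := Q ⊓ Q' with hK
  have hKT : T ≤ normalizer (K : Set X) := Core.le_normalizer_iff_conj_mem.mpr fun g hg k hk =>
    ⟨(mem_normalizer_iff.mp (hQn M (hr.le hg)) k).mp hk.1, (mem_normalizer_iff.mp (hQn M' (hr'.le hg)) k).mp hk.2⟩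
  have h2 : Nat.card Q' ≤ 2 * Nat.card K := by
    have hi : (Q.subgroupOf T).index = 2 := by
      have h1 := Core.card_mul_relIndex hQT
      rw [hr.card_T, mul_comm 2] at h1
      exact Nat.eq_of_mul_eq_mul_left Nat.card_pos h1
    rw [hK, inf_comm]
    refine card_le_two_mul fun a ha b hb ha' hb' => ?_
    exact (mul_mem_iff_of_index_two hi (a := (⟨a, hQT' ha⟩ : T)⁻¹) (b := ⟨b, hQT' hb⟩)).mpr
      (iff_of_false (fun hm => ha' (by simpa [mem_subgroupOf] using hm)) (fun hm => hb' hm))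
  haveI : Finite (↥M' ⧸ T.subgroupOf M') := inferInstance
  have hq3 : Nat.card (↥M' ⧸ T.subgroupOf M') = 3 := hidx M' hr'
  let e : Fin 3 ≃ ↥M' ⧸ T.subgroupOf M' := ((Nat.equivFinOfCardPos (α := ↥M' ⧸ T.subgroupOf M') (by omega)).trans (finCongr hq3)).symm
  let A : Fin 3 → Subgroup X := fun i => K.map (MulAut.conj ((e i).out : X)).toMonoidHom
  have hA : ∀ i, A i ≤ Q' ∧ Nat.card Q' ≤ 2 * Nat.card (A i) := fun i => by
    refine ⟨?_, by rw [card_map_equiv]; exact h2⟩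
    rintro _ ⟨k, hk, rfl⟩
    exact (mem_normalizer_iff.mp (hQn M' (e i).out.2) k).mp hk.2
  have h4 := card_le_mul_of_inf (hA 0).1 (hA 1).1 (hA 0).2 (hA 1).2
  haveI : Finite ↥(A 0 ⊓ A 1) := Finite.of_injective _ (Subgroup.inclusion_injective (inf_le_left.trans (hA 0).1))
  have h8 := card_le_mul_of_inf (inf_le_left.trans (hA 0).1) (hA 2).1 h4 (hA 2).2
  set N := A 0 ⊓ A 1 ⊓ A 2 with hN
  have hmemA : ∀ y ∈ N, ∀ i, y ∈ A i := fun y hy i => by
    fin_cases i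
    exacts [hy.1.1, hy.1.2, hy.2]
  have hN' : M' ≤ normalizer (N : Set X) := by
    refine Core.le_normalizer_iff_conj_mem.mpr fun g hg y hy => ?_
    have key : ∀ i, g * y * g⁻¹ ∈ A i := fun i => by
      set j := e.symm (QuotientGroup.mk ((⟨g, hg⟩ : M')⁻¹ * (e i).out)) with hj
      obtain ⟨k, hk, hky⟩ := hmemA y hy j
      have h5 : ((e j).out)⁻¹ * ((⟨g, hg⟩ : M')⁻¹ * (e i).out) ∈ T.subgroupOf M' := by
        rw [← QuotientGroup.eq, QuotientGroup.out_eq', hj, Equiv.apply_symm_apply]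
      have h6 : ((e j).out : X)⁻¹ * (g⁻¹ * ((e i).out : X)) ∈ T := h5
      refine ⟨_, (mem_normalizer_iff''.mp (hKT h6) k).mp hk, ?_⟩
      show ((e i).out : X) * _ * ((e i).out : X)⁻¹ = g * y * g⁻¹
      rw [← hky]
      show _ = g * (((e j).out : X) * k * ((e j).out : X)⁻¹) * g⁻¹
      group
    exact ⟨⟨key 0, key 1⟩, key 2⟩
  have hNK : N ≤ K := by
    intro y hy
    obtain ⟨k, hk, rfl⟩ := hmemA y hy (e.symm (QuotientGroup.mk (1 : M')))
    refine (mem_normalizer_iff.mp (hKT ?_) k).mp hk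
    have h5 : (e (e.symm (QuotientGroup.mk (1 : M')))).out⁻¹ * 1 ∈ T.subgroupOf M' := by
      rw [← QuotientGroup.eq, QuotientGroup.out_eq', Equiv.apply_symm_apply]
    rw [mul_one, inv_mem_iff] at h5
    exact h5
  have hNT : N ≤ T := hNK.trans (inf_le_left.trans hQT)
  have hbot := hc N hNT (gen _ (fun t ht => hN' (hr'.le ht)) (by
    refine mem_normalizer_iff.mpr fun y => ?_
    have hfix : ∀ z ∈ N, x * z * x⁻¹ = z := fun z hz => by
      rw [← mem_centralizer_iff.mp hxC z (hNK hz).1, mul_inv_cancel_right]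
    refine ⟨fun hy => by rw [hfix y hy]; exact hy, fun hy => ?_⟩
    have e1 := hfix _ hy
    rwa [mul_left_cancel (mul_right_cancel e1)] at hy)) hN'
  rw [hbot, card_bot] at h8
  rw [hr'.card_T]
  calc 2 * Nat.card Q' ≤ 2 * (2 * 2 * 2 * 1) := Nat.mul_le_mul_left 2 h8
    _ = 16 := by norm_num

theorem pair_of {M₁ M₂ : Subgroup X} [Finite M₁] [Finite M₂] (hgen : M₁ ⊔ M₂ = ⊤)
    (r₁ : Res M₁ (M₁ ⊓ M₂)) (r₂ : Res M₂ (M₁ ⊓ M₂))
    (f₁ : Nat.card ↥(M₁ ⊓ M₂) = 2 ^ (Nat.card M₁).factorization 2)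
    (f₂ : Nat.card ↥(M₁ ⊓ M₂) = 2 ^ (Nat.card M₂).factorization 2)
    (hc : ∀ N : Subgroup X, N ≤ M₁ ⊓ M₂ → M₁ ≤ normalizer (N : Set X) → M₂ ≤ normalizer (N : Set X) → N = ⊥)
    (c₁ : M₁ ⊓ centralizer (pCoreOf 2 M₁ : Set X) ≤ pCoreOf 2 M₁)
    (c₂ : M₂ ⊓ centralizer (pCoreOf 2 M₂ : Set X) ≤ pCoreOf 2 M₂) :
    IsCharPAmalgamPair 2 M₁ M₂ := by
  haveI : Fact (Nat.Prime 2) := ⟨Nat.prime_two⟩
  haveI : Finite ↥(M₁ ⊓ M₂) := Finite.of_injective _ (Subgroup.inclusion_injective inf_le_left)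
  have ne_top : ∀ P Q : Subgroup X, Q ≤ P → Nat.card Q = 3 * Nat.card ↥(P ⊓ Q) → Finite Q → False := by
    intro P Q hle hc hf
    rw [inf_eq_right.mpr hle] at hc
    have := Nat.card_pos (α := Q)
    omega
  have two_dvd : ∀ (P : Subgroup X), Res P (M₁ ⊓ M₂) → 2 ∣ Nat.card P := fun P s =>
    ⟨3 * Nat.card (pCoreOf 2 P), by rw [s.card_M, s.card_T]; ring⟩
  have cen : ∀ P : Subgroup X, P ⊓ centralizer (pCoreOf 2 P : Set X) ≤ pCoreOf 2 P →
      Subgroup.centralizer (pCore 2 ↥P : Set ↥P) ≤ pCore 2 ↥P := fun P hP x hx => by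
    obtain ⟨y, hy, e⟩ := hP ⟨x.2, mem_centralizer_iff.mpr (by
      rintro _ ⟨q, hq, rfl⟩
      exact congrArg Subtype.val (mem_centralizer_iff.mp hx q hq))⟩
    exact Subtype.ext e ▸ hy
  refine ⟨⟨hgen, fun e => ?_, fun e => ?_, fun N hN hn => ?_⟩, inferInstance, inferInstance,
    two_dvd M₁ r₁, two_dvd M₂ r₂, fun S A B => ?_, cen M₁ c₁, cen M₂ c₂⟩
  · exact ne_top M₁ M₂ (e.symm ▸ le_top) r₂.card_M inferInstance
  · exact ne_top M₂ M₁ (e.symm ▸ le_top) (by rw [inf_comm]; exact r₁.card_M) inferInstance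
  · exact hc N hN (le_normalizer_of_normal' hn) (le_normalizer_of_normal' hn)
  · rw [S.card_eq_multiplicity, A.card_eq_multiplicity, B.card_eq_multiplicity, ← f₁, ← f₂,
      f₁, Nat.Prime.factorization_pow Nat.prime_two]
    simp
where
  le_normalizer_of_normal' {N M : Subgroup X} (hn : N.Normal) : M ≤ normalizer (N : Set X) :=
    Core.le_normalizer_iff_conj_mem.mpr fun g _ x hx => hn.conj_mem x hx g

/-- Goldschmidt's bound, for a generating pair. -/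
theorem goldschmidt {M₁ M₂ : Subgroup X} [Finite M₁] [Finite M₂] (hgen : M₁ ⊔ M₂ = ⊤)
    (ha₁ : ∃ P : Sylow 2 M₁, (P : Subgroup M₁) = (M₁ ⊓ M₂).subgroupOf M₁)
    (ha₂ : ∃ P : Sylow 2 M₂, (P : Subgroup M₂) = (M₁ ⊓ M₂).subgroupOf M₂)
    (hb₁ : Nonempty (M₁ ⧸ pCore 2 M₁ ≃* Equiv.Perm (Fin 3)))
    (hb₂ : Nonempty (M₂ ⧸ pCore 2 M₂ ≃* Equiv.Perm (Fin 3)))
    (hc : ∀ N : Subgroup X, N ≤ M₁ ⊓ M₂ → M₁ ≤ normalizer (N : Set X) → M₂ ≤ normalizer (N : Set X) → N = ⊥) :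
    Nat.card ↥(M₁ ⊓ M₂) ≤ 2 ^ 7 := by
  haveI : Fact (Nat.Prime 2) := ⟨Nat.prime_two⟩
  obtain ⟨r₁, q₁, hp, f₁⟩ := res_of_quotient inf_le_left ha₁ hb₁
  obtain ⟨r₂, q₂, -, f₂⟩ := res_of_quotient inf_le_right ha₂ hb₂
  by_cases c₁ : M₁ ⊓ centralizer (pCoreOf 2 M₁ : Set X) ≤ pCoreOf 2 M₁
  swap
  · exact (bound_of_not_charP hp r₁ r₂ q₁ q₂ hc c₁).trans (by norm_num)
  by_cases c₂ : M₂ ⊓ centralizer (pCoreOf 2 M₂ : Set X) ≤ pCoreOf 2 M₂
  swap
  · exact (bound_of_not_charP hp r₂ r₁ q₂ q₁ (fun N hN h1 h2 => hc N hN h2 h1) c₂).trans (by norm_num)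
  by_cases z₁ : M₁ ≤ centralizer (OmT M₁ M₂ : Set X) <;> by_cases z₂ : M₂ ≤ centralizer (OmT M₁ M₂ : Set X)
  · exfalso
    have key : ∀ M : Subgroup X, M ≤ centralizer (OmT M₁ M₂ : Set X) → M ≤ normalizer (OmT M₁ M₂ : Set X) :=
      fun M hM => Core.le_normalizer_iff_conj_mem.mpr fun g hg z hz => by
        rw [← mem_centralizer_iff.mp (hM hg) z hz, mul_inv_cancel_right]; exact hz
    have hle : OmT M₁ M₂ ≤ M₁ ⊓ M₂ := (closure_le _).mpr fun z hz => hz.1.1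
    have hbot := hc _ hle (key M₁ z₁) (key M₂ z₂)
    haveI : Finite ↥(M₁ ⊓ M₂) := Finite.of_injective _ (Subgroup.inclusion_injective inf_le_left)
    have hne : (⊤ : Subgroup ↥(M₁ ⊓ M₂)) ≠ ⊥ := fun e => by
      have h1 := r₁.card_T
      have h2 : Nat.card ↥(M₁ ⊓ M₂) = 1 := by rw [← Subgroup.card_top, e, card_bot]
      omega
    obtain ⟨z, -, hzc, hz⟩ := PGroup.exists_mem_center_orderOf_eq hp hne
    have hzO : (z : X) ∈ OmT M₁ M₂ := subset_closure ⟨⟨z.2, mem_centralizer_iff.mpr fun g hg =>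
      congrArg Subtype.val (mem_center_iff.mp hzc ⟨g, hg⟩)⟩, by
      rw [← hz, ← SubgroupClass.coe_pow, pow_orderOf_eq_one, OneMemClass.coe_one]⟩
    rw [hbot, mem_bot] at hzO
    rw [show z = 1 from Subtype.ext hzO, orderOf_one] at hz
    omega
  · have h : Hyp M₂ M₁ := ⟨pair_of (by rw [sup_comm]; exact hgen) (inf_comm M₁ M₂ ▸ r₂) (inf_comm M₁ M₂ ▸ r₁)
      (inf_comm M₁ M₂ ▸ f₂) (inf_comm M₁ M₂ ▸ f₁)
      (fun N hN h1 h2 => hc N (inf_comm M₁ M₂ ▸ hN) h2 h1) c₂ c₁, inf_comm M₁ M₂ ▸ hp,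
      inf_comm M₁ M₂ ▸ r₂, inf_comm M₁ M₂ ▸ r₁,
      by rw [OmT_comm] at z₂; exact z₂, by rw [OmT_comm] at z₁; exact z₁⟩
    rw [inf_comm]; exact h.bound
  · have h : Hyp M₁ M₂ := ⟨pair_of hgen r₁ r₂ f₁ f₂ hc c₁ c₂, hp, r₁, r₂, z₁, z₂⟩
    exact h.bound
  · have h : SThreePair.Hyp M₁ M₂ := ⟨pair_of hgen r₁ r₂ f₁ f₂ hc c₁ c₂, hp,
      ⟨r₁.le, r₁.card_M, r₁.card_T, z₁⟩, ⟨r₂.le, r₂.card_M, r₂.card_T, z₂⟩⟩
    have h1 := r₁.card_M
    rcases h.classify with ⟨⟨e⟩, -⟩ | ⟨⟨e⟩, -⟩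
    · have h2 : Nat.card M₁ = 24 := by
        rw [Nat.card_congr e.toEquiv, Nat.card_perm]
        simp [Nat.factorial]
      omega
    · have h2 : Nat.card M₁ = 48 := by
        rw [Nat.card_congr e.toEquiv, Nat.card_prod, Nat.card_perm]
        simp [Nat.factorial]
      omega

end Cfsg.Lib.Local.ThreeThree
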