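import Cfsg.Agent.Lib.Local.ThreeThree.Single

/-!
# Goldschmidt's amalgams of index (3, 3): odd critical distance

Every critical walk extends to a walk that is critical from both ends, such walks can be shifted
by two steps, and `Ω₁Z(T)` has order two.
-/

set_option autoImplicit false
set_option linter.style.haveILetI false
set_option linter.unusedSectionVars false

namespace Cfsg.Lib.Local.ThreeThree

open Subgroup Cfsg Cfsg.Lib Cfsg.Lib.Local MulAction
open scoped commutatorElement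

variable {X : Type*} [Group X] {M₁ M₂ : Subgroup X}

local notation "Γ" => cosetGraph M₁ M₂
local notation "b₀" => criticalDistance 2 M₁ M₂

/-- A walk of length `b + 1` that is critical from both ends. -/
structure DC (p : ℕ → CosetVertex M₁ M₂) : Prop where
  pth : Pth (b₀ + 1) p
  left : ¬ vertexZ 2 (p 0) ≤ vertexQ 2 (p b₀)
  right : ¬ vertexZ 2 (p (b₀ + 1)) ≤ vertexQ 2 (p 1)

theorem DC.rev (ho : Odd b₀) {p : ℕ → CosetVertex M₁ M₂} (hp : DC p) :
    DC (fun i => p (b₀ + 1 - i)) := by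
  refine ⟨hp.pth.rev (by rw [Nat.even_add_one, Nat.not_even_iff_odd]; exact ho), ?_, ?_⟩
  · simp only [Nat.sub_zero, show b₀ + 1 - b₀ = 1 by omega]
    exact hp.right
  · simp only [Nat.sub_self, Nat.add_sub_cancel]
    exact hp.left

theorem DC.pth' {p : ℕ → CosetVertex M₁ M₂} (hp : DC p) : Crit p :=
  ⟨hp.pth.mono (Nat.le_succ _), hp.left⟩

namespace Hyp

variable (h : Hyp M₁ M₂)
include h

variable {p : ℕ → CosetVertex M₁ M₂}

theorem odd_three_le (ho : Odd b₀) (h1 : b₀ ≠ 1) : 3 ≤ b₀ := by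
  obtain ⟨k, hk⟩ := ho
  omega

omit h in
theorem adj_prev {n i : ℕ} (hp : Pth n p) (h1 : 1 ≤ i) (h2 : i ≤ n) : (Γ).Adj (p i) (p (i - 1)) := by
  have := (hp.adj (i - 1) (by omega)).symm
  rwa [Nat.sub_add_cancel h1] at this

/-- An element of `Z` of the first vertex outside `Q` of the last but one moves the last vertex. -/
theorem odd_move (hb : 3 ≤ b₀) (hp : Pth (b₀ + 1) p) {t : X} (ht : t ∈ vertexZ 2 (p 0))
    (htQ : t ∉ vertexQ 2 (p b₀)) :
    t ∈ edgeStabilizer (p b₀) (p (b₀ - 1)) ∧ t • p (b₀ + 1) ≠ p (b₀ + 1) := by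
  have f1 := h.walk_fix hp (j := b₀) (Nat.zero_le _) (by omega) (by omega) (by omega) ht
  have f2 := h.walk_fix hp (j := b₀ - 1) (Nat.zero_le _) (by omega) (by omega) (by omega) ht
  have hne := hp.nb (b₀ - 1) (by omega)
  rw [show b₀ - 1 + 2 = b₀ + 1 by omega] at hne
  exact ⟨⟨f1, f2⟩, fun e =>
    htQ (h.mem_Q_of_fix (adj_prev hp (by omega) (by omega)) (hp.adj b₀ (by omega)) hne f1 f2 e)⟩

theorem cover_odd (hb : 3 ≤ b₀) (ho : Odd b₀) (hp : Pth (b₀ + 1) p)
    (hc : ¬ vertexZ 2 (p 0) ≤ vertexQ 2 (p b₀)) {k : ℕ} (hk : k < b₀) (hk' : Odd k) :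
    Cover M₁ M₂ k := by
  obtain ⟨t, ht, htQ⟩ := SetLike.not_le_iff_exists.mp hc
  refine cover_of (N := b₀ + 1) (j := b₀ - k) hp.adj hp.nb
    (fun i hi => h.walk_fix hp (Nat.zero_le _) (by omega) (by omega) (by omega) ht)
    (h.odd_move hb hp ht htQ).2 (by omega) ((hp.al_iff (by omega)).mpr ?_)
  exact Nat.Odd.sub_odd ho hk'

theorem crit_all (hb : 3 ≤ b₀) (ho : Odd b₀) (hp : Pth (b₀ + 1) p)
    (hc : ¬ vertexZ 2 (p 0) ≤ vertexQ 2 (p b₀)) (heven : ∀ k, k < b₀ → Even k → Cover M₁ M₂ k)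
    {r : ℕ → CosetVertex M₁ M₂} (hr : Pth b₀ r) : ¬ vertexZ 2 (r 0) ≤ vertexQ 2 (r b₀) := by
  refine (h.crit_of_covers (fun k hk => ?_) (p := p) ⟨hp.mono (Nat.le_succ _), hc⟩ hr).2
  rcases Nat.even_or_odd k with hk' | hk'
  exacts [heven k hk hk', h.cover_odd hb ho hp hc hk hk']

theorem even_succ_of_odd (ho : Odd b₀) : Even (b₀ + 1) := by
  rw [Nat.even_add_one, Nat.not_even_iff_odd]; exact ho

theorem flip (hb : 3 ≤ b₀) (ho : Odd b₀) (hp : Pth (b₀ + 1) p)
    (hc : ¬ vertexZ 2 (p 0) ≤ vertexQ 2 (p b₀)) : DC p := by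
  refine ⟨hp, hc, fun hle => ?_⟩
  obtain ⟨t, ht, htQ⟩ := SetLike.not_le_iff_exists.mp hc
  obtain ⟨htT, htm⟩ := h.odd_move hb hp ht htQ
  have hev := h.even_succ_of_odd ho
  have hbe : ¬ Al (p b₀) := fun e => Nat.not_even_iff_odd.mpr ho ((hp.al_iff (Nat.le_succ _)).mp e)
  have hadj := hp.adj b₀ (Nat.lt_succ_self _)
  have hnot : ¬ vertexZ 2 (p (b₀ + 1)) ≤ vertexQ 2 (p 0) := fun hle0 => by
    refine h.Z_not_le (by omega) hbe hadj (adj_smul_of_mem hadj htT.1) htm.symm fun z hz => ?_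
    have := h.Z_conj (g := t) hz
    rwa [← (h.Z_commute_Q ht (hle0 hz)).eq, mul_inv_cancel_right] at this
  obtain ⟨z, hz, hzQ⟩ := SetLike.not_le_iff_exists.mp hnot
  have h01 := hp.adj 0 (by omega)
  have hfix : ∀ i, i ≤ b₀ + 1 → z • p i = p i := fun i hi => by
    rcases Nat.eq_zero_or_pos i with rfl | hi'
    · exact h.Q_smul h01.symm (hle hz)
    · exact h.walk_fix hp le_rfl hi (by omega) (by omega) hz
  obtain ⟨w, hw, hwne⟩ := h.exists_two_neighbours h01
  have hzT : z ∈ edgeStabilizer (p 0) (p 1) := ⟨hfix 0 (Nat.zero_le _), hfix 1 (by omega)⟩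
  have hr : Pth (b₀ + 2) (snoc (b₀ + 1) (fun i => p (b₀ + 1 - i)) w) :=
    (hp.rev hev).snoc' (by simpa using hw)
      fun i hi => by show p (b₀ + 1 - i) ≠ w; rw [show b₀ + 1 - i = 1 by omega]; exact hwne.symm
  refine h.crit_all hb ho hp hc (fun k hk hk' => ?_) ((hp.rev hev).mono (Nat.le_succ _)) (by simpa using hle)
  refine cover_of (N := b₀ + 2) (j := b₀ + 1 - k) hr.adj hr.nb (g := z) (fun i hi => ?_) ?_ (by omega)
    ((hr.al_iff (by omega)).mpr ((Nat.even_sub (by omega)).mpr (iff_of_true hev hk')))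
  · rw [snoc_le (by omega)]; exact hfix _ (Nat.sub_le _ _)
  · rw [snoc_last]; exact h.smul_ne h01 hw hwne.symm hzT hzQ

theorem exists_DC (hb : 3 ≤ b₀) (ho : Odd b₀) : ∃ p : ℕ → CosetVertex M₁ M₂, DC p := by
  obtain ⟨q, hq⟩ := h.exists_crit
  obtain ⟨v, hv, hne⟩ := h.exists_two_neighbours (adj_prev hq.1 (by omega) le_rfl)
  have hp : Pth (b₀ + 1) (snoc b₀ q v) := hq.1.snoc' hv fun i hi => by
    rw [show i = b₀ - 1 by omega]; exact hne.symm
  refine ⟨_, h.flip hb ho hp ?_⟩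
  rw [snoc_le (Nat.zero_le _), snoc_le le_rfl]
  exact hq.2

/-- Both extensions at an end of a walk critical from both ends are critical. -/
theorem dc_left (hb : 3 ≤ b₀) (ho : Odd b₀) (hp : DC p) {e : CosetVertex M₁ M₂}
    (he : (Γ).Adj (p 1) e) (hne : e ≠ p 2) : DC (fun i => if i = 0 then e else p i) := by
  set r : ℕ → CosetVertex M₁ M₂ := fun i => if i = 0 then e else p i with hr
  have hpr : Pth (b₀ + 1) r := by
    refine ⟨al_of_adj he.symm fun e' => ?_, fun i hi => ?_, fun i hi => ?_⟩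
    · exact absurd ((hp.pth.al_iff (i := 1) (by omega)).mp e') (by decide)
    · rcases Nat.eq_zero_or_pos i with rfl | h1
      · exact he.symm
      · simp only [hr, show i ≠ 0 by omega, if_false, show i + 1 ≠ 0 by omega]
        exact hp.pth.adj i hi
    · rcases Nat.eq_zero_or_pos i with rfl | h1
      · exact hne
      · simp only [hr, show i ≠ 0 by omega, if_false, show i + 2 ≠ 0 by omega]
        exact hp.pth.nb i hi
  have hev := h.even_succ_of_odd ho
  have := h.flip hb ho (hpr.rev hev) (by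
    show ¬ vertexZ 2 (r (b₀ + 1 - 0)) ≤ vertexQ 2 (r (b₀ + 1 - b₀))
    rw [show b₀ + 1 - b₀ = 1 by omega]
    exact hp.right)
  refine ⟨hpr, ?_, hp.right⟩
  have h2 := this.right
  simp only [Nat.sub_self, Nat.add_sub_cancel] at h2
  exact h2

theorem shift (hb : 3 ≤ b₀) (ho : Odd b₀) (hp : DC p) :
    ∃ r : ℕ → CosetVertex M₁ M₂, DC r ∧ ∀ i, i + 1 ≤ b₀ → r i = p (i + 2) := by
  by_contra hcon
  have hev := h.even_succ_of_odd ho
  set o := p (b₀ + 1) with hodef
  have hob : (Γ).Adj o (p b₀) := (hp.pth.adj b₀ (Nat.lt_succ_self _)).symm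
  have hoAl : Al o := (hp.pth.al_iff le_rfl).mpr hev
  have hd : Pth (b₀ - 1) (fun i => p (2 + i)) :=
    (hp.pth.drop 2 (by omega) (by decide)).mono (by omega)
  -- every new end is not critical
  have hext : ∀ n e, (Γ).Adj o n → n ≠ p b₀ → (Γ).Adj n e → e ≠ o →
      ∃ r, Pth (b₀ + 1) r ∧ (∀ i, i + 1 ≤ b₀ → r i = p (i + 2)) ∧ r b₀ = n ∧ r (b₀ + 1) = e := by
    intro n e hn hnb hne heo
    have h1 := hd.snoc' (v := n) (by show (Γ).Adj (p (2 + (b₀ - 1))) n; rw [show 2 + (b₀ - 1) = b₀ + 1 by omega]; exact hn)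
      (fun i hi => by show p (2 + i) ≠ n; rw [show 2 + i = b₀ by omega]; exact hnb.symm)
    rw [show b₀ - 1 + 1 = b₀ by omega] at h1
    have h2 := h1.snoc' (v := e)
      (by rw [snoc_gt (by omega)]; exact hne)
      (fun i hi => by
        rw [snoc_le (by omega)]; show p (2 + i) ≠ e; rw [show 2 + i = b₀ + 1 by omega]; exact heo.symm)
    refine ⟨_, h2, fun i hi => ?_, ?_, snoc_last⟩
    · rw [snoc_le (by omega), snoc_le (by omega), Nat.add_comm]
    · rw [snoc_le le_rfl, snoc_gt (by omega)]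
  have hnc : ∀ n e, (Γ).Adj o n → n ≠ p b₀ → (Γ).Adj n e → vertexZ 2 e ≤ vertexQ 2 (p 3) := by
    intro n e hn hnb hne
    rcases eq_or_ne e o with rfl | heo
    · exact fun z hz => h.walk_Q hp.pth le_rfl (by omega) (by omega) (by omega) hz
    by_contra hle
    obtain ⟨r, hr, hre, hrb, hrl⟩ := hext n e hn hnb hne heo
    refine hcon ⟨r, ?_, hre⟩
    have hrev := h.flip hb ho (hr.rev hev) (by
      show ¬ vertexZ 2 (r (b₀ + 1 - 0)) ≤ vertexQ 2 (r (b₀ + 1 - b₀))
      rw [Nat.sub_zero, show b₀ + 1 - b₀ = 1 by omega, hrl, hre 1 (by omega)]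
      exact hle)
    refine ⟨hr, ?_, ?_⟩
    · have := hrev.right
      simp only [Nat.sub_self, Nat.add_sub_cancel] at this
      exact this
    · rw [hrl, hre 1 (by omega)]; exact hle
  -- no cover for all even lengths
  have hcc : ¬ ∀ k, k < b₀ → Even k → Cover M₁ M₂ k := by
    intro hcov
    obtain ⟨n, hn, hnb⟩ := h.exists_two_neighbours hob
    obtain ⟨e, he, heo⟩ := h.exists_two_neighbours hn.symm
    obtain ⟨r, hr, hre, hrb, hrl⟩ := hext n e hn hnb he heo
    refine h.crit_all hb ho hp.pth hp.left hcov ((hr.rev hev).mono (Nat.le_succ _)) ?_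
    show vertexZ 2 (r (b₀ + 1 - 0)) ≤ vertexQ 2 (r (b₀ + 1 - b₀))
    rw [Nat.sub_zero, show b₀ + 1 - b₀ = 1 by omega, hrl, hre 1 (by omega)]
    exact hnc n e hn hnb he
  set W : Subgroup X := ⨆ n ∈ (Γ).neighborSet o, Vv n with hW
  have hVW : ∀ n, (Γ).Adj o n → Vv n ≤ W := fun n hn =>
    le_iSup₂ (f := fun n (_ : n ∈ (Γ).neighborSet o) => Vv n) n hn
  obtain ⟨t, ht, htQ⟩ := SetLike.not_le_iff_exists.mp hp.left
  obtain ⟨htT, htm⟩ := h.odd_move hb hp.pth ht htQ
  obtain ⟨u, hu, huQ⟩ := SetLike.not_le_iff_exists.mp hp.right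
  have h01 := hp.pth.adj 0 (by omega)
  have h12 := hp.pth.adj 1 (by omega)
  have h02 : p 0 ≠ p 2 := hp.pth.nb 0 (by omega)
  have hufix : ∀ i, 1 ≤ i → i ≤ b₀ + 1 → u • p i = p i := fun i h1 h2 =>
    h.walk_fix hp.pth le_rfl h2 (by omega) (by omega) hu
  have hu0 : u • p 0 ≠ p 0 := fun e =>
    huQ (h.mem_Q_of_fix h01.symm h12 h02 (hufix 1 le_rfl (by omega)) e (hufix 2 (by omega) (by omega)))
  have hur : u • p 0 ≠ p 2 := fun e => h02 (MulAction.injective u (e.trans (hufix 2 (by omega) (by omega)).symm))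
  have htu : t * u * t⁻¹ ∈ W := hVW _ hob
    (Z_le_V (adj_smul_of_mem hob.symm htT.1) (h.Z_conj hu))
  obtain ⟨w, hw, hwne⟩ := h.exists_two_neighbours h01
  have hr : Pth (b₀ + 2) (snoc (b₀ + 1) (fun i => p (b₀ + 1 - i)) w) :=
    (hp.pth.rev hev).snoc' (by simpa using hw)
      fun i hi => by show p (b₀ + 1 - i) ≠ w; rw [show b₀ + 1 - i = 1 by omega]; exact hwne.symm
  -- an element fixing all vertices of the walk commutes with `t`
  have hkey : ∀ z : X, (∀ i, i ≤ b₀ + 1 → z • p i = p i) → Commute z t := by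
    intro z hz
    refine h.Z_commute_Q ht ?_
    by_contra hzQ
    refine hcc fun k hk hk' => cover_of (N := b₀ + 2) (j := b₀ + 1 - k) hr.adj hr.nb (g := z)
      (fun i hi => ?_) ?_ (by omega)
      ((hr.al_iff (by omega)).mpr ((Nat.even_sub (by omega)).mpr (iff_of_true hev hk')))
    · rw [snoc_le (by omega)]; exact hz _ (Nat.sub_le _ _)
    · rw [snoc_last]; exact h.smul_ne h01 hw hwne.symm ⟨hz 0 (Nat.zero_le _), hz 1 (by omega)⟩ hzQ
  have htW : ∀ n, (Γ).Adj o n → ∀ e, (Γ).Adj n e → ∀ z ∈ vertexZ 2 e, t * z * t⁻¹ ∈ W := by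
    intro n hn e he z hz
    rcases eq_or_ne n (p b₀) with rfl | hnb
    · exact hVW _ hn (Z_le_V (adj_smul_of_mem he htT.1) (h.Z_conj hz))
    have hzQ := hnc n e hn hnb he hz
    have hd3 : ∀ i, 3 ≤ i → i ≤ b₀ + 1 → z • p i = p i := fun i h3 hi => by
      refine h.le_stab ?_ hz
      have h1 := h.connected.dist_triangle (u := e) (v := n) (w := p i)
      have h2 := h.connected.dist_triangle (u := n) (v := o) (w := p i)
      have h4 := (h.walk_dist hp.pth hi le_rfl).2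
      rw [SimpleGraph.dist_eq_one_iff_adj.mpr he.symm] at h1
      rw [SimpleGraph.dist_eq_one_iff_adj.mpr hn.symm] at h2
      rw [← hodef] at h4
      omega
    have hfix : ∀ i, 2 ≤ i → i ≤ b₀ + 1 → z • p i = p i := fun i h2 hi => by
      rcases Nat.eq_or_lt_of_le h2 with rfl | h3
      · exact h.Q_smul (adj_prev hp.pth (i := 3) (by omega) (by omega)) hzQ
      · exact hd3 i h3 hi
    have hfix1 : z • p 1 = p 1 := by
      by_contra h1
      refine hcc fun k hk hk' => cover_of (N := b₀) (j := b₀ - (k + 1)) (p := fun i => p (b₀ + 1 - i))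
        (fun i hi => (hp.pth.rev hev).adj i (by omega)) (fun i hi => (hp.pth.rev hev).nb i (by omega))
        (g := z) (fun i hi => hfix _ (by omega) (Nat.sub_le _ _))
        (by simpa using h1) (by omega)
        (((hp.pth.rev hev).al_iff (by omega)).mpr ?_)
      exact Nat.Odd.sub_odd ho hk'.add_one
    have hfix' : ∀ i, 1 ≤ i → i ≤ b₀ + 1 → z • p i = p i := fun i h1 hi => by
      rcases Nat.eq_or_lt_of_le h1 with rfl | h2
      exacts [hfix1, hfix i h2 hi]
    by_cases hz0 : z • p 0 = p 0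
    · rw [← (hkey z fun i hi => by
        rcases Nat.eq_zero_or_pos i with rfl | h1
        exacts [hz0, hfix' i h1 hi]).eq, mul_inv_cancel_right]
      exact hVW n hn (Z_le_V he hz)
    · have huu := h.Z_sq hu
      have hzu : z • p 0 = u • p 0 := by
        refine h.eq_third h12 h01.symm (adj_smul_of_mem h01.symm (hufix 1 le_rfl (by omega)))
          (adj_smul_of_mem h01.symm hfix1) h02.symm hur hu0 ?_ hz0
        exact fun e' => h02 (MulAction.injective z (e'.trans (hfix 2 le_rfl (by omega)).symm))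
      have hc : Commute (u * z) t := hkey _ fun i hi => by
        rcases Nat.eq_zero_or_pos i with rfl | h1
        · rw [mul_smul, hzu, ← mul_smul, huu, one_smul]
        · rw [mul_smul, hfix' i h1 hi, hufix i h1 hi]
      have : t * z * t⁻¹ = (t * u * t⁻¹) * (u * z) := by
        calc t * z * t⁻¹ = t * ((u * u) * z) * t⁻¹ := by rw [huu, one_mul]
          _ = (t * u * t⁻¹) * (t * (u * z) * t⁻¹) := by group
          _ = _ := by rw [← hc.eq, mul_inv_cancel_right]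
      rw [this]
      exact mul_mem htu (mul_mem (hVW _ hob (Z_le_V hob.symm hu)) (hVW n hn (Z_le_V he hz)))
  have hcl : ∀ z ∈ W, t * z * t⁻¹ ∈ W := by
    have hle : W ≤ W.comap (MulAut.conj t).toMonoidHom :=
      iSup₂_le fun n hn => V_le fun e he z hz => htW n hn e he z hz
    exact fun z hz => hle hz
  have htn : t ∈ normalizer (W : Set X) := by
    refine mem_normalizer_iff.mpr fun z => ⟨hcl z, fun hz => ?_⟩
    have := hcl _ hz
    rwa [show t * (t * z * t⁻¹) * t⁻¹ = (t * t) * z * (t * t)⁻¹ by group, h.Z_sq ht, one_mul, inv_one, mul_one] at this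
  have hWo : stabilizer X o ≤ normalizer (W : Set X) :=
    Core.le_normalizer_iff_conj_mem.mpr fun g hg z hz => by
      have hle : W ≤ W.comap (MulAut.conj g).toMonoidHom := iSup₂_le fun n hn y hy =>
        hVW _ (adj_smul_of_mem hn hg) (h.V_conj hy)
      exact hle hz
  have hWT : W ≤ edgeStabilizer o (p b₀) := iSup₂_le fun n hn => V_le fun e he => by
    have h1 := h.connected.dist_triangle (u := e) (v := n) (w := o)
    have h2 := h.connected.dist_triangle (u := e) (v := o) (w := p b₀)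
    rw [SimpleGraph.dist_eq_one_iff_adj.mpr he.symm, SimpleGraph.dist_eq_one_iff_adj.mpr (SimpleGraph.mem_neighborSet _ _ _ |>.mp hn).symm] at h1
    rw [SimpleGraph.dist_eq_one_iff_adj.mpr hob] at h2
    exact le_inf (h.le_stab (by omega)) (h.le_stab (by omega))
  refine h.V_ne_bot (v := p b₀) (eq_bot_iff.mpr ((hVW _ hob).trans ?_))
  exact le_bot_iff.mpr (h.eq_bot_of_normalized hob hWT hWo
    (h.stab_le_of hob.symm (fun g hg => hWo hg.2) htn htT.1 htm))

/-- The shift in the other direction. -/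
theorem shift' (hb : 3 ≤ b₀) (ho : Odd b₀) (hp : DC p) :
    ∃ r : ℕ → CosetVertex M₁ M₂, DC r ∧ ∀ i, i + 1 ≤ b₀ → r (i + 2) = p i := by
  obtain ⟨r, hr, hre⟩ := h.shift hb ho (hp.rev ho)
  refine ⟨_, hr.rev ho, fun i hi => ?_⟩
  show r (b₀ + 1 - (i + 2)) = p i
  rw [hre _ (by omega)]
  show p (b₀ + 1 - (b₀ + 1 - (i + 2) + 2)) = p i
  rw [show b₀ + 1 - (b₀ + 1 - (i + 2) + 2) = i by omega]

/-- Commutators of the two ends, both ways. -/
theorem ends_comm (hp : DC p) {x z : X} (hx : x ∈ vertexZ 2 (p 0)) (hxQ : x ∈ vertexQ 2 (p b₀))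
    (hz : z ∈ vertexZ 2 (p (b₀ + 1))) (hzQ : z ∈ vertexQ 2 (p 1)) (ho : Odd b₀) :
    z * x * z * x ∈ vertexZ 2 (p 1) ∧ z * x * z * x ∈ vertexZ 2 (p b₀) := by
  have h01 := hp.pth.adj 0 (by omega)
  have hbb := hp.pth.adj b₀ (Nat.lt_succ_self _)
  have hlast : Al (p (b₀ + 1)) := (hp.pth.al_iff le_rfl).mpr (h.even_succ_of_odd ho)
  have hz0 : z • p 0 = p 0 := h.Q_smul h01.symm hzQ
  have h1 := h.comm_mem h01 hp.pth.al (t := z) (edge_comm (p 1) (p 0) ▸ h.Q_le_edge h01.symm hzQ) hx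
  have h2 := h.comm_mem hbb.symm hlast (t := x) (edge_comm (p b₀) (p (b₀ + 1)) ▸ h.Q_le_edge hbb hxQ) hz
  rw [(h.Z_comm hx (h.Z_conj_self hz0 hx)).eq, h.Z_inv hz] at h1
  rw [h.Z_inv hx, show z * (x * z * x) = z * x * z * x by group] at h2
  exact ⟨h1, h2⟩

theorem single_of_commute (hb : 3 ≤ b₀) (ho : Odd b₀) (hp : DC p)
    (hall : ∀ x ∈ vertexZ 2 (p 0), x ∈ vertexQ 2 (p b₀) → ∀ z ∈ vertexZ 2 (p (b₀ + 1)),
      z ∈ vertexQ 2 (p 1) → z * x * z * x = 1) : Single M₁ M₂ := by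
  have hcm : ∀ x ∈ vertexZ 2 (p 0), x ∈ vertexQ 2 (p b₀) → ∀ z ∈ vertexZ 2 (p (b₀ + 1)),
      z ∈ vertexQ 2 (p 1) → Commute z x := fun x hx hxQ z hz hzQ => by
    refine mul_inv_eq_iff_eq_mul.mp ?_
    rw [h.Z_inv hz]
    exact (eq_inv_of_mul_eq_one_left (hall x hx hxQ z hz hzQ)).trans (h.Z_inv hx)
  obtain ⟨t, ht, htQ⟩ := SetLike.not_le_iff_exists.mp hp.left
  obtain ⟨htT, htm⟩ := h.odd_move hb hp.pth ht htQ
  have h01 := hp.pth.adj 0 (by omega)
  have hbb := hp.pth.adj b₀ (Nat.lt_succ_self _)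
  have hlast : Al (p (b₀ + 1)) := (hp.pth.al_iff le_rfl).mpr (h.even_succ_of_odd ho)
  by_cases hB : ∃ z ∈ vertexZ 2 (p (b₀ + 1)), z ∈ vertexQ 2 (p 1) ∧ z ∉ vertexQ 2 (p 0)
  · obtain ⟨z, hz, hzQ, hz0⟩ := hB
    have hidx : ∀ {x : X}, x ∈ vertexZ 2 (p 0) → x ∈ edgeStabilizer (p b₀) (p (b₀ - 1)) := fun {x} hx =>
      ⟨h.walk_fix hp.pth (Nat.zero_le _) (Nat.le_succ _) (by omega) (by omega) hx,
        h.walk_fix hp.pth (Nat.zero_le _) (by omega) (by omega) (by omega) hx⟩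
    exact h.single_of h01 hp.pth.al (S := vertexQ 2 (p b₀))
      (fun x hx y hy hx' hy' => h.inv_mul_mem_Q (adj_prev hp.pth (by omega) (Nat.le_succ _))
        (hidx hx) (hidx hy) hx' hy')
      fun x hx hxQ => h.mem_Z_be_of_commute h01 hp.pth.al
        (edge_comm (p 1) (p 0) ▸ h.Q_le_edge h01.symm hzQ) hz0 hx (hcm x hx hxQ z hz hzQ)
  · simp only [not_exists, not_and, not_not] at hB
    have hidx : ∀ {x : X}, x ∈ vertexZ 2 (p (b₀ + 1)) → x ∈ edgeStabilizer (p 1) (p 2) := fun {x} hx =>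
      ⟨h.walk_fix hp.pth le_rfl (by omega) (by omega) (by omega) hx,
        h.walk_fix hp.pth le_rfl (by omega) (by omega) (by omega) hx⟩
    refine h.single_of hbb.symm hlast (S := vertexQ 2 (p 1))
      (fun x hx y hy hx' hy' => h.inv_mul_mem_Q (hp.pth.adj 1 (by omega)) (hidx hx) (hidx hy) hx' hy')
      fun x hx hxQ => ?_
    have := h.Z_conj (g := t) hx
    rw [← (h.Z_commute_Q ht (hB x hx hxQ)).eq, mul_inv_cancel_right] at this
    exact h.mem_Z_be_of_two (by omega) (not_al_of_adj hbb.symm hlast) hbb (adj_smul_of_mem hbb htT.1)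
      htm.symm hx this

theorem single_odd (hb : 3 ≤ b₀) (ho : Odd b₀) : Single M₁ M₂ := by
  by_contra hns
  have hnt : ∀ p : ℕ → CosetVertex M₁ M₂, DC p → ∃ z ∈ vertexZ 2 (p 1), z ∈ vertexZ 2 (p b₀) ∧ z ≠ 1 := by
    intro p hp
    by_contra hcon
    exact hns (h.single_of_commute hb ho hp fun x hx hxQ z hz hzQ => by_contra fun hne =>
      hcon ⟨_, (h.ends_comm hp hx hxQ hz hzQ ho).1, (h.ends_comm hp hx hxQ hz hzQ ho).2, hne⟩)
  obtain ⟨p, hp⟩ := h.exists_DC hb ho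
  rcases (by obtain ⟨k, hk⟩ := ho; omega : b₀ = 3 ∨ 5 ≤ b₀) with hb3 | hb5
  · obtain ⟨z, hz1, hz3, hne⟩ := hnt p hp
    rw [hb3] at hz3
    exact hne (h.eq_one_of_mem_two (hp.pth.adj 1 (by omega)).symm (hp.pth.adj 2 (by omega))
      ((hp.pth.al_iff (by omega)).mpr even_two) (hp.pth.nb 1 (by omega)) hz1 hz3)
  · obtain ⟨r, hr, hre⟩ := h.shift' hb ho hp
    obtain ⟨z, hz1, hzb, hne⟩ := hnt r hr
    obtain ⟨u, hu, huQ⟩ := SetLike.not_le_iff_exists.mp hp.right
    have h01 := hp.pth.adj 0 (by omega)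
    have h12 := hp.pth.adj 1 (by omega)
    have hu1 := h.walk_fix hp.pth (j := 1) le_rfl (by omega) (by omega) (by omega) hu
    have hu2 := h.walk_fix hp.pth (j := 2) le_rfl (by omega) (by omega) (by omega) hu
    have hu0 : u • p 0 ≠ p 0 := fun e =>
      huQ (h.mem_Q_of_fix h01.symm h12 (hp.pth.nb 0 (by omega)) hu1 e hu2)
    have hr2 : r 2 = p 0 := hre 0 (by omega)
    have hr3 : r 3 = p 1 := hre 1 (by omega)
    have h12r : (Γ).Adj (p 0) (r 1) := hr2 ▸ (hr.pth.adj 1 (by omega)).symm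
    have hrb : r b₀ = p (b₀ - 2) := by
      have := hre (b₀ - 2) (by omega)
      rwa [show b₀ - 2 + 2 = b₀ by omega] at this
    have hb2 : ¬ Al (p (b₀ - 2)) := fun e => by
      have := (hp.pth.al_iff (by omega)).mp e
      exact Nat.not_even_iff_odd.mpr (Nat.Odd.sub_even (by omega) ho even_two) this
    have huz : Commute u z := h.Z_be_commute hb2
      (h.walk_fix hp.pth le_rfl (by omega) (by omega) (by omega) hu) (hrb ▸ hzb)
    have hza : z ∈ vertexZ 2 (p 0) := h.Z_be_le h12r hp.pth.al hz1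
    have hzc := h.Z_conj (g := u) hza
    rw [huz.eq, mul_inv_cancel_right] at hzc
    have hzv := h.mem_Z_be_of_two (by omega) (not_al_of_adj h01 hp.pth.al) h01.symm
      (adj_smul_of_mem h01.symm hu1) hu0.symm hza hzc
    exact hne (h.eq_one_of_mem_two h12r h01 hp.pth.al (hr3 ▸ hr.pth.nb 1 (by omega)) hz1 hzv)

end Hyp

end Cfsg.Lib.Local.ThreeThree
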