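import Cfsg.Agent.Lib.Local.ThreeThree.OddY

/-!
# Goldschmidt's amalgams of index (3, 3): `|V_v| = 16` is impossible

The class of the product of three elements from the three `Z`s at a vertex of the second kind is
invariant under its stabilizer; this forces `V_c ∩ V_d = Z_a` at every vertex `a` of the first kind.
-/

set_option autoImplicit false
set_option linter.style.haveILetI false
set_option linter.unusedSectionVars false
set_option linter.unusedVariables false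

namespace Cfsg.Lib.Local.ThreeThree

open Subgroup Cfsg Cfsg.Lib Cfsg.Lib.Local MulAction
open scoped commutatorElement

variable {X : Type*} [Group X] {M₁ M₂ : Subgroup X}

local notation "Γ" => cosetGraph M₁ M₂
local notation "b₀" => criticalDistance 2 M₁ M₂

/-- `w` is the product of one element from each of `Z_a ∖ Z_v`, `Z_c ∖ Z_v`, `Z_e ∖ Z_v`. -/
def Trip (v a c e : CosetVertex M₁ M₂) (w : X) : Prop :=
  ∃ x y z : X, x ∈ vertexZ 2 a ∧ x ∉ vertexZ 2 v ∧ y ∈ vertexZ 2 c ∧ y ∉ vertexZ 2 v ∧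
    z ∈ vertexZ 2 e ∧ z ∉ vertexZ 2 v ∧ w = x * y * z

/-- The class of the sum of the three neighbours. -/
def IsSum (v : CosetVertex M₁ M₂) (w : X) : Prop :=
  ∀ a c e, (Γ).Adj v a → (Γ).Adj v c → (Γ).Adj v e → a ≠ c → a ≠ e → c ≠ e → Trip v a c e w

namespace Hyp

variable (h : Hyp M₁ M₂)
include h

variable {p : ℕ → CosetVertex M₁ M₂}

theorem sum_of_trip (hb : 3 ≤ b₀) {v a c e : CosetVertex M₁ M₂} (ha : (Γ).Adj v a) (hc : (Γ).Adj v c)
    (he : (Γ).Adj v e) (h1 : a ≠ c) (h2 : a ≠ e) (h3 : c ≠ e) {w : X} (hw : Trip v a c e w) :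
    IsSum v w := by
  obtain ⟨x, y, z, hx, hx', hy, hy', hz, hz', rfl⟩ := hw
  have cxy : Commute x y := h.commute_near hb ha hc hx hy
  have cxz : Commute x z := h.commute_near hb ha he hx hz
  have cyz : Commute y z := h.commute_near hb hc he hy hz
  have p1 : x * y * z = x * z * y := by rw [mul_assoc, cyz.eq, ← mul_assoc]
  have p2 : x * y * z = y * x * z := by rw [cxy.eq]
  have p3 : x * y * z = z * x * y := by rw [(cxz.symm.mul_right cyz.symm).eq.symm, ← mul_assoc]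
  have p4 : x * y * z = y * z * x := by rw [mul_assoc, (cxy.mul_right cxz).eq]
  have p5 : x * y * z = z * y * x := by rw [p3, mul_assoc, cxy.eq, ← mul_assoc]
  intro a' c' e' ha' hc' he' n1 n2 n3
  rcases h.neighbour_eq ha hc he ha' h1 h2 h3 with rfl | rfl | rfl <;>
    rcases h.neighbour_eq ha hc he hc' h1 h2 h3 with rfl | rfl | rfl <;>
    rcases h.neighbour_eq ha hc he he' h1 h2 h3 with rfl | rfl | rfl <;>
    first
      | exact absurd rfl n1
      | exact absurd rfl n2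
      | exact absurd rfl n3
      | exact ⟨_, _, _, hx, hx', hy, hy', hz, hz', rfl⟩
      | exact ⟨_, _, _, hx, hx', hz, hz', hy, hy', p1⟩
      | exact ⟨_, _, _, hy, hy', hx, hx', hz, hz', p2⟩
      | exact ⟨_, _, _, hz, hz', hx, hx', hy, hy', p3⟩
      | exact ⟨_, _, _, hy, hy', hz, hz', hx, hx', p4⟩
      | exact ⟨_, _, _, hz, hz', hy, hy', hx, hx', p5⟩

theorem sum_conj {v : CosetVertex M₁ M₂} {g w : X} (hw : IsSum v w) : IsSum (g • v) (g * w * g⁻¹) := by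
  intro a c e ha hc he h1 h2 h3
  have pull : ∀ {a}, (Γ).Adj (g • v) a → (Γ).Adj v (g⁻¹ • a) := fun {a} ha => by
    simpa using cosetGraph_adj_smul ha g⁻¹
  obtain ⟨x, y, z, hx, hx', hy, hy', hz, hz', rfl⟩ := hw _ _ _ (pull ha) (pull hc) (pull he)
    (fun e' => h1 (MulAction.injective g⁻¹ e')) (fun e' => h2 (MulAction.injective g⁻¹ e'))
    (fun e' => h3 (MulAction.injective g⁻¹ e'))
  have push : ∀ {a : CosetVertex M₁ M₂} {x : X}, x ∈ vertexZ 2 (g⁻¹ • a) → x ∉ vertexZ 2 v →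
      g * x * g⁻¹ ∈ vertexZ 2 a ∧ g * x * g⁻¹ ∉ vertexZ 2 (g • v) := fun {a x} hx hx' =>
    ⟨by simpa using h.Z_conj (g := g) hx, fun e' => hx' (by
      have := h.Z_conj (g := g⁻¹) e'
      rwa [inv_smul_smul, inv_inv, show g⁻¹ * (g * x * g⁻¹) * g = x by group] at this)⟩
  exact ⟨g * x * g⁻¹, g * y * g⁻¹, g * z * g⁻¹, (push hx hx').1, (push hx hx').2, (push hy hy').1,
    (push hy hy').2, (push hz hz').1, (push hz hz').2, by group⟩

theorem sum_conj_self {v : CosetVertex M₁ M₂} {g w : X} (hg : g • v = v) (hw : IsSum v w) :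
    IsSum v (g * w * g⁻¹) := by
  have := h.sum_conj (g := g) hw
  rwa [hg] at this

theorem exists_three (v : CosetVertex M₁ M₂) {a : CosetVertex M₁ M₂} (ha : (Γ).Adj v a) :
    ∃ c e, (Γ).Adj v c ∧ (Γ).Adj v e ∧ a ≠ c ∧ a ≠ e ∧ c ≠ e := by
  obtain ⟨c, hc, hca⟩ := h.exists_two_neighbours ha
  obtain ⟨e, he, hea, hec, -⟩ := h.exists_third ha hc hca.symm
  exact ⟨c, e, hc, he, hca.symm, hea.symm, hec.symm⟩

theorem sum_mem_V {v : CosetVertex M₁ M₂} {w : X} (hw : IsSum v w) : w ∈ Vv v := by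
  obtain ⟨a, ha⟩ := exists_adj v
  obtain ⟨c, e, hc, he, h1, h2, h3⟩ := h.exists_three v ha
  obtain ⟨x, y, z, hx, -, hy, -, hz, -, rfl⟩ := hw a c e ha hc he h1 h2 h3
  exact mul_mem (mul_mem (Z_le_V ha hx) (Z_le_V hc hy)) (Z_le_V he hz)

theorem sum_unique (hb : 3 ≤ b₀) (hs : Single M₁ M₂) {v : CosetVertex M₁ M₂} (hv : ¬ Al v) {w w' : X}
    (hw : IsSum v w) (hw' : IsSum v w') : w * w' ∈ vertexZ 2 v := by
  obtain ⟨a, ha⟩ := exists_adj v
  obtain ⟨c, e, hc, he, h1, h2, h3⟩ := h.exists_three v ha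
  obtain ⟨x, y, z, hx, hx', hy, hy', hz, hz', rfl⟩ := hw a c e ha hc he h1 h2 h3
  obtain ⟨x₁, y₁, z₁, gx, gx', gy, gy', gz, gz', rfl⟩ := hw' a c e ha hc he h1 h2 h3
  have cc : ∀ {m n : X}, m ∈ Vv v → n ∈ Vv v → Commute m n := fun hm hn => (h.V_abelian hb v).1 _ hm _ hn
  have e' : x * y * z * (x₁ * y₁ * z₁) = (x * x₁) * (y * y₁) * (z * z₁) := by
    rw [(cc (Z_le_V he hz) (mul_mem (Z_le_V ha gx) (Z_le_V hc gy))).mul_mul_mul_comm (x * y) z₁,
      (cc (Z_le_V hc hy) (Z_le_V ha gx)).mul_mul_mul_comm x y₁]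
  rw [e']
  exact mul_mem (mul_mem (h.mul_mem_Z_be hs ha.symm (al_of_adj ha.symm hv) hx gx hx' gx')
    (h.mul_mem_Z_be hs hc.symm (al_of_adj hc.symm hv) hy gy hy' gy'))
    (h.mul_mem_Z_be hs he.symm (al_of_adj he.symm hv) hz gz hz' gz')

theorem sum_notMem_Z (hb : 3 ≤ b₀) (hs : Single M₁ M₂) (hB : Big M₁ M₂) {v a : CosetVertex M₁ M₂}
    (hv : ¬ Al v) (ha : (Γ).Adj v a) {w : X} (hw : IsSum v w) : w ∉ vertexZ 2 a := fun hwa => by
  obtain ⟨c, e, hc, he, h1, h2, h3⟩ := h.exists_three v ha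
  obtain ⟨x, y, z, hx, -, hy, -, hz, hz', rfl⟩ := hw a c e ha hc he h1 h2 h3
  have hae := al_of_adj he.symm hv
  have hzA : z ∈ vertexZ 2 a ⊔ vertexZ 2 c := by
    have := mul_mem (mem_sup_right (S := vertexZ 2 a) (inv_mem hy))
      (mul_mem (mem_sup_left (T := vertexZ 2 c) (inv_mem hx)) (mem_sup_left (T := vertexZ 2 c) hwa))
    rwa [show y⁻¹ * (x⁻¹ * (x * y * z)) = z by group] at this
  have hvA : vertexZ 2 v ≤ vertexZ 2 a ⊔ vertexZ 2 c :=
    (h.Z_be_le ha.symm (al_of_adj ha.symm hv)).trans le_sup_left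
  refine hB v a c e hv ha hc he h1 h2.symm h3.symm fun s hs' => ?_
  by_cases hsv : s ∈ vertexZ 2 v
  · exact hvA hsv
  · have := mul_mem (hvA (h.mul_mem_Z_be hs he.symm hae hs' hz hsv hz')) hzA
    rwa [mul_assoc, h.Z_sq hz, mul_one] at this

/-- The sum of a vertex is not centralised by all elements of `Q_v ∩ Q_a`. -/
theorem exists_sum_mover (hb : 3 ≤ b₀) (hs : Single M₁ M₂) {v₀ : CosetVertex M₁ M₂} (hv₀ : ¬ Al v₀)
    {s₀ q₀ : X} (hs₀ : IsSum v₀ s₀) (hq₀ : q₀ ∈ vertexQ 2 v₀) (hne : ¬ Commute q₀ s₀)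
    {v a : CosetVertex M₁ M₂} (hv : ¬ Al v) (ha : (Γ).Adj v a) {s : X} (hs' : IsSum v s) :
    ∃ q ∈ vertexQ 2 v, q ∈ vertexQ 2 a ∧ ¬ Commute q s := by
  have move : ∀ {g : X} {u u' : CosetVertex M₁ M₂} {r q r' : X}, g • u = u' → ¬ Al u' → IsSum u r →
      IsSum u' r' → q ∈ vertexQ 2 u → ¬ Commute q r → ¬ Commute (g * q * g⁻¹) r' := by
    intro g u u' r q r' hgu hu' hr hr' hq hqr hc
    have h1 := h.sum_conj (g := g) hr
    rw [hgu] at h1
    have hz := h.sum_unique hb hs hu' hr' h1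
    have hq' := h.Q_conj (g := g) hq
    rw [hgu] at hq'
    have h2 := (hc.mul_right (h.Z_be_commute hu' (h.Q_smul_self hq') hz))
    rw [← mul_assoc, (h.V_abelian hb u').2 _ (h.sum_mem_V hr'), one_mul] at h2
    exact hqr (mul_left_cancel (a := g) (mul_right_cancel (b := g⁻¹) (by
      calc g * (q * r) * g⁻¹ = (g * q * g⁻¹) * (g * r * g⁻¹) := by group
        _ = (g * r * g⁻¹) * (g * q * g⁻¹) := h2.eq
        _ = g * (r * q) * g⁻¹ := by group)))
  obtain ⟨g, hg⟩ := exists_smul_be hv₀ hv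
  have hq : g * q₀ * g⁻¹ ∈ vertexQ 2 v := hg ▸ h.Q_conj (g := g) hq₀
  have hqs := move hg hv hs₀ hs' hq₀ hne
  set q := g * q₀ * g⁻¹
  have key : ∀ {q : X} {e : CosetVertex M₁ M₂}, q ∈ vertexQ 2 v → ¬ Commute q s → (Γ).Adj v e →
      q ∈ vertexQ 2 e → ∃ q ∈ vertexQ 2 v, q ∈ vertexQ 2 a ∧ ¬ Commute q s := by
    intro q e hq hqs he hqe
    obtain ⟨k, hk, hka⟩ := exists_smul_eq_of_adj he ha
    exact ⟨k * q * k⁻¹, conj_mem_Q hk hq, hka ▸ h.Q_conj hqe, move hk hv hs' hs' hq hqs⟩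
  by_cases hqa : q ∈ vertexQ 2 a
  · exact ⟨q, hq, hqa, hqs⟩
  obtain ⟨e, he, hea⟩ := h.exists_two_neighbours ha
  by_cases hqe : q ∈ vertexQ 2 e
  · exact key hq hqs he hqe
  obtain ⟨r, hr, hra, hre⟩ := h.exists_branch (by omega) hv he ha hea
  by_cases hrs : Commute r s
  · refine key (q := q * r) (mul_mem hq hr) (fun hc => hqs ?_) he ?_
    · have := hc.mul_left hrs.inv_left
      rwa [mul_inv_cancel_right] at this
    · have := h.inv_mul_mem_Q he.symm (edge_comm v e ▸ h.Q_le_edge he (inv_mem hq))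
        (edge_comm v e ▸ h.Q_le_edge he hr) (fun e' => hqe (inv_mem_iff.mp e')) hre
      rwa [inv_inv] at this
  · exact ⟨r, hr, hra, hrs⟩

/-- The sum seen from a walk critical from both ends. -/
theorem sum_y (hb : 3 ≤ b₀) (hp : DC p) {t u z : X} (ht : t ∈ vertexZ 2 (p 0))
    (htQ : t ∉ vertexQ 2 (p b₀)) (hu : u ∈ vertexZ 2 (p (b₀ + 1))) (huQ : u ∉ vertexQ 2 (p 1))
    (hz : z ∈ vertexZ 2 (p 3)) (hz1 : z ≠ 1) :
    IsSum (p 1) (t * (u * t * u) * z) ∧ Commute u (t * (u * t * u) * z) := by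
  obtain ⟨hu1, hu0, hur, hutu, -, -, hy1⟩ := h.y_facts hb hp ht htQ hu huQ
  have h01 := hp.pth.adj 0 (by omega)
  have h12 := hp.pth.adj 1 (by omega)
  have h02 : p 0 ≠ p 2 := hp.pth.nb 0 (by omega)
  have h2Al : Al (p 2) := (hp.pth.al_iff (by omega)).mpr even_two
  have h23 := hp.pth.adj 2 (by omega)
  have htv := h.notMem_Z_one hp htQ
  have hv := not_al_of_adj h01 hp.pth.al
  have hzv : z ∉ vertexZ 2 (p 1) := fun e =>
    hz1 (h.eq_one_of_mem_two h12.symm h23 h2Al (hp.pth.nb 1 (by omega)) e hz)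
  have hutv : u * t * u ∉ vertexZ 2 (p 1) := fun e => by
    have h4 := (h.Z_be_commute hv hu1 e).eq
    have : t = u * t * u := by
      have h5 : u * (u * t * u) = (u * t * u) * u := h4
      rw [← mul_assoc, ← mul_assoc, h.Z_sq hu, one_mul, mul_assoc _ u u, h.Z_sq hu, mul_one] at h5
      rw [← h5, mul_assoc, h.Z_sq hu, mul_one]
    exact htv (this ▸ e)
  refine ⟨h.sum_of_trip hb h01.symm (adj_smul_of_mem h01.symm hu1) h12 hu0.symm h02 hur
    ⟨t, u * t * u, z, ht, htv, hutu, hutv, h.Z_be_le h23 h2Al hz, hzv, rfl⟩, ?_⟩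
  have cz : Commute u z := h.Z_be_commute (not_al_of_adj h23 h2Al)
    (h.walk_fix hp.pth le_rfl (by omega) (by omega) (by omega) hu) hz
  refine Commute.mul_right ?_ cz
  have hc : Commute (u * t * u) t := h.commute_near hb (adj_smul_of_mem h01.symm hu1) h01.symm hutu ht
  show u * (t * (u * t * u)) = t * (u * t * u) * u
  calc u * (t * (u * t * u)) = u * t * u * t * u := by group
    _ = t * (u * t * u) * u := by rw [hc.eq]

theorem exists_first_mover (hb : 3 ≤ b₀) (hp : DC p) {t u : X} (ht : t ∈ vertexZ 2 (p 0))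
    (htQ : t ∉ vertexQ 2 (p b₀)) (hu : u ∈ vertexZ 2 (p (b₀ + 1))) (huQ : u ∉ vertexQ 2 (p 1))
    (hy : t * (u * t * u) ∉ vertexZ 2 (p 2)) :
    ∃ s q : X, IsSum (p 1) s ∧ q ∈ vertexQ 2 (p 1) ∧ ¬ Commute q s := by
  obtain ⟨z, hz, hz1⟩ := h.exists_ne_one (p 3)
  obtain ⟨hsum, hus⟩ := h.sum_y hb hp ht htQ hu huQ hz hz1
  refine by_contra fun hcon => hy ?_
  simp only [not_exists, not_and, not_not] at hcon
  have h12 := hp.pth.adj 1 (by omega)
  have hv := not_al_of_adj (hp.pth.adj 0 (by omega)) hp.pth.al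
  have h2Al : Al (p 2) := (hp.pth.al_iff (by omega)).mpr even_two
  have hVs := h.sum_mem_V hsum
  have h1 : t * (u * t * u) * z ∈ vertexZ 2 (p 1) := by
    refine h.mem_Z_be h12.symm hv (edge_comm (p 1) (p 2) ▸ h.Q_le_edge h12 (h.V_le_Q (by omega) hVs))
      (fun g hg => ?_) ((h.V_abelian hb _).2 _ hVs)
    rw [edge_comm] at hg
    by_cases hgQ : g ∈ vertexQ 2 (p 1)
    · exact hcon _ g hsum hgQ
    · have huT : u ∈ edgeStabilizer (p 1) (p 2) :=
        ⟨h.walk_fix hp.pth le_rfl (by omega) (by omega) (by omega) hu,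
          h.walk_fix hp.pth le_rfl (by omega) (by omega) (by omega) hu⟩
      rw [show g = u * (u⁻¹ * g) by group]
      exact hus.mul_left (hcon _ _ hsum (h.inv_mul_mem_Q h12 huT hg huQ hgQ))
  have hz2 := h.Z_be_le (hp.pth.adj 2 (by omega)) h2Al hz
  have := mul_mem (h.Z_be_le h12.symm h2Al h1) hz2
  rwa [mul_assoc _ z z, h.Z_sq hz2, mul_one] at this

/-- An element of `V_c ∩ V_d` outside `Z_a` is the sum at `c` up to `Z_a`. -/
theorem inter_sum (hb : 3 ≤ b₀) (hs : Single M₁ M₂)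
    {a c d : CosetVertex M₁ M₂} (ha : Al a) (hac : (Γ).Adj a c) (had : (Γ).Adj a d) (hcd : c ≠ d) {w : X}
    (hwc : w ∈ Vv c) (hwd : w ∈ Vv d) (hwa : w ∉ vertexZ 2 a) :
    ∃ s, IsSum c s ∧ s * w ∈ vertexZ 2 a := by
  have hZc : vertexZ 2 a ≤ Vv c := Z_le_V hac.symm
  have hZd : vertexZ 2 a ≤ Vv d := Z_le_V had.symm
  -- `V_c` and `V_d` differ
  have hVne : ¬ Vv c ≤ Vv d := by
    intro hle
    obtain ⟨g, hg, rfl⟩ := exists_smul_eq_of_adj hac had
    have hfin : Finite ↥(Vv (g • c)) := by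
      haveI := h.finQ (g • c)
      exact Finite.of_injective _ (Subgroup.inclusion_injective (h.V_le_Q (by omega)))
    have heq : Vv c = Vv (g • c) := by
      refine Subgroup.eq_of_le_of_card_ge hle ?_
      rw [← card_map_equiv (MulAut.conj g⁻¹) (Vv (g • c))]
      haveI := h.finQ c
      haveI : Finite ↥(Vv c) := Finite.of_injective _ (Subgroup.inclusion_injective (h.V_le_Q (by omega)))
      refine Subgroup.card_le_of_le ?_
      rintro _ ⟨y, hy, rfl⟩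
      have := h.V_conj (g := g⁻¹) hy
      rwa [inv_smul_smul] at this
    refine h.V_ne_bot (h.eq_bot_of_normalized hac.symm ((h.V_le_Q (by omega)).trans (h.Q_le_edge hac.symm))
      (h.stab_le_normalizer_V c) ?_)
    exact h.edge_sup hac had hcd (fun x hx => h.stab_le_normalizer_V c hx.2)
      (fun x hx => heq ▸ h.stab_le_normalizer_V (g • c) hx.2)
  have hc := not_al_of_adj hac ha
  obtain ⟨a₁, a₂, ha₁, ha₂, n1, n2, n3⟩ := h.exists_three c hac.symm
  have hV : Vv c ≤ vertexZ 2 a ⊔ vertexZ 2 a₁ ⊔ vertexZ 2 a₂ := V_le fun e he => by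
    rcases h.neighbour_eq hac.symm ha₁ ha₂ he n1 n2 n3 with rfl | rfl | rfl
    exacts [le_sup_left.trans le_sup_left, le_sup_right.trans le_sup_left, le_sup_right]
  have hcc : ∀ x ∈ Vv c, ∀ y ∈ Vv c, Commute x y := (h.V_abelian hb c).1
  obtain ⟨pq, hpq, r, hr, rfl⟩ := exists_mul_of_mem_sup
    (fun x hx y hy => hcc x ((sup_le hZc (Z_le_V ha₁) : vertexZ 2 a ⊔ vertexZ 2 a₁ ≤ Vv c) hx) y (Z_le_V ha₂ hy))
    (hV hwc)
  obtain ⟨p, hp, q, hq, rfl⟩ := exists_mul_of_mem_sup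
    (fun x hx y hy => hcc x (hZc hx) y (Z_le_V ha₁ hy)) hpq
  -- one branch in `V_d` pulls in the other
  have one : ∀ {e e' : CosetVertex M₁ M₂} {x : X}, (Γ).Adj c e → (Γ).Adj c e' → e ≠ a → e' ≠ a → e ≠ e' →
      x ∈ vertexZ 2 e → x ∉ vertexZ 2 c → x ∈ Vv d → False := by
    intro e e' x he he' hea he'a hee hx hxc hxd
    have hle : vertexZ 2 e ≤ Vv d := fun y hy => by
      by_cases hyc : y ∈ vertexZ 2 c
      · exact hZd (h.Z_be_le hac ha hyc)
      · have := mul_mem (hZd (h.Z_be_le hac ha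
          (h.mul_mem_Z_be hs he.symm (al_of_adj he.symm hc) hy hx hyc hxc))) hxd
        rwa [mul_assoc, h.Z_sq hx, mul_one] at this
    obtain ⟨k, hk, hkc⟩ := h.exists_Q_sub hac
    have hk' : k • e = e' := h.swap_eq hac.symm he he' hea he'a hee
      (edge_comm a c ▸ h.Q_le_edge hac hk) hkc
    refine hVne (V_le fun f hf => ?_)
    rcases h.neighbour_eq hac.symm he he' hf hea.symm he'a.symm hee with rfl | rfl | rfl
    · exact hZd
    · exact hle
    · intro y hy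
      have h1 : k⁻¹ * y * k ∈ vertexZ 2 e := by
        have := h.Z_conj (g := k⁻¹) (hk' ▸ hy : y ∈ vertexZ 2 (k • e))
        rwa [inv_smul_smul, inv_inv] at this
      have := h.V_conj (g := k) (hle h1)
      rwa [h.Q_smul had hk, show k * (k⁻¹ * y * k) * k⁻¹ = y by group] at this
  have hpd := hZd hp
  by_cases hqc : q ∈ vertexZ 2 c
  · exfalso
    have hqa := h.Z_be_le hac ha hqc
    by_cases hrc : r ∈ vertexZ 2 c
    · exact hwa (mul_mem (mul_mem hp hqa) (h.Z_be_le hac ha hrc))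
    · refine one ha₂ ha₁ n2.symm n1.symm n3.symm hr hrc ?_
      have := mul_mem (inv_mem (mul_mem hpd (hZd hqa))) hwd
      rwa [inv_mul_cancel_left] at this
  by_cases hrc : r ∈ vertexZ 2 c
  · exfalso
    refine one ha₁ ha₂ n1.symm n2.symm n3 hq hqc ?_
    have := mul_mem (inv_mem hpd) (mul_mem hwd (inv_mem (hZd (h.Z_be_le hac ha hrc))))
    rwa [mul_inv_cancel_right, inv_mul_cancel_left] at this
  obtain ⟨x₀, hx₀, hx₀c⟩ := h.exists_notMem_Z_be hac.symm hc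
  refine ⟨x₀ * q * r, h.sum_of_trip hb hac.symm ha₁ ha₂ n1 n2 n3
    ⟨x₀, q, r, hx₀, hx₀c, hq, hqc, hr, hrc, rfl⟩, ?_⟩
  have hqr : q * r ∈ Vv c := mul_mem (Z_le_V ha₁ hq) (Z_le_V ha₂ hr)
  rw [mul_assoc x₀ q r, mul_assoc p q r, (hcc _ hqr _ (hZc hp)).mul_mul_mul_comm x₀ (q * r),
    (h.V_abelian hb c).2 _ hqr, mul_one]
  exact mul_mem hx₀ hp

/-- `V_c ∩ V_d = Z_a`. -/
theorem V_inter (hb : 3 ≤ b₀) (hs : Single M₁ M₂) {v₀ : CosetVertex M₁ M₂} (hv₀ : ¬ Al v₀) {s₀ q₀ : X}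
    (hs₀ : IsSum v₀ s₀) (hq₀ : q₀ ∈ vertexQ 2 v₀) (hne₀ : ¬ Commute q₀ s₀)
    {a c d : CosetVertex M₁ M₂} (ha : Al a) (hac : (Γ).Adj a c) (had : (Γ).Adj a d) (hcd : c ≠ d) {w : X}
    (hwc : w ∈ Vv c) (hwd : w ∈ Vv d) : w ∈ vertexZ 2 a := by
  by_contra hwa
  obtain ⟨s, hsum, hsw⟩ := h.inter_sum hb hs ha hac had hcd hwc hwd hwa
  obtain ⟨s', hsum', hsw'⟩ := h.inter_sum hb hs ha had hac hcd.symm hwd hwc hwa
  have hc := not_al_of_adj hac ha
  have hdv := not_al_of_adj had ha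
  obtain ⟨k, hkc, hka, hks⟩ := h.exists_sum_mover hb hs hv₀ hs₀ hq₀ hne₀ hc hac.symm hsum
  have hkd : k • d = d := h.Q_smul had hka
  have red : ∀ {c : CosetVertex M₁ M₂} {s : X}, (Γ).Adj a c → k • c = c → IsSum c s → s * w ∈ vertexZ 2 a →
      w ∈ Vv c → k * s * k⁻¹ * s = k * w * k⁻¹ * w := by
    intro c s hac' hkc' hsum hsw hwc'
    have hsV := h.sum_mem_V hsum
    have hαV := Z_le_V hac'.symm hsw
    have hksV : k * s * k⁻¹ ∈ Vv c := by
      have := h.V_conj (g := k) hsV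
      rwa [hkc'] at this
    have e : w = s * (s * w) := by rw [← mul_assoc, (h.V_abelian hb c).2 _ hsV, one_mul]
    conv_rhs => rw [e]
    rw [show k * (s * (s * w)) * k⁻¹ = (k * s * k⁻¹) * (k * (s * w) * k⁻¹) by group,
      (h.Z_commute_Q hsw hka).eq, mul_inv_cancel_right,
      ((h.V_abelian hb c).1 _ hαV _ hsV).mul_mul_mul_comm (k * s * k⁻¹) (s * w), h.Z_sq hsw, mul_one]
  have h1 := h.sum_unique hb hs hc (h.sum_conj_self (h.Q_smul_self hkc) hsum) hsum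
  have h2 := h.sum_unique hb hs hdv (h.sum_conj_self hkd hsum') hsum'
  rw [red hac (h.Q_smul_self hkc) hsum hsw hwc] at h1
  rw [red had hkd hsum' hsw' hwd] at h2
  refine hks (mul_inv_eq_iff_eq_mul.mp ?_)
  have h4 := eq_inv_of_mul_eq_one_left ((red hac (h.Q_smul_self hkc) hsum hsw hwc).trans
    (h.eq_one_of_mem_two hac had ha hcd h1 h2))
  rw [h4]
  exact inv_eq_of_mul_eq_one_right ((h.V_abelian hb c).2 _ (h.sum_mem_V hsum))

end Hyp

end Cfsg.Lib.Local.ThreeThree
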