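import Cfsg.Agent.Lib.Local.ThreeThree.OddBig

/-!
# Goldschmidt's amalgams of index (3, 3): `y` lies in `Z` next to the end
-/

set_option autoImplicit false
set_option linter.style.haveILetI false
set_option linter.unusedSectionVars false

namespace Cfsg.Lib.Local.ThreeThree

open Subgroup Cfsg Cfsg.Lib Cfsg.Lib.Local MulAction
open scoped commutatorElement

variable {X : Type*} [Group X] {M₁ M₂ : Subgroup X}

local notation "Γ" => cosetGraph M₁ M₂
local notation "b₀" => criticalDistance 2 M₁ M₂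

namespace Hyp

variable (h : Hyp M₁ M₂)
include h

variable {p : ℕ → CosetVertex M₁ M₂}

theorem y_mem (hb : 3 ≤ b₀) (ho : Odd b₀) (hp : DC p) {t u : X} (ht : t ∈ vertexZ 2 (p 0))
    (htQ : t ∉ vertexQ 2 (p b₀)) (hu : u ∈ vertexZ 2 (p (b₀ + 1))) (huQ : u ∉ vertexQ 2 (p 1)) :
    t * (u * t * u) ∈ vertexZ 2 (p 2) := by
  by_contra hy
  have hs := h.single_odd hb ho
  have hB := h.big_of_notMem hb hs hp ht htQ hu huQ hy
  obtain ⟨s₀, q₀, hs₀, hq₀, hne₀⟩ := h.exists_first_mover hb hp ht htQ hu huQ hy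
  obtain ⟨hu1, hu0, hur, -, hyV, hyVb, -⟩ := h.y_facts hb hp ht htQ hu huQ
  have h01 := hp.pth.adj 0 (by omega)
  have h12 := hp.pth.adj 1 (by omega)
  have hv := not_al_of_adj h01 hp.pth.al
  have h2Al : Al (p 2) := (hp.pth.al_iff (by omega)).mpr even_two
  have J := fun {a c d : CosetVertex M₁ M₂} (ha : Al a) (hac : (Γ).Adj a c) (had : (Γ).Adj a d)
    (hcd : c ≠ d) {w : X} (hwc : w ∈ Vv c) (hwd : w ∈ Vv d) =>
      h.V_inter hb hs hv hs₀ hq₀ hne₀ ha hac had hcd hwc hwd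
  rcases (by obtain ⟨k, hk⟩ := ho; omega : b₀ = 3 ∨ 5 ≤ b₀) with hb3 | hb5
  · exact hy (J h2Al h12.symm (hp.pth.adj 2 (by omega)) (hp.pth.nb 1 (by omega)) hyV
      (by rw [hb3] at hyVb; exact hyVb))
  obtain ⟨r, hr, hre⟩ := h.shift' hb ho hp
  obtain ⟨t', ht', htQ'⟩ := SetLike.not_le_iff_exists.mp hr.left
  obtain ⟨u', hu', huQ'⟩ := SetLike.not_le_iff_exists.mp hr.right
  obtain ⟨z, hz, hz1⟩ := h.exists_ne_one (p 1)
  have hr2 : r 2 = p 0 := hre 0 (by omega)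
  have hr3 : r 3 = p 1 := hre 1 (by omega)
  have hrb : r b₀ = p (b₀ - 2) := by
    have := hre (b₀ - 2) (by omega)
    rwa [show b₀ - 2 + 2 = b₀ by omega] at this
  obtain ⟨hsum, -⟩ := h.sum_y hb hr ht' htQ' hu' huQ' (hr3 ▸ hz) hz1
  obtain ⟨-, -, -, -, -, hyV', -⟩ := h.y_facts hb hr ht' htQ' hu' huQ'
  rw [hrb] at hyV'
  set y' := t' * (u' * t' * u') with hy'
  set w := r 1 with hw
  have haw : (Γ).Adj (p 0) w := hr2 ▸ (hr.pth.adj 1 (by omega)).symm
  have hw1 : w ≠ p 1 := hr3 ▸ hr.pth.nb 1 (by omega)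
  set s := y' * z with hsdef
  -- `u` commutes with `s`
  have hus : u * s * u⁻¹ = s := by
    have h1 : Commute u y' := by
      have hle : Vv (p (b₀ - 2)) ≤ centralizer {u} := V_le fun e he x hx => by
        refine mem_centralizer_singleton_iff.mpr (h.commute_of_dist ?_ hx hu).eq
        have h1 := h.connected.dist_triangle (u := e) (v := p (b₀ - 2)) (w := p (b₀ + 1))
        have h2 := (h.walk_dist hp.pth (i := b₀ - 2) (j := b₀ + 1) (by omega) le_rfl).1
        rw [SimpleGraph.dist_eq_one_iff_adj.mpr he.symm] at h1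
        omega
      exact (mem_centralizer_singleton_iff.mp (hle hyV') : y' * u = u * y').symm
    rw [(h1.mul_right (h.Z_be_commute hv hu1 hz)).eq, mul_inv_cancel_right]
  set o := u • p 0 with hodef
  set w' := u • w with hw'
  have ho1 : (Γ).Adj (p 1) o := adj_smul_of_mem h01.symm hu1
  have how' : (Γ).Adj o w' := cosetGraph_adj_smul haw u
  have hwv := not_al_of_adj haw hp.pth.al
  have hoAl : Al o := (al_smul u _).mpr hp.pth.al
  have hsw' : IsSum w' s := by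
    have := h.sum_conj (g := u) hsum
    rwa [hus] at this
  -- move `w` fixing `w'`
  obtain ⟨q, hq, hqo, hqa⟩ := h.exists_branch (by omega) hv h01.symm ho1 hu0.symm
  set w'' := q • w with hw''
  have hqT : q ∈ edgeStabilizer (p 0) (p 1) := edge_comm (p 1) (p 0) ▸ h.Q_le_edge h01.symm hq
  have hww : w'' ≠ w := h.smul_ne h01 haw hw1.symm hqT hqa
  have hw''1 : w'' ≠ p 1 := fun e => hw1 (MulAction.injective q (e.trans (h.Q_smul_self hq).symm))
  have haw'' : (Γ).Adj (p 0) w'' := adj_smul_of_mem haw hqT.1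
  set s₂ := q * s * q⁻¹ with hs₂
  have hs₂' : IsSum w'' s₂ := h.sum_conj hsum
  have hs₂w' : IsSum w' s₂ := h.sum_conj_self (h.Q_smul how' hqo) hsw'
  have hc : s * s₂ ∈ vertexZ 2 w' := h.sum_unique hb hs (not_al_of_adj how' hoAl) hsw' hs₂w'
  have hsV := h.sum_mem_V hsum
  have hss := (h.V_abelian hb w).2 _ hsV
  have hca : s * s₂ ∈ vertexZ 2 o := h.Z_be_le how' hoAl hc
  by_cases hc1 : s * s₂ = 1
  · refine h.sum_notMem_Z hb hs hB hwv haw.symm hsum (J hp.pth.al haw haw'' hww.symm hsV ?_)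
    rw [show s = s₂ by rw [eq_inv_of_mul_eq_one_right hc1, inv_eq_of_mul_eq_one_right hss]]
    exact h.sum_mem_V hs₂'
  -- an element swapping the other two neighbours of `p 1`
  obtain ⟨k, hk, hk1⟩ := h.exists_Q_sub h01
  have hkT : k ∈ edgeStabilizer (p 1) (p 0) := edge_comm (p 0) (p 1) ▸ h.Q_le_edge h01 hk
  have hko : k • o = p 2 := h.swap_eq h01.symm ho1 h12 hu0 (hp.pth.nb 0 (by omega)).symm hur hkT hk1
  have hα := h.sum_unique hb hs hwv (h.sum_conj_self (h.Q_smul haw hk) hsum) hsum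
  have hβ := h.sum_unique hb hs (not_al_of_adj haw'' hp.pth.al)
    (h.sum_conj_self (h.Q_smul haw'' hk) hs₂') hs₂'
  set α := k * s * k⁻¹ * s with hαdef
  set β := k * s₂ * k⁻¹ * s₂ with hβdef
  have hαa := h.Z_be_le haw hp.pth.al hα
  have hβa := h.Z_be_le haw'' hp.pth.al hβ
  have hs₂V := h.sum_mem_V hs₂'
  have e : k * (s * s₂) * k⁻¹ = α * β * (s * s₂) := by
    have e1 : k * s * k⁻¹ = α * s := by rw [hαdef, mul_assoc _ s s, hss, mul_one]
    have e2 : k * s₂ * k⁻¹ = β * s₂ := by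
      rw [hβdef, mul_assoc _ s₂ s₂, (h.V_abelian hb w'').2 _ hs₂V, mul_one]
    rw [show k * (s * s₂) * k⁻¹ = (k * s * k⁻¹) * (k * s₂ * k⁻¹) by group, e1, e2]
    exact ((h.V_abelian hb w).1 _ hsV _ (Z_le_V haw.symm hβa)).mul_mul_mul_comm α s₂
  have hk2 : k * (s * s₂) * k⁻¹ ∈ vertexZ 2 (p 2) := hko ▸ h.Z_conj hca
  have hmem : s * s₂ ∈ vertexZ 2 (p 0) ⊔ vertexZ 2 (p 2) := by
    have := mul_mem (mem_sup_left (T := vertexZ 2 (p 2)) (inv_mem (mul_mem hαa hβa)))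
      (mem_sup_right (S := vertexZ 2 (p 0)) (e ▸ hk2 : α * β * (s * s₂) ∈ vertexZ 2 (p 2)))
    rwa [inv_mul_cancel_left] at this
  refine hB (p 1) (p 0) (p 2) o hv h01.symm h12 ho1 (hp.pth.nb 0 (by omega)) hu0 hur fun x hx => ?_
  have hvle : vertexZ 2 (p 1) ≤ vertexZ 2 (p 0) ⊔ vertexZ 2 (p 2) :=
    (h.Z_be_le h01 hp.pth.al).trans le_sup_left
  by_cases hxv : x ∈ vertexZ 2 (p 1)
  · exact hvle hxv
  · have hcv : s * s₂ ∉ vertexZ 2 (p 1) := fun e' => hc1 (h.eq_one_of_mem_two how' ho1.symm hoAl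
      (fun e'' => hw1 (MulAction.injective u (e''.trans hu1.symm))) hc e')
    have := mul_mem (hvle (h.mul_mem_Z_be hs ho1.symm hoAl hx hca hxv hcv)) hmem
    rwa [mul_assoc, h.Z_sq hca, mul_one] at this

/-- `V_v` is generated by the `Z`s of any two neighbours. -/
theorem V_small (hb : 3 ≤ b₀) (ho : Odd b₀) {v a c : CosetVertex M₁ M₂} (hv : ¬ Al v)
    (hva : (Γ).Adj v a) (hvc : (Γ).Adj v c) (hne : a ≠ c) : Vv v ≤ vertexZ 2 a ⊔ vertexZ 2 c := by
  obtain ⟨p, hp⟩ := h.exists_DC hb ho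
  obtain ⟨t, ht, htQ⟩ := SetLike.not_le_iff_exists.mp hp.left
  obtain ⟨u, hu, huQ⟩ := SetLike.not_le_iff_exists.mp hp.right
  have hy := h.y_mem hb ho hp ht htQ hu huQ
  obtain ⟨hu1, hu0, hur, hutu, -, -, -⟩ := h.y_facts hb hp ht htQ hu huQ
  have h01 := hp.pth.adj 0 (by omega)
  have h12 := hp.pth.adj 1 (by omega)
  have h02 : p 0 ≠ p 2 := hp.pth.nb 0 (by omega)
  have hv1 := not_al_of_adj h01 hp.pth.al
  have hs := h.single_odd hb ho
  have hbase : vertexZ 2 (u • p 0) ≤ vertexZ 2 (p 0) ⊔ vertexZ 2 (p 2) := by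
    have ho1 := adj_smul_of_mem h01.symm hu1
    have hoAl : Al (u • p 0) := (al_smul u _).mpr hp.pth.al
    have hm : u * t * u ∈ vertexZ 2 (p 0) ⊔ vertexZ 2 (p 2) := by
      have := mul_mem (mem_sup_left (T := vertexZ 2 (p 2)) ht) (mem_sup_right (S := vertexZ 2 (p 0)) hy)
      rwa [← mul_assoc, h.Z_sq ht, one_mul] at this
    have hvle : vertexZ 2 (p 1) ≤ vertexZ 2 (p 0) ⊔ vertexZ 2 (p 2) :=
      (h.Z_be_le h01 hp.pth.al).trans le_sup_left
    have hnv : u * t * u ∉ vertexZ 2 (p 1) := fun e => h.notMem_Z_one hp htQ (by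
      have := h.Z_conj_self hu1 e
      rwa [h.Z_inv hu, show u * (u * t * u) * u = (u * u) * t * (u * u) by group, h.Z_sq hu, one_mul, mul_one] at this)
    intro x hx
    by_cases hxv : x ∈ vertexZ 2 (p 1)
    · exact hvle hxv
    · have := mul_mem (hvle (h.mul_mem_Z_be hs ho1.symm hoAl hx hutu hxv hnv)) hm
      rwa [mul_assoc, h.Z_sq hutu, mul_one] at this
  obtain ⟨g, g1, g2, g3⟩ := h.transport₃ hv1 hv h01.symm h12 h02 hva hvc hne
  refine V_le fun e he => ?_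
  have h1 := map_mono (f := (MulAut.conj g).toMonoidHom) hbase
  rw [Subgroup.map_sup, h.Z_map, h.Z_map, h.Z_map, g2, g3] at h1
  rcases eq_or_ne e a with rfl | hea
  · exact le_sup_left
  rcases eq_or_ne e c with rfl | hec
  · exact le_sup_right
  rw [h.eq_third hva hvc (g1 ▸ cosetGraph_adj_smul (adj_smul_of_mem h01.symm hu1) g) he hne
    (fun e' => hu0 (MulAction.injective g (e'.trans g2.symm)))
    (fun e' => hur (MulAction.injective g (e'.trans g3.symm))) hea hec]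
  exact h1

theorem y_mem' (hb : 3 ≤ b₀) (ho : Odd b₀) (hp : DC p) {t u : X} (ht : t ∈ vertexZ 2 (p 0))
    (htQ : t ∉ vertexQ 2 (p b₀)) (hu : u ∈ vertexZ 2 (p (b₀ + 1))) (huQ : u ∉ vertexQ 2 (p 1)) :
    t * (u * t * u) ∈ vertexZ 2 (p (b₀ - 1)) ∧ t * (u * t * u) ∉ vertexZ 2 (p b₀) := by
  have h1 := h.y_mem hb ho (hp.rev ho) (t := u) (u := t) (by simpa using hu)
    (by simpa [show b₀ + 1 - b₀ = 1 by omega] using huQ) (by simpa using ht) (by simpa using htQ)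
  have h2 := (h.y_facts hb (hp.rev ho) (t := u) (u := t) (by simpa using hu)
    (by simpa [show b₀ + 1 - b₀ = 1 by omega] using huQ) (by simpa using ht) (by simpa using htQ)).2.2.2.2.2.2
  simp only [show b₀ + 1 - 2 = b₀ - 1 by omega, Nat.add_sub_cancel] at h1 h2
  have e : u * (t * u * t) = (t * (u * t * u))⁻¹ := by
    simp only [mul_inv_rev, h.Z_inv ht, h.Z_inv hu]; group
  rw [e, inv_mem_iff] at h1 h2
  exact ⟨h1, h2⟩

end Hyp

end Cfsg.Lib.Local.ThreeThree
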