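import Cfsg.Agent.Lib.Local.ThreeThree.OddNotBig

/-!
# Goldschmidt's amalgams of index (3, 3): an odd critical distance is at most three
-/

set_option autoImplicit false
set_option linter.style.haveILetI false
set_option linter.unusedSectionVars false

namespace Cfsg.Lib.Local.ThreeThree

open Subgroup Cfsg Cfsg.Lib Cfsg.Lib.Local MulAction
open scoped commutatorElement

variable {X : Type*} [Group X] {M₁ M₂ : Subgroup X}

local notation "Γ" => cosetGraph M₁ M₂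
local notation "b₀" => criticalDistance 2 M₁ M₂

/-- The subgroup generated by the `Z`s at distance at most three from `v` on three-step walks. -/
def Uv (v : CosetVertex M₁ M₂) : Subgroup X :=
  ⨆ a ∈ (Γ).neighborSet v, ⨆ c ∈ (Γ).neighborSet a, Vv c

theorem Z_le_U {v a c e : CosetVertex M₁ M₂} (h1 : (Γ).Adj v a) (h2 : (Γ).Adj a c) (h3 : (Γ).Adj c e) :
    vertexZ 2 e ≤ Uv v :=
  (Hyp.Z_le_V h3).trans ((le_iSup₂ (f := fun c (_ : c ∈ (Γ).neighborSet a) => Vv c) c h2).trans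
    (le_iSup₂ (f := fun a (_ : a ∈ (Γ).neighborSet v) => ⨆ c ∈ (Γ).neighborSet a, Vv c) a h1))

theorem U_le {v : CosetVertex M₁ M₂} {S : Subgroup X}
    (hS : ∀ a c e, (Γ).Adj v a → (Γ).Adj a c → (Γ).Adj c e → vertexZ 2 e ≤ S) : Uv v ≤ S :=
  iSup₂_le fun a ha => iSup₂_le fun c hc => Hyp.V_le fun e he => hS a c e ha hc he

namespace Hyp

variable (h : Hyp M₁ M₂)
include h

variable {p : ℕ → CosetVertex M₁ M₂}

theorem stab_le_normalizer_U (v : CosetVertex M₁ M₂) : stabilizer X v ≤ normalizer (Uv v : Set X) :=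
  Core.le_normalizer_iff_conj_mem.mpr fun g hg x hx => by
    have hle : Uv v ≤ (Uv v).comap (MulAut.conj g).toMonoidHom := U_le fun a c e ha hc he z hz =>
      Z_le_U (adj_smul_of_mem ha hg) (cosetGraph_adj_smul hc g) (cosetGraph_adj_smul he g) (h.Z_conj hz)
    exact hle hx

theorem dist_three {v a c e : CosetVertex M₁ M₂} (h1 : (Γ).Adj v a) (h2 : (Γ).Adj a c) (h3 : (Γ).Adj c e) :
    (Γ).dist e v ≤ 3 := by
  have d1 := h.connected.dist_triangle (u := e) (v := c) (w := v)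
  have d2 := h.connected.dist_triangle (u := c) (v := a) (w := v)
  rw [SimpleGraph.dist_eq_one_iff_adj.mpr h3.symm] at d1
  rw [SimpleGraph.dist_eq_one_iff_adj.mpr h2.symm, SimpleGraph.dist_eq_one_iff_adj.mpr h1.symm] at d2
  omega

theorem odd_lt_seven (hb : 3 ≤ b₀) (ho : Odd b₀) : b₀ < 7 := by
  by_contra hb'
  have hb7 : 7 ≤ b₀ := by omega
  have hs := h.single_odd hb ho
  -- `Z_{p 1}` lies in `Z_{p (b - 3)}`
  have key : ∀ p : ℕ → CosetVertex M₁ M₂, DC p → vertexZ 2 (p 1) ≤ vertexZ 2 (p (b₀ - 3)) := by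
    intro p hp
    obtain ⟨r, hr, hre⟩ := h.shift' hb ho hp
    obtain ⟨t', ht', htQ'⟩ := SetLike.not_le_iff_exists.mp hr.left
    obtain ⟨u', hu', huQ'⟩ := SetLike.not_le_iff_exists.mp hr.right
    obtain ⟨-, -, -, -, -, -, hy1⟩ := h.y_facts hb hr ht' htQ' hu' huQ'
    have hy2 := h.y_mem hb ho hr ht' htQ' hu' huQ'
    have hyb := (h.y_mem' hb ho hr ht' htQ' hu' huQ').1
    have hr2 : r 2 = p 0 := hre 0 (by omega)
    have hrb : r (b₀ - 1) = p (b₀ - 3) := by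
      have := hre (b₀ - 3) (by omega)
      rwa [show b₀ - 3 + 2 = b₀ - 1 by omega] at this
    rw [hr2] at hy2
    rw [hrb] at hyb
    set y := t' * (u' * t' * u') with hy
    obtain ⟨u, hu, huQ⟩ := SetLike.not_le_iff_exists.mp hp.right
    obtain ⟨t, ht, htQ⟩ := SetLike.not_le_iff_exists.mp hp.left
    obtain ⟨hu1, hu0, -, -, -, -, -⟩ := h.y_facts hb hp ht htQ hu huQ
    have h01 := hp.pth.adj 0 (by omega)
    have hc : Commute u y := (h.commute_of_dist
      ((h.walk_dist hp.pth (i := b₀ - 3) (j := b₀ + 1) (by omega) le_rfl).1.trans_lt (by omega)) hyb hu).symm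
    have hy0 := h.Z_conj (g := u) hy2
    rw [hc.eq, mul_inv_cancel_right] at hy0
    have hv := not_al_of_adj h01 hp.pth.al
    have hyv := h.mem_Z_be_of_two (by omega) hv h01.symm (adj_smul_of_mem h01.symm hu1) hu0.symm hy2 hy0
    have hne : y ≠ 1 := fun e => hy1 (e ▸ one_mem _)
    intro z hz
    by_cases hz1 : z = 1
    · exact hz1 ▸ one_mem _
    · rw [hs (p 1) hv z hz y hyv hz1 hne]; exact hyb
  obtain ⟨p, hp⟩ := h.exists_DC hb ho
  obtain ⟨r, hr, hre⟩ := h.shift' hb ho hp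
  obtain ⟨u, hu, huQ⟩ := SetLike.not_le_iff_exists.mp hp.right
  obtain ⟨t, ht, htQ⟩ := SetLike.not_le_iff_exists.mp hp.left
  obtain ⟨hu1, hu0, -, -, -, -, -⟩ := h.y_facts hb hp ht htQ hu huQ
  have h01 := hp.pth.adj 0 (by omega)
  have hr2 : r 2 = p 0 := hre 0 (by omega)
  have hr3 : r 3 = p 1 := hre 1 (by omega)
  have hrb : r (b₀ - 3) = p (b₀ - 5) := by
    have := hre (b₀ - 5) (by omega)
    rwa [show b₀ - 5 + 2 = b₀ - 3 by omega] at this
  have hru : ∀ {i : ℕ}, i ≤ b₀ - 3 → b₀ - 5 ≤ i → ∀ z ∈ vertexZ 2 (p i), z ∈ centralizer {u} :=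
    fun {i} h1 h2 z hz => mem_centralizer_singleton_iff.mpr (h.commute_of_dist
      ((h.walk_dist hp.pth (i := i) (j := b₀ + 1) (by omega) le_rfl).1.trans_lt (by omega)) hz hu).eq
  have hrl := key r hr
  rw [hrb] at hrl
  have hall : vertexZ 2 (p 0) ≤ centralizer {u} := by
    rw [h.Z_gen (hr2 ▸ (hr.pth.adj 1 (by omega)).symm : (Γ).Adj (p 0) (r 1)) h01 hp.pth.al
      (hr3 ▸ hr.pth.nb 1 (by omega))]
    exact sup_le (hrl.trans (hru (by omega) le_rfl)) ((key p hp).trans (hru le_rfl (by omega)))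
  refine h.Z_not_le (by omega) (not_al_of_adj h01 hp.pth.al) h01.symm (adj_smul_of_mem h01.symm hu1)
    hu0.symm fun z hz => ?_
  have := h.Z_conj (g := u) hz
  rwa [← (mem_centralizer_singleton_iff.mp (hall hz) : z * u = u * z), mul_inv_cancel_right] at this

theorem end_commutator_five (hb5 : b₀ = 5) (ho : Odd b₀) (hp : DC p) {x y : X} (hx : x ∈ vertexZ 2 (p 0))
    (hy : y ∈ vertexZ 2 (p (b₀ + 1))) :
    x * (y * x * y) ∈ vertexZ 2 (p 3) ∧
      (x ∉ vertexZ 2 (p 1) → y ∉ vertexZ 2 (p b₀) → x * (y * x * y) ≠ 1) := by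
  have hb : 3 ≤ b₀ := by omega
  have hs := h.single_odd hb ho
  have h01 := hp.pth.adj 0 (by omega)
  have hbb := hp.pth.adj b₀ (Nat.lt_succ_self _)
  have hlast : Al (p (b₀ + 1)) := (hp.pth.al_iff le_rfl).mpr (h.even_succ_of_odd ho)
  have hv1 := not_al_of_adj h01 hp.pth.al
  have hvb := not_al_of_adj hbb.symm hlast
  have trivial1 : Commute x y → x * (y * x * y) = 1 := fun hc => by
    rw [hc.symm.eq, mul_assoc x y y, h.Z_sq hy, mul_one, h.Z_sq hx]
  by_cases hx1 : x ∈ vertexZ 2 (p 1)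
  · refine ⟨?_, fun hn => absurd hx1 hn⟩
    rw [trivial1 ?_]
    · exact one_mem _
    · exact (h.Z_commute_Q hy (h.Z_be_le_Q hv1 ((h.walk_dist hp.pth (i := 1) (j := b₀ + 1) (by omega) le_rfl).1.trans (by omega)) hx1))
  by_cases hy1 : y ∈ vertexZ 2 (p b₀)
  · refine ⟨?_, fun _ hn => absurd hy1 hn⟩
    rw [trivial1 ?_]
    · exact one_mem _
    · exact (h.Z_commute_Q hx (h.Z_be_le_Q hvb ((h.walk_dist hp.pth (i := 0) (j := b₀) (by omega) (by omega)).2.trans (by omega)) hy1)).symm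
  obtain ⟨t, ht, htQ⟩ := SetLike.not_le_iff_exists.mp hp.left
  obtain ⟨u, hu, huQ⟩ := SetLike.not_le_iff_exists.mp hp.right
  have hxQ : x ∉ vertexQ 2 (p b₀) := fun e => htQ (by
    have h1 := h.mul_mem_Z_be hs h01 hp.pth.al hx ht hx1 (h.notMem_Z_one hp htQ)
    have := mul_mem (inv_mem e) (h.Z_be_le_Q hv1 ((h.walk_dist hp.pth (i := 1) (j := b₀) (by omega) (by omega)).1.trans (by omega)) h1)
    rwa [inv_mul_cancel_left] at this)
  have hyQ : y ∉ vertexQ 2 (p 1) := fun e => huQ (by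
    have hub : u ∉ vertexZ 2 (p b₀) := fun e' =>
      huQ (h.Z_be_le_Q hvb ((h.walk_dist hp.pth (i := 1) (j := b₀) (by omega) (by omega)).2.trans (by omega)) e')
    have h1 := h.mul_mem_Z_be hs hbb.symm hlast hy hu hy1 hub
    have := mul_mem (inv_mem e) (h.Z_be_le_Q hvb ((h.walk_dist hp.pth (i := 1) (j := b₀) (by omega) (by omega)).2.trans (by omega)) h1)
    rwa [inv_mul_cancel_left] at this)
  have h2 := h.y_mem hb ho hp hx hxQ hy hyQ
  have h4 := (h.y_mem' hb ho hp hx hxQ hy hyQ).1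
  rw [hb5] at h4
  have hv3 : ¬ Al (p 3) := fun e => absurd ((hp.pth.al_iff (by omega)).mp e) (by decide)
  exact ⟨h.mem_Z_be_of_two (by omega) hv3 (adj_prev hp.pth (i := 3) (by omega) (by omega))
    (hp.pth.adj 3 (by omega)) (hp.pth.nb 2 (by omega)) h2 h4,
    fun _ _ e => (h.y_facts hb hp hx hxQ hy hyQ).2.2.2.2.2.2 (e ▸ one_mem _)⟩

/-- At `b = 5` opposite branches at a vertex commute into its `Z`. -/
theorem U_comm_five (hb5 : b₀ = 5) (ho : Odd b₀) {v a c e a' c' e' : CosetVertex M₁ M₂} (hv : ¬ Al v)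
    (h1 : (Γ).Adj v a) (h2 : (Γ).Adj a c) (h3 : (Γ).Adj c e)
    (h1' : (Γ).Adj v a') (h2' : (Γ).Adj a' c') (h3' : (Γ).Adj c' e') {x y : X} (hx : x ∈ vertexZ 2 e)
    (hy : y ∈ vertexZ 2 e') :
    x * (y * x * y) ∈ vertexZ 2 v ∧ (a ≠ a' → c ≠ v → c' ≠ v → e ≠ a → e' ≠ a' →
      x ∉ vertexZ 2 c → y ∉ vertexZ 2 c' → x * (y * x * y) ≠ 1) := by
  have trivial1 : (Γ).dist e e' ≤ 4 → x * (y * x * y) ∈ vertexZ 2 v := fun hd => by
    have hc := h.commute_of_dist (δ := e) (μ := e') (by omega) hx hy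
    rw [hc.symm.eq, mul_assoc x y y, h.Z_sq hy, mul_one, h.Z_sq hx]
    exact one_mem _
  have tri := fun {a b c : CosetVertex M₁ M₂} => h.connected.dist_triangle (u := a) (v := b) (w := c)
  have d1 := SimpleGraph.dist_eq_one_iff_adj.mpr h3.symm
  have d2 := SimpleGraph.dist_eq_one_iff_adj.mpr h2.symm
  have d2' := SimpleGraph.dist_eq_one_iff_adj.mpr h2'
  have d3' := SimpleGraph.dist_eq_one_iff_adj.mpr h3'
  have dv := h.dist_three h1 h2 h3
  have dv' := h.dist_three h1' h2' h3'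
  rw [SimpleGraph.dist_comm] at dv'
  by_cases hgen : a ≠ a' ∧ c ≠ v ∧ c' ≠ v ∧ e ≠ a ∧ e' ≠ a'
  swap
  · refine ⟨trivial1 ?_, fun g1 g2 g3 g4 g5 => absurd ⟨g1, g2, g3, g4, g5⟩ hgen⟩
    simp only [not_and_or, not_not] at hgen
    have t1 := @tri e v e'
    rcases hgen with rfl | rfl | rfl | rfl | rfl
    · have := @tri e c e'
      have := @tri c a e'
      have := @tri a c' e'
      omega
    · have := @tri e c e'
      omega
    · have := @tri e c' e'
      omega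
    · have := SimpleGraph.dist_eq_one_iff_adj.mpr h1.symm
      have := @tri e v e'
      omega
    · have := SimpleGraph.dist_eq_one_iff_adj.mpr h1'
      omega
  obtain ⟨haa, hcv, hcv', hea, hea'⟩ := hgen
  obtain ⟨p, hp⟩ := h.exists_DC (by omega) ho
  have hv3 : ¬ Al (p 3) := fun e => absurd ((hp.pth.al_iff (by omega)).mp e) (by decide)
  obtain ⟨g, g3, g2, g4, g1, g5⟩ := h.transport₅ (by omega) hv3 hv
    (adj_prev hp.pth (i := 3) (by omega) (by omega)) (hp.pth.adj 3 (by omega)) (hp.pth.nb 2 (by omega))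
    (adj_prev hp.pth (i := 2) (by omega) (by omega)) (hp.pth.nb 1 (by omega)) (hp.pth.adj 4 (by omega))
    (hp.pth.nb 3 (by omega)).symm h1 h1' haa h2 hcv h2' hcv'
  have he0 : (Γ).Adj (p 1) (g⁻¹ • e) := by
    have := cosetGraph_adj_smul h3 g⁻¹
    rwa [← g1, inv_smul_smul] at this
  have he0' : g⁻¹ • e ≠ p 2 := fun e0 => hea (by rw [← g2, ← e0, smul_inv_smul])
  have he6 : (Γ).Adj (p 5) (g⁻¹ • e') := by
    have := cosetGraph_adj_smul h3' g⁻¹
    rwa [← g5, inv_smul_smul] at this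
  have he6' : g⁻¹ • e' ≠ p 4 := fun e0 => hea' (by rw [← g4, ← e0, smul_inv_smul])
  have hp1 := h.dc_left (by omega) ho hp he0 he0'
  have hrev := hp1.rev ho
  have hp2 := h.dc_left (by omega) ho hrev (e := g⁻¹ • e')
    (by show (Γ).Adj ((fun i => if i = 0 then g⁻¹ • e else p i) (b₀ + 1 - 1)) _
        simp only [hb5]; exact he6)
    (by show g⁻¹ • e' ≠ (fun i => if i = 0 then g⁻¹ • e else p i) (b₀ + 1 - 2)
        simp only [hb5]; exact he6')
  have hq := hp2.rev ho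
  set q : ℕ → CosetVertex M₁ M₂ := fun i =>
    (fun i => if i = 0 then g⁻¹ • e' else (fun i => if i = 0 then g⁻¹ • e else p i) (b₀ + 1 - i)) (b₀ + 1 - i) with hqdef
  have q0 : q 0 = g⁻¹ • e := by simp [hqdef, hb5]
  have q6 : q (b₀ + 1) = g⁻¹ • e' := by simp [hqdef]
  have q1 : q 1 = p 1 := by simp [hqdef, hb5]
  have q3 : q 3 = p 3 := by simp [hqdef, hb5]
  have q5 : q b₀ = p 5 := by simp [hqdef, hb5]
  have hx' : g⁻¹ * x * g ∈ vertexZ 2 (q 0) := by
    rw [q0]; have := h.Z_conj (g := g⁻¹) hx; rwa [inv_inv] at this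
  have hy' : g⁻¹ * y * g ∈ vertexZ 2 (q (b₀ + 1)) := by
    rw [q6]; have := h.Z_conj (g := g⁻¹) hy; rwa [inv_inv] at this
  obtain ⟨m1, m2⟩ := h.end_commutator_five hb5 ho hq hx' hy'
  have e1 : g⁻¹ * x * g * (g⁻¹ * y * g * (g⁻¹ * x * g) * (g⁻¹ * y * g)) = g⁻¹ * (x * (y * x * y)) * g := by
    group
  rw [e1, q3] at m1
  rw [e1, q1, q5] at m2
  refine ⟨?_, fun _ _ _ _ _ hxc hyc e2 => m2 (fun e3 => hxc ?_) (fun e3 => hyc ?_) (by rw [e2]; group)⟩
  · have := h.Z_conj (g := g) m1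
    rwa [g3, show g * (g⁻¹ * (x * (y * x * y)) * g) * g⁻¹ = x * (y * x * y) by group] at this
  · have := h.Z_conj (g := g) e3
    rwa [g1, show g * (g⁻¹ * x * g) * g⁻¹ = x by group] at this
  · have := h.Z_conj (g := g) e3
    rwa [g5, show g * (g⁻¹ * y * g) * g⁻¹ = y by group] at this

theorem odd_ne_five (hb : 3 ≤ b₀) (ho : Odd b₀) : b₀ ≠ 5 := by
  intro hb5
  obtain ⟨p, hp⟩ := h.exists_DC hb ho
  obtain ⟨t, ht, htQ⟩ := SetLike.not_le_iff_exists.mp hp.left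
  have hv3 : ¬ Al (p 3) := fun e => absurd ((hp.pth.al_iff (by omega)).mp e) (by decide)
  have hv5 : ¬ Al (p 5) := fun e => absurd ((hp.pth.al_iff (by omega)).mp e) (by decide)
  have h6Al : Al (p 6) := (hp.pth.al_iff (by omega)).mpr (by decide)
  obtain ⟨htT, htm⟩ := h.odd_move hb hp.pth ht htQ
  simp only [hb5, show (5:ℕ) - 1 = 4 from rfl, show (5:ℕ) + 1 = 6 from rfl] at htT htm
  have h56 : (Γ).Adj (p 5) (p 6) := hp.pth.adj 5 (by omega)
  obtain ⟨w, h67, hw5⟩ := h.exists_two_neighbours h56.symm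
  obtain ⟨e, hwe, he6⟩ := h.exists_two_neighbours h67.symm
  have hw := not_al_of_adj h67 h6Al
  obtain ⟨z, hz, hzw⟩ := h.exists_notMem_Z_be hwe hw
  -- every element of `U` has square in `Z`
  have hfixU : Uv (p 3) ≤ stabilizer X (p 3) := U_le fun a c e ha hc he =>
    h.le_stab ((h.dist_three ha hc he).trans (by omega))
  have hcomm : ∀ {a c e a' c' e' : CosetVertex M₁ M₂} {x y : X}, (Γ).Adj (p 3) a → (Γ).Adj a c →
      (Γ).Adj c e → (Γ).Adj (p 3) a' → (Γ).Adj a' c' → (Γ).Adj c' e' → x ∈ vertexZ 2 e → y ∈ vertexZ 2 e' →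
      ⁅x, y⁆ ∈ vertexZ 2 (p 3) := fun {a c e a' c' e' x y} g1 g2 g3 g1' g2' g3' hx hy => by
    have := (h.U_comm_five hb5 ho hv3 g1 g2 g3 g1' g2' g3' hx hy).1
    rw [commutatorElement_def, h.Z_inv hx, h.Z_inv hy]
    simpa [mul_assoc] using this
  have hsymm : ∀ {x y : X}, ⁅x, y⁆ ∈ vertexZ 2 (p 3) → ⁅y, x⁆ ∈ vertexZ 2 (p 3) := fun {x y} e => by
    rw [← commutatorElement_inv]; exact inv_mem e
  have hsub : ∀ (y : X), Uv (p 3) ≤ stabilizer X (p 3) →
      (∀ a c e, (Γ).Adj (p 3) a → (Γ).Adj a c → (Γ).Adj c e → ∀ x ∈ vertexZ 2 e, ⁅x, y⁆ ∈ vertexZ 2 (p 3)) →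
      ∀ x ∈ Uv (p 3), ⁅x, y⁆ ∈ vertexZ 2 (p 3) := fun y _ hy => by
    let S : Subgroup X :=
      { carrier := {x | x ∈ stabilizer X (p 3) ∧ ⁅x, y⁆ ∈ vertexZ 2 (p 3)}
        one_mem' := ⟨one_mem _, by rw [commutatorElement_one_left]; exact one_mem _⟩
        mul_mem' := fun {m n} hm hn => ⟨mul_mem hm.1 hn.1, by
          rw [show ⁅m * n, y⁆ = m * ⁅n, y⁆ * m⁻¹ * ⁅m, y⁆ by simp only [commutatorElement_def]; group,
            (h.Z_be_commute hv3 hm.1 hn.2).eq, mul_inv_cancel_right]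
          exact mul_mem hn.2 hm.2⟩
        inv_mem' := fun {m} hm => ⟨inv_mem hm.1, by
          rw [show ⁅m⁻¹, y⁆ = m⁻¹ * ⁅m, y⁆⁻¹ * m by simp only [commutatorElement_def]; group,
            (h.Z_be_commute hv3 (inv_mem hm.1) (inv_mem hm.2)).eq, mul_assoc, inv_mul_cancel, mul_one]
          exact inv_mem hm.2⟩ }
    exact fun x hx => ((U_le fun a c e ha hc he z hz =>
      ⟨hfixU (Z_le_U ha hc he hz), hy a c e ha hc he z hz⟩ : Uv (p 3) ≤ S) hx).2
  have hUU : ∀ x ∈ Uv (p 3), ∀ y ∈ Uv (p 3), ⁅x, y⁆ ∈ vertexZ 2 (p 3) := fun x hx y hy =>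
    hsub y hfixU (fun a c e ha hc he x' hx' => hsymm (hsub x' hfixU
      (fun a' c' e' ha' hc' he' y' hy' => hcomm ha' hc' he' ha hc he hy' hx') y hy)) x hx
  have hsq : ∀ x ∈ Uv (p 3), x * x ∈ vertexZ 2 (p 3) := by
    let S : Subgroup X :=
      { carrier := {x | x ∈ Uv (p 3) ∧ x * x ∈ vertexZ 2 (p 3)}
        one_mem' := ⟨one_mem _, by rw [one_mul]; exact one_mem _⟩
        mul_mem' := fun {m n} hm hn => ⟨mul_mem hm.1 hn.1, by
          have hc := hUU n hn.1 m hm.1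
          rw [show m * n * (m * n) = m * (⁅n, m⁆ * (m * (n * n))) by simp only [commutatorElement_def]; group,
            ← mul_assoc m, (h.Z_be_commute hv3 (hfixU hm.1) hc).eq, mul_assoc, ← mul_assoc m m]
          exact mul_mem hc (mul_mem hm.2 hn.2)⟩
        inv_mem' := fun {m} hm => ⟨inv_mem hm.1, by rw [← mul_inv_rev]; exact inv_mem hm.2⟩ }
    exact fun x hx => ((U_le fun a c e ha hc he z hz =>
      ⟨Z_le_U ha hc he hz, by rw [h.Z_sq hz]; exact one_mem _⟩ : Uv (p 3) ≤ S) hx).2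
  have hz3 : z • p 3 = p 3 := h.le_stab (by
    have t1 := h.connected.dist_triangle (u := e) (v := w) (w := p 3)
    have t2 := h.connected.dist_triangle (u := w) (v := p 6) (w := p 3)
    have t3 := (h.walk_dist hp.pth (i := 3) (j := 6) (by omega) (by omega)).2
    rw [SimpleGraph.dist_eq_one_iff_adj.mpr hwe.symm] at t1
    rw [SimpleGraph.dist_eq_one_iff_adj.mpr h67.symm] at t2
    omega) hz
  have htU : t ∈ Uv (p 3) := Z_le_U (adj_prev hp.pth (i := 3) (by omega) (by omega))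
    (adj_prev hp.pth (i := 2) (by omega) (by omega)) (adj_prev hp.pth (i := 1) (by omega) (by omega)) ht
  have hzU : z * t * z⁻¹ ∈ Uv (p 3) := (mem_normalizer_iff.mp (h.stab_le_normalizer_U _ hz3) t).mp htU
  have hm := hsq _ (mul_mem htU hzU)
  have ht5 : t • p 5 = p 5 := htT.1
  have htz : t * z * t ∈ vertexZ 2 (t • e) := by
    have := h.Z_conj (g := t) hz
    rwa [h.Z_inv ht] at this
  have htzw : t * z * t ∉ vertexZ 2 (t • w) := fun e' => hzw (by
    have := h.Z_conj (g := t⁻¹) e'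
    rwa [inv_smul_smul, inv_inv, h.Z_inv ht, show t * (t * z * t) * t = (t * t) * z * (t * t) by group,
      h.Z_sq ht, one_mul, mul_one] at this)
  obtain ⟨hm5, hne5⟩ := h.U_comm_five hb5 ho hv5 (adj_smul_of_mem h56 ht5) (cosetGraph_adj_smul h67 t)
    (cosetGraph_adj_smul hwe t) h56 h67 hwe htz hz
  have hne := hne5 htm (fun e' => hw5 (MulAction.injective t (e'.trans ht5.symm))) hw5
    (fun e' => he6 (MulAction.injective t e')) he6 htzw hzw
  have e2 : t * z * t * (z * (t * z * t) * z) = t * (z * t * z⁻¹) * (t * (z * t * z⁻¹)) := by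
    rw [h.Z_inv hz]; group
  rw [e2] at hm5 hne
  exact hne (h.eq_one_of_mem_two (adj_prev hp.pth (i := 4) (by omega) (by omega)) (hp.pth.adj 4 (by omega))
    ((hp.pth.al_iff (by omega)).mpr (by decide)) (hp.pth.nb 3 (by omega)) hm hm5)

end Hyp

end Cfsg.Lib.Local.ThreeThree
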