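import Cfsg.Agent.Lib.Local.ThreeThree.Odd

/-!
# Goldschmidt's amalgams of index (3, 3): the commutator of the two ends
-/

set_option autoImplicit false
set_option linter.style.haveILetI false
set_option linter.unusedSectionVars false

namespace Cfsg.Lib.Local.ThreeThree

open Subgroup Cfsg Cfsg.Lib Cfsg.Lib.Local MulAction
open scoped commutatorElement

variable {X : Type*} [Group X] {M₁ M₂ : Subgroup X}

local notation "Γ" => cosetGraph M₁ M₂
local notation "b₀" => criticalDistance 2 M₁ M₂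

/-- The `Z`s of two neighbours of a vertex of the second kind do not contain that of the third. -/
def Big (M₁ M₂ : Subgroup X) : Prop :=
  ∀ v a c e : CosetVertex M₁ M₂, ¬ Al v → (cosetGraph M₁ M₂).Adj v a → (cosetGraph M₁ M₂).Adj v c → (cosetGraph M₁ M₂).Adj v e →
    a ≠ c → e ≠ a → e ≠ c → ¬ vertexZ 2 e ≤ vertexZ 2 a ⊔ vertexZ 2 c

theorem exists_mul_of_mem_sup {A B : Subgroup X} (hc : ∀ a ∈ A, ∀ b ∈ B, Commute a b) {x : X}
    (hx : x ∈ A ⊔ B) : ∃ a ∈ A, ∃ b ∈ B, x = a * b := by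
  let S : Subgroup X :=
    { carrier := {x | ∃ a ∈ A, ∃ b ∈ B, x = a * b}
      one_mem' := ⟨1, one_mem A, 1, one_mem B, (one_mul 1).symm⟩
      mul_mem' := by
        rintro _ _ ⟨a, ha, b, hb, rfl⟩ ⟨a', ha', b', hb', rfl⟩
        exact ⟨a * a', mul_mem ha ha', b * b', mul_mem hb hb', (hc a' ha' b hb).symm.mul_mul_mul_comm a b'⟩
      inv_mem' := by
        rintro _ ⟨a, ha, b, hb, rfl⟩
        exact ⟨a⁻¹, inv_mem ha, b⁻¹, inv_mem hb, by rw [mul_inv_rev, (hc a ha b hb).inv_inv.eq]⟩ }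
  exact (sup_le (fun a ha => ⟨a, ha, 1, one_mem B, (mul_one a).symm⟩)
    (fun b hb => ⟨1, one_mem A, b, hb, (one_mul b).symm⟩) : A ⊔ B ≤ S) hx

namespace Hyp

variable (h : Hyp M₁ M₂)
include h

variable {p : ℕ → CosetVertex M₁ M₂}

theorem commute_near (hb : 3 ≤ b₀) {v a c : CosetVertex M₁ M₂} (hva : (Γ).Adj v a) (hvc : (Γ).Adj v c)
    {x y : X} (hx : x ∈ vertexZ 2 a) (hy : y ∈ vertexZ 2 c) : Commute x y := by
  refine h.commute_of_dist ?_ hx hy
  have h1 := h.connected.dist_triangle (u := a) (v := v) (w := c)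
  rw [SimpleGraph.dist_eq_one_iff_adj.mpr hva.symm, SimpleGraph.dist_eq_one_iff_adj.mpr hvc] at h1
  omega

theorem V_abelian (hb : 3 ≤ b₀) (v : CosetVertex M₁ M₂) :
    (∀ x ∈ Vv v, ∀ y ∈ Vv v, Commute x y) ∧ ∀ x ∈ Vv v, x * x = 1 :=
  h.V_elem fun _ _ he he' _ hx _ hy => h.commute_near hb he he' hx hy

theorem notMem_Z_one (hp : DC p) {t : X} (htQ : t ∉ vertexQ 2 (p b₀)) : t ∉ vertexZ 2 (p 1) := fun e => by
  refine htQ (h.Z_be_le_Q (fun e => ?_) ((h.walk_dist hp.pth (i := 1) (j := b₀) h.b_pos (Nat.le_succ _)).1.trans (by omega)) e)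
  exact absurd ((hp.pth.al_iff (i := 1) (by omega)).mp e) (by decide)

/-- Facts on `y = t · t^u` for the two ends of a walk critical from both sides. -/
theorem y_facts (hb : 3 ≤ b₀) (hp : DC p) {t u : X} (ht : t ∈ vertexZ 2 (p 0))
    (htQ : t ∉ vertexQ 2 (p b₀)) (hu : u ∈ vertexZ 2 (p (b₀ + 1))) (huQ : u ∉ vertexQ 2 (p 1)) :
    u • p 1 = p 1 ∧ u • p 0 ≠ p 0 ∧ u • p 0 ≠ p 2 ∧ u * t * u ∈ vertexZ 2 (u • p 0) ∧
      t * (u * t * u) ∈ Vv (p 1) ∧ t * (u * t * u) ∈ Vv (p b₀) ∧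
      t * (u * t * u) ∉ vertexZ 2 (p 1) := by
  have h01 := hp.pth.adj 0 (by omega)
  have h12 := hp.pth.adj 1 (by omega)
  have h02 : p 0 ≠ p 2 := hp.pth.nb 0 (by omega)
  have hu1 := h.walk_fix hp.pth (j := 1) le_rfl (by omega) (by omega) (by omega) hu
  have hu2 := h.walk_fix hp.pth (j := 2) le_rfl (by omega) (by omega) (by omega) hu
  have hu0 : u • p 0 ≠ p 0 := fun e => huQ (h.mem_Q_of_fix h01.symm h12 h02 hu1 e hu2)
  have hur : u • p 0 ≠ p 2 := fun e => h02 (MulAction.injective u (e.trans hu2.symm))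
  have hutu : u * t * u ∈ vertexZ 2 (u • p 0) := by
    have := h.Z_conj (g := u) ht
    rwa [h.Z_inv hu] at this
  have ha0 := adj_smul_of_mem h01.symm hu1
  refine ⟨hu1, hu0, hur, hutu, mul_mem (Z_le_V h01.symm ht) (Z_le_V ha0 hutu), ?_, fun e => ?_⟩
  · have htb := h.walk_fix hp.pth (j := b₀) (Nat.zero_le _) (Nat.le_succ _) (by omega) (by omega) ht
    have hbb := hp.pth.adj b₀ (Nat.lt_succ_self _)
    have := mul_mem (Z_le_V (adj_smul_of_mem hbb htb) (h.Z_conj (g := t) hu)) (Z_le_V hbb hu)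
    rwa [h.Z_inv ht, show t * u * t * u = t * (u * t * u) by group] at this
  · have hv := not_al_of_adj h01 hp.pth.al
    have h1 : u * t * u ∈ vertexZ 2 (p 0) := by
      have := mul_mem ht (h.Z_be_le h01 hp.pth.al e)
      rwa [← mul_assoc, h.Z_sq ht, one_mul] at this
    have h2 := h.mem_Z_be_of_two (by omega) hv h01.symm ha0 hu0.symm h1 hutu
    refine h.notMem_Z_one hp htQ ?_
    have h3 := mul_mem e (inv_mem h2)
    rwa [mul_inv_cancel_right] at h3

/-- If `Z_{p 0}` and `Z_{p 2}` do not generate `V_{p 1}` the situation is the same everywhere. -/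
theorem big_of_notMem (hb : 3 ≤ b₀) (hs : Single M₁ M₂) (hp : DC p) {t u : X} (ht : t ∈ vertexZ 2 (p 0))
    (htQ : t ∉ vertexQ 2 (p b₀)) (hu : u ∈ vertexZ 2 (p (b₀ + 1))) (huQ : u ∉ vertexQ 2 (p 1))
    (hy : t * (u * t * u) ∉ vertexZ 2 (p 2)) : Big M₁ M₂ := by
  obtain ⟨hu1, hu0, hur, hutu, -, -, -⟩ := h.y_facts hb hp ht htQ hu huQ
  have h01 := hp.pth.adj 0 (by omega)
  have h12 := hp.pth.adj 1 (by omega)
  have h02 : p 0 ≠ p 2 := hp.pth.nb 0 (by omega)
  have ha0 := adj_smul_of_mem h01.symm hu1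
  have hv := not_al_of_adj h01 hp.pth.al
  have htv := h.notMem_Z_one hp htQ
  have hno : ¬ vertexZ 2 (u • p 0) ≤ vertexZ 2 (p 0) ⊔ vertexZ 2 (p 2) := by
    intro hle
    obtain ⟨a, ha, c, hc, e⟩ := exists_mul_of_mem_sup
      (fun a ha c hc => h.commute_near hb h01.symm h12 ha hc) (hle hutu)
    by_cases ha1 : a ∈ vertexZ 2 (p 1)
    · have h2 : u * t * u ∈ vertexZ 2 (p 2) :=
        e ▸ mul_mem (h.Z_be_le h12.symm (al_of_adj h12.symm hv) ha1) hc
      have h3 := h.mem_Z_be_of_two (by omega) hv ha0 h12 hur hutu h2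
      refine htv ?_
      have h4 : u * (u * t * u) * u⁻¹ = u * t * u := by
        rw [(h.Z_be_commute hv hu1 h3).eq, mul_inv_cancel_right]
      rw [h.Z_inv hu, show u * (u * t * u) * u = (u * u) * t * (u * u) by group, h.Z_sq hu, one_mul, mul_one] at h4
      rw [h4]
      exact h3
    · refine hy ?_
      have hta := h.mul_mem_Z_be hs h01 hp.pth.al ht ha htv ha1
      rw [e, ← mul_assoc]
      exact mul_mem (h.Z_be_le h12.symm (al_of_adj h12.symm hv) hta) hc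
  intro v a c e hv' hva hvc hve hac hea hec hle
  obtain ⟨g, g1, g2, g3⟩ := h.transport₃ hv' hv hva hvc hac h01.symm h12 h02
  have hge : g • e = u • p 0 := h.eq_third h01.symm h12 ha0 (g1 ▸ cosetGraph_adj_smul hve g) h02 hu0 hur
    (fun e' => hea (MulAction.injective g (e'.trans g2.symm))) (fun e' => hec (MulAction.injective g (e'.trans g3.symm)))
  refine hno ?_
  have h1 := map_mono (f := (MulAut.conj g).toMonoidHom) hle
  rwa [Subgroup.map_sup, h.Z_map, h.Z_map, h.Z_map, g2, g3, hge] at h1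

end Hyp

end Cfsg.Lib.Local.ThreeThree
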