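import Cfsg.Agent.Lib.Local.ThreeThree.BOne
import Cfsg.Agent.Lib.PGroup.Basic

/-!
# Goldschmidt's amalgams of index (3, 3): `Ω₁Z(T)` of order two
-/

set_option autoImplicit false
set_option linter.style.haveILetI false
set_option linter.unusedSectionVars false

namespace Cfsg.Lib.Local.ThreeThree

open Subgroup Cfsg Cfsg.Lib Cfsg.Lib.Local MulAction
open scoped commutatorElement

variable {X : Type*} [Group X] {M₁ M₂ : Subgroup X}

local notation "Γ" => cosetGraph M₁ M₂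
local notation "b₀" => criticalDistance 2 M₁ M₂

/-- `Z_v` has only one nontrivial element for the vertices `v` of the second kind. -/
def Single (M₁ M₂ : Subgroup X) : Prop :=
  ∀ v : CosetVertex M₁ M₂, ¬ Al v → ∀ x ∈ vertexZ 2 v, ∀ y ∈ vertexZ 2 v, x ≠ 1 → y ≠ 1 → x = y

/-- When all conjugates `x t x⁻¹` differ from `t` by the same element, the centraliser has index two. -/
theorem card_le_two_mul_centralizer {H Zs : Subgroup X} [Finite H] {t : X}
    (hone : ∀ x ∈ Zs, ∀ y ∈ Zs, x ≠ 1 → y ≠ 1 → x = y) (hZ : ∀ x ∈ H, x * t * x⁻¹ * t⁻¹ ∈ Zs) :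
    Nat.card H ≤ 2 * Nat.card ↥(H ⊓ centralizer {t}) := by
  refine card_le_two_mul fun x hx y hy hxc hyc => mem_centralizer_singleton_iff.mpr ?_
  have ne : ∀ {g : X}, g ∉ centralizer {t} → g * t * g⁻¹ * t⁻¹ ≠ 1 := fun {g} hg e =>
    hg (mem_centralizer_singleton_iff.mpr (mul_inv_eq_iff_eq_mul.mp (mul_inv_eq_one.mp e)))
  have e := mul_right_cancel (hone _ (hZ x hx) _ (hZ y hy) (ne hxc) (ne hyc))
  calc x⁻¹ * y * t = x⁻¹ * (y * t * y⁻¹) * y := by group
    _ = x⁻¹ * (x * t * x⁻¹) * y := by rw [e]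
    _ = t * (x⁻¹ * y) := by group

namespace Hyp

variable (h : Hyp M₁ M₂)
include h

/-- A nontrivial subgroup normalised by an edge group contains a nontrivial element of `Z` of the
end of the second kind. -/
theorem exists_Z_be_mem {a v : CosetVertex M₁ M₂} (hav : (Γ).Adj a v) (hv : ¬ Al v) {N : Subgroup X}
    (hN : N ≤ edgeStabilizer a v) (hn : edgeStabilizer a v ≤ normalizer (N : Set X)) (hne : N ≠ ⊥) :
    ∃ z ∈ N, z ∈ vertexZ 2 v ∧ z ≠ 1 := by
  haveI : Fact (Nat.Prime 2) := ⟨Nat.prime_two⟩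
  haveI := h.finT a v
  haveI : (N.subgroupOf (edgeStabilizer a v)).Normal := (normal_subgroupOf_iff_le_normalizer hN).mpr hn
  have hne' : N.subgroupOf (edgeStabilizer a v) ≠ ⊥ := fun e => hne (by
    rw [← map_subgroupOf_eq_of_le hN, e, Subgroup.map_bot])
  obtain ⟨z, hz, hzc, ho⟩ := PGroup.exists_mem_center_orderOf_eq (h.side hav).2 hne'
  have h2 : z * z = 1 := by
    have := pow_orderOf_eq_one z
    rwa [ho, pow_two] at this
  refine ⟨z, hz, h.mem_Z_be hav hv z.2 (fun g hg => ?_) (congrArg Subtype.val h2), fun e => ?_⟩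
  · exact congrArg Subtype.val (mem_center_iff.mp hzc ⟨g, hg⟩)
  · rw [show z = 1 from Subtype.ext e, orderOf_one] at ho
    omega

theorem single_of {a v : CosetVertex M₁ M₂} (hav : (Γ).Adj a v) (ha : Al a) {S : Subgroup X}
    (hidx : ∀ x ∈ vertexZ 2 a, ∀ y ∈ vertexZ 2 a, x ∉ S → y ∉ S → x⁻¹ * y ∈ S)
    (hS : ∀ x ∈ vertexZ 2 a, x ∈ S → x ∈ vertexZ 2 v) : Single M₁ M₂ := by
  obtain ⟨w, haw, hwv⟩ := h.exists_two_neighbours hav
  intro u hu x hx y hy hx1 hy1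
  obtain ⟨g, rfl⟩ := exists_smul_be (not_al_of_adj haw ha) hu
  have pull : ∀ {z : X}, z ∈ vertexZ 2 (g • w) → g⁻¹ * z * g ∈ vertexZ 2 w := fun {z} hz => by
    have := h.Z_conj (g := g⁻¹) hz
    rwa [inv_inv, inv_smul_smul] at this
  have out : ∀ {z : X}, z ∈ vertexZ 2 w → z ≠ 1 → z ∉ S := fun {z} hz hz1 hzS =>
    hz1 (h.eq_one_of_mem_two haw hav ha hwv hz (hS z (h.Z_be_le haw ha hz) hzS))
  have ne : ∀ {z : X}, z ≠ 1 → g⁻¹ * z * g ≠ 1 := fun {z} hz e => hz (by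
    have : z = g * (g⁻¹ * z * g) * g⁻¹ := by group
    rw [this, e, mul_one, mul_inv_cancel])
  have h1 := pull hx
  have h2 := pull hy
  have h3 := hidx _ (h.Z_be_le haw ha h1) _ (h.Z_be_le haw ha h2) (out h1 (ne hx1)) (out h2 (ne hy1))
  have h4 := h.eq_one_of_mem_two haw hav ha hwv (mul_mem (inv_mem h1) h2)
    (hS _ (mul_mem (inv_mem (h.Z_be_le haw ha h1)) (h.Z_be_le haw ha h2)) h3)
  exact mul_left_cancel (mul_right_cancel (inv_mul_eq_one.mp h4))

theorem mul_mem_Z_be (hs : Single M₁ M₂) {a v : CosetVertex M₁ M₂} (hav : (Γ).Adj a v) (ha : Al a)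
    {x y : X} (hx : x ∈ vertexZ 2 a) (hy : y ∈ vertexZ 2 a) (hxv : x ∉ vertexZ 2 v) (hyv : y ∉ vertexZ 2 v) :
    x * y ∈ vertexZ 2 v := by
  obtain ⟨w, haw, hwv⟩ := h.exists_two_neighbours hav
  obtain ⟨z₀, hz₀, hz1⟩ := h.exists_ne_one w
  have hz₀a := h.Z_be_le haw ha hz₀
  let S : Subgroup X :=
    { carrier := {z | z ∈ vertexZ 2 a ∧ (z ∈ vertexZ 2 v ∨ z * z₀ ∈ vertexZ 2 v)}
      one_mem' := ⟨one_mem _, Or.inl (one_mem _)⟩
      mul_mem' := fun {p q} hp hq => ⟨mul_mem hp.1 hq.1, by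
        have hqz : Commute q z₀ := h.Z_comm hq.1 hz₀a
        rcases hp.2 with p1 | p1 <;> rcases hq.2 with q1 | q1
        · exact Or.inl (mul_mem p1 q1)
        · exact Or.inr (by rw [mul_assoc]; exact mul_mem p1 q1)
        · exact Or.inr (by rw [mul_assoc, hqz.eq, ← mul_assoc]; exact mul_mem p1 q1)
        · refine Or.inl ?_
          have := mul_mem p1 q1
          rwa [hqz.eq, mul_assoc, ← mul_assoc z₀ z₀,
            h.Z_sq hz₀a, one_mul] at this⟩
      inv_mem' := fun {p} hp => by rw [h.Z_inv hp.1]; exact hp }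
  have hle : vertexZ 2 a ≤ S := by
    rw [h.Z_gen hav haw ha hwv.symm]
    refine sup_le (fun z hz => ⟨h.Z_be_le hav ha hz, Or.inl hz⟩) fun z hz => ⟨h.Z_be_le haw ha hz, ?_⟩
    by_cases hz' : z = 1
    · exact Or.inl (hz' ▸ one_mem _)
    · rw [hs w (not_al_of_adj haw ha) z hz z₀ hz₀ hz' hz1, h.Z_sq hz₀a]
      exact Or.inr (one_mem _)
  have p1 := (hle hx).2.resolve_left hxv
  have q1 := (hle hy).2.resolve_left hyv
  have := mul_mem p1 q1
  rwa [(h.Z_comm hy hz₀a).eq, mul_assoc, ← mul_assoc z₀ z₀, h.Z_sq hz₀a, one_mul] at this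

/-- An element of `Z_a` outside the `Z`s of two neighbours lies in the `Z` of the third one. -/
theorem mem_Z_third (hs : Single M₁ M₂) {a u v w : CosetVertex M₁ M₂} (hau : (Γ).Adj a u)
    (hav : (Γ).Adj a v) (haw : (Γ).Adj a w) (ha : Al a) (huv : u ≠ v) (huw : u ≠ w) (hvw : v ≠ w)
    {y : X} (hy : y ∈ vertexZ 2 a) (hyv : y ∉ vertexZ 2 v) (hyw : y ∉ vertexZ 2 w) :
    y ∈ vertexZ 2 u := by
  obtain ⟨z, hz, hz1⟩ := h.exists_ne_one u
  have hza := h.Z_be_le hau ha hz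
  have h1 := h.mul_mem_Z_be hs hav ha hy hza hyv fun e => hz1 (h.eq_one_of_mem_two hau hav ha huv hz e)
  have h2 := h.mul_mem_Z_be hs haw ha hy hza hyw fun e => hz1 (h.eq_one_of_mem_two hau haw ha huw hz e)
  rw [eq_inv_of_mul_eq_one_left (h.eq_one_of_mem_two hav haw ha hvw h1 h2), h.Z_inv hza]
  exact hz

end Hyp

end Cfsg.Lib.Local.ThreeThree
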