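import Cfsg.Agent.Lib.Local.ThreeThree.ZFacts

/-!
# Goldschmidt's amalgams of index (3, 3): walks, covers and critical walks

Only walks without backtracking are used; the coset graph need not be a tree.
-/

set_option autoImplicit false
set_option linter.style.haveILetI false
set_option linter.unusedSectionVars false

namespace Cfsg.Lib.Local.ThreeThree

open Subgroup Cfsg Cfsg.Lib Cfsg.Lib.Local MulAction
open scoped commutatorElement

variable {X : Type*} [Group X] {M₁ M₂ : Subgroup X}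

local notation "Γ" => cosetGraph M₁ M₂
local notation "b₀" => criticalDistance 2 M₁ M₂

/-- A walk without backtracking that starts at a vertex of the first kind. -/
structure Pth (n : ℕ) (q : ℕ → CosetVertex M₁ M₂) : Prop where
  al : Al (q 0)
  adj : ∀ i, i < n → (Γ).Adj (q i) (q (i + 1))
  nb : ∀ i, i + 2 ≤ n → q i ≠ q (i + 2)

/-- Some element fixes the first `k + 1` vertices of a walk and moves the next one. -/
def Cover (M₁ M₂ : Subgroup X) (k : ℕ) : Prop :=
  ∃ q : ℕ → CosetVertex M₁ M₂, Pth (k + 1) q ∧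
    ∃ g : X, (∀ i, i ≤ k → g • q i = q i) ∧ g • q (k + 1) ≠ q (k + 1)

/-- A critical walk. -/
def Crit (q : ℕ → CosetVertex M₁ M₂) : Prop :=
  Pth b₀ q ∧ ¬ vertexZ 2 (q 0) ≤ vertexQ 2 (q b₀)

/-- The subgroup generated by the `Z` of the neighbours. -/
def Vv (v : CosetVertex M₁ M₂) : Subgroup X :=
  ⨆ e ∈ (Γ).neighborSet v, vertexZ 2 e

/-- Prepend a vertex to a walk. -/
def cons (v : CosetVertex M₁ M₂) (q : ℕ → CosetVertex M₁ M₂) : ℕ → CosetVertex M₁ M₂
  | 0 => v
  | i + 1 => q i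

/-- Append a vertex to a walk of length `n`. -/
def snoc (n : ℕ) (q : ℕ → CosetVertex M₁ M₂) (v : CosetVertex M₁ M₂) : ℕ → CosetVertex M₁ M₂ :=
  fun i => if i ≤ n then q i else v

theorem snoc_le {n i : ℕ} {q : ℕ → CosetVertex M₁ M₂} {v : CosetVertex M₁ M₂} (hi : i ≤ n) :
    snoc n q v i = q i := if_pos hi

theorem snoc_last {n : ℕ} {q : ℕ → CosetVertex M₁ M₂} {v : CosetVertex M₁ M₂} :
    snoc n q v (n + 1) = v := if_neg (by omega)

theorem snoc_gt {n i : ℕ} {q : ℕ → CosetVertex M₁ M₂} {v : CosetVertex M₁ M₂} (hi : n < i) :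
    snoc n q v i = v := if_neg (by omega)

namespace Pth

variable {n : ℕ} {q : ℕ → CosetVertex M₁ M₂}

theorem mono {m : ℕ} (hq : Pth n q) (hm : m ≤ n) : Pth m q :=
  ⟨hq.al, fun i hi => hq.adj i (by omega), fun i hi => hq.nb i (by omega)⟩

theorem al_iff (hq : Pth n q) {i : ℕ} (hi : i ≤ n) : Al (q i) ↔ Even i := by
  induction i with
  | zero => simp [hq.al]
  | succ i ih => rw [Nat.even_add_one, ← ih (by omega), (al_adj (hq.adj i (by omega))), not_not]

theorem drop (hq : Pth n q) (k : ℕ) (hk : k ≤ n) (he : Even k) : Pth (n - k) (fun i => q (k + i)) :=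
  ⟨(hq.al_iff hk).mpr he, fun i hi => hq.adj (k + i) (by omega), fun i hi => hq.nb (k + i) (by omega)⟩

theorem rev (hq : Pth n q) (he : Even n) : Pth n (fun i => q (n - i)) := by
  refine ⟨(hq.al_iff le_rfl).mpr he, fun i hi => ?_, fun i hi => ?_⟩
  · have := (hq.adj (n - (i + 1)) (by omega)).symm
    rwa [show n - (i + 1) + 1 = n - i by omega] at this
  · have := (hq.nb (n - (i + 2)) (by omega)).symm
    rwa [show n - (i + 2) + 2 = n - i by omega] at this

theorem snoc' (hq : Pth n q) {v : CosetVertex M₁ M₂} (hv : (Γ).Adj (q n) v)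
    (hne : ∀ i, i + 1 = n → q i ≠ v) : Pth (n + 1) (ThreeThree.snoc n q v) := by
  refine ⟨by rw [snoc_le (Nat.zero_le n)]; exact hq.al, fun i hi => ?_, fun i hi => ?_⟩
  · rcases Nat.lt_or_ge i n with h1 | h1
    · rw [snoc_le (by omega), snoc_le (by omega)]; exact hq.adj i h1
    · obtain rfl : i = n := by omega
      rw [snoc_le le_rfl, snoc_last]; exact hv
  · rcases Nat.lt_or_ge (i + 1) n with h1 | h1
    · rw [snoc_le (by omega), snoc_le (by omega)]; exact hq.nb i (by omega)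
    · obtain rfl : i + 1 = n := by omega
      rw [snoc_le (by omega), show i + 2 = (i + 1) + 1 by omega, snoc_last]
      exact hne i rfl

theorem cons₂ (hq : Pth n q) {u w : CosetVertex M₁ M₂} (h1 : (Γ).Adj u w) (h2 : (Γ).Adj w (q 0))
    (hne : u ≠ q 0) (hne' : 0 < n → w ≠ q 1) : Pth (n + 2) (cons u (cons w q)) := by
  refine ⟨al_of_adj h1 (not_al_of_adj h2.symm hq.al), fun i hi => ?_, fun i hi => ?_⟩
  · match i with
    | 0 => exact h1
    | 1 => exact h2
    | j + 2 => exact hq.adj j (by omega)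
  · match i with
    | 0 => exact hne
    | 1 => exact hne' (by omega)
    | j + 2 => exact hq.nb j (by omega)

theorem dist_le (hgen : M₁ ⊔ M₂ = ⊤) (hq : Pth n q) {i j : ℕ} (hij : i ≤ j) (hj : j ≤ n) :
    (Γ).dist (q i) (q j) ≤ j - i := by
  induction j with
  | zero => obtain rfl : i = 0 := by omega
            simp
  | succ j ih =>
    rcases Nat.eq_or_lt_of_le hij with e | e
    · subst e; simp
    · have h1 := ih (by omega) (by omega)
      have h2 := (cosetGraph_connected hgen).dist_triangle (u := q i) (v := q j) (w := q (j + 1))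
      rw [SimpleGraph.dist_eq_one_iff_adj.mpr (hq.adj j (by omega))] at h2
      omega

end Pth

namespace Hyp

variable (h : Hyp M₁ M₂)
include h

/-! ### The distance -/

theorem small {δ μ : CosetVertex M₁ M₂} (hd : (Γ).dist δ μ < b₀) :
    vertexZ 2 δ ≤ vertexQ 2 μ := by
  rw [← h.neighbourKernel_eq]
  exact vertexZ_le_kernel_of_dist_lt hd

theorem le_stab {δ μ : CosetVertex M₁ M₂} (hd : (Γ).dist δ μ ≤ b₀) :
    vertexZ 2 δ ≤ stabilizer X μ := vertexZ_le_stabilizer_of_dist_le h.pair hd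

theorem b_pos : 0 < b₀ := by
  have hne : {n : ℕ | ∃ δ μ : CosetVertex M₁ M₂, (Γ).dist δ μ = n ∧
      ¬ vertexZ 2 δ ≤ neighbourKernel μ}.Nonempty := by
    by_contra hcon
    rw [Set.not_nonempty_iff_eq_empty, Set.eq_empty_iff_forall_notMem] at hcon
    refine h.Z_ne_bot (Sum.inl ((1 : X) : X ⧸ M₁) : CosetVertex M₁ M₂) ((eq_bot_iff_forall _).mpr fun z hz => ?_)
    refine toPermHom_injective h.pair.1.2.2.2 (Equiv.ext fun v => ?_)
    rw [map_one]
    exact (mem_neighbourKernel.mp ((by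
      by_contra hn
      exact hcon _ ⟨_, v, rfl, hn⟩ : vertexZ 2 _ ≤ neighbourKernel v) hz)).1
  obtain ⟨δ, μ, hd, hn⟩ := Nat.sInf_mem hne
  exact criticalDistance_pos h.pair (α := δ) (α' := μ) ⟨hn, hd⟩

theorem Z_be_le_Q {v w : CosetVertex M₁ M₂} (hv : ¬ Al v) (hd : (Γ).dist v w ≤ b₀) :
    vertexZ 2 v ≤ vertexQ 2 w := by
  rcases Nat.eq_zero_or_pos ((Γ).dist v w) with h0 | h0
  · rw [(h.connected.preconnected v w).dist_eq_zero_iff] at h0
    exact h0 ▸ h.Z_le_Q v
  · obtain ⟨a, hva, had⟩ := exists_adj_dist h.connected h0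
    exact (h.Z_be_le hva.symm (al_of_adj hva.symm hv)).trans (h.small (by omega))

theorem Z_be_le_stab {v w : CosetVertex M₁ M₂} (hv : ¬ Al v) (hd : (Γ).dist v w ≤ b₀ + 1) :
    vertexZ 2 v ≤ stabilizer X w := by
  rcases Nat.eq_zero_or_pos ((Γ).dist v w) with h0 | h0
  · rw [(h.connected.preconnected v w).dist_eq_zero_iff] at h0
    exact h0 ▸ sylowCenterClosure_le_self _
  · obtain ⟨a, hva, had⟩ := exists_adj_dist h.connected h0
    exact (h.Z_be_le hva.symm (al_of_adj hva.symm hv)).trans (h.le_stab (by omega))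

theorem exists_crit : ∃ q : ℕ → CosetVertex M₁ M₂, Crit q := by
  have hb := h.b_pos
  obtain ⟨δ, μ, hd, hn⟩ : b₀ ∈ {n : ℕ | ∃ δ μ : CosetVertex M₁ M₂, (Γ).dist δ μ = n ∧
      ¬ vertexZ 2 δ ≤ neighbourKernel μ} :=
    Nat.sInf_mem (Nat.nonempty_of_pos_sInf hb)
  rw [h.neighbourKernel_eq] at hn
  obtain ⟨w, hw⟩ := h.connected.exists_walk_length_eq_dist δ μ
  rw [hd] at hw
  have hδ : Al δ := by_contra fun hδ => hn (h.Z_be_le_Q hδ hd.le)
  refine ⟨w.getVert, ⟨by rwa [SimpleGraph.Walk.getVert_zero],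
    fun i hi => w.adj_getVert_succ (by omega), fun i hi e => ?_⟩, ?_⟩
  · have h1 := h.connected.dist_triangle (u := δ) (v := w.getVert i) (w := μ)
    have h2 := SimpleGraph.dist_le (w.take i)
    have h3 : (Γ).dist (w.getVert i) μ ≤ ((w.drop (i + 2)).copy e.symm rfl).length := SimpleGraph.dist_le _
    rw [SimpleGraph.Walk.take_length] at h2
    rw [SimpleGraph.Walk.length_copy, SimpleGraph.Walk.drop_length] at h3
    omega
  · rw [SimpleGraph.Walk.getVert_zero, ← hw, SimpleGraph.Walk.getVert_length]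
    exact hn

variable {n : ℕ} {q : ℕ → CosetVertex M₁ M₂}

theorem walk_dist (hq : Pth n q) {i j : ℕ} (hij : i ≤ j) (hj : j ≤ n) :
    (Γ).dist (q i) (q j) ≤ j - i ∧ (Γ).dist (q j) (q i) ≤ j - i := by
  have := hq.dist_le h.pair.1.1 hij hj
  exact ⟨this, by rw [SimpleGraph.dist_comm]; exact this⟩

theorem walk_fix (hq : Pth n q) {i j : ℕ} (hi : i ≤ n) (hj : j ≤ n) (h1 : j ≤ i + b₀) (h2 : i ≤ j + b₀)
    {z : X} (hz : z ∈ vertexZ 2 (q i)) : z • q j = q j := by
  rcases le_total i j with hij | hij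
  · exact h.le_stab ((h.walk_dist hq hij hj).1.trans (by omega)) hz
  · exact h.le_stab ((h.walk_dist hq hij hi).2.trans (by omega)) hz

theorem walk_Q (hq : Pth n q) {i j : ℕ} (hi : i ≤ n) (hj : j ≤ n) (h1 : j < i + b₀) (h2 : i < j + b₀)
    {z : X} (hz : z ∈ vertexZ 2 (q i)) : z ∈ vertexQ 2 (q j) := by
  rcases le_total i j with hij | hij
  · exact h.small ((h.walk_dist hq hij hj).1.trans_lt (by omega)) hz
  · exact h.small ((h.walk_dist hq hij hi).2.trans_lt (by omega)) hz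

theorem commute_of_dist {δ μ : CosetVertex M₁ M₂} (hd : (Γ).dist δ μ < b₀) {x y : X}
    (hx : x ∈ vertexZ 2 δ) (hy : y ∈ vertexZ 2 μ) : Commute x y :=
  h.Z_commute_Q hy (h.small hd hx)

/-! ### Covers and transitivity -/

theorem cover_zero : Cover M₁ M₂ 0 := by
  obtain ⟨v, hv⟩ := exists_adj (Sum.inl ((1 : X) : X ⧸ M₁) : CosetVertex M₁ M₂)
  obtain ⟨g, hg, hgn⟩ := SetLike.not_le_iff_exists.mp (h.edge_not_normal hv)
  refine ⟨cons (Sum.inl ((1 : X) : X ⧸ M₁)) fun _ => v, ⟨rfl, fun i hi => ?_, fun i hi => absurd hi (by omega)⟩, g,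
    fun i hi => ?_, fun e => hgn (le_normalizer ⟨hg, e⟩)⟩
  · obtain rfl : i = 0 := by omega
    exact hv
  · obtain rfl : i = 0 := by omega
    exact hg

omit h in
theorem cover_of {N : ℕ} {p : ℕ → CosetVertex M₁ M₂} (hadj : ∀ i, i < N → (Γ).Adj (p i) (p (i + 1)))
    (hnb : ∀ i, i + 2 ≤ N → p i ≠ p (i + 2)) {g : X} (hfix : ∀ i, i < N → g • p i = p i)
    (hmove : g • p N ≠ p N) {k j : ℕ} (hkj : k + 1 + j = N) (hj : Al (p j)) : Cover M₁ M₂ k :=
  ⟨fun i => p (j + i), ⟨hj, fun i hi => hadj (j + i) (by omega), fun i hi => hnb (j + i) (by omega)⟩,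
    g, fun i hi => hfix (j + i) (by omega), by show g • p (j + (k + 1)) ≠ p (j + (k + 1)); rw [show j + (k + 1) = N by omega]; exact hmove⟩

theorem transitive {n : ℕ} (hc : ∀ k, k < n → Cover M₁ M₂ k) {p q : ℕ → CosetVertex M₁ M₂}
    (hp : Pth n p) (hq : Pth n q) : ∃ g : X, ∀ i, i ≤ n → g • p i = q i := by
  induction n generalizing p q with
  | zero =>
    obtain ⟨g, hg⟩ := exists_smul_al hp.al hq.al
    exact ⟨g, fun i hi => by obtain rfl : i = 0 := by omega
                             exact hg⟩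
  | succ n ih =>
    obtain ⟨r, hr, s, hs, hsm⟩ := hc n (Nat.lt_succ_self n)
    have ih' := @ih (fun k hk => hc k (by omega))
    obtain ⟨g₁, hg₁⟩ := ih' (hp.mono (by omega)) (hr.mono (by omega))
    obtain ⟨g₂, hg₂⟩ := ih' (hq.mono (by omega)) (hr.mono (by omega))
    have ha : ∀ {w : ℕ → CosetVertex M₁ M₂} {g : X}, Pth (n + 1) w → (∀ i, i ≤ n → g • w i = r i) →
        (Γ).Adj (r n) (g • w (n + 1)) ∧ ∀ i, i + 1 = n → g • w (n + 1) ≠ r i := by
      intro w g hw hg
      refine ⟨hg n le_rfl ▸ cosetGraph_adj_smul (hw.adj n (by omega)) g, fun i hi e => ?_⟩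
      rw [← hg i (by omega)] at e
      exact hw.nb i (by omega) (by rw [show i + 2 = n + 1 by omega]; exact (MulAction.injective g e).symm)
    obtain ⟨a1, n1⟩ := ha hp hg₁
    obtain ⟨a2, n2⟩ := ha hq hg₂
    suffices hs' : ∃ g' : X, (∀ i, i ≤ n → g' • r i = r i) ∧ g' • (g₁ • p (n + 1)) = g₂ • q (n + 1) by
      obtain ⟨g', hg', e⟩ := hs'
      refine ⟨g₂⁻¹ * g' * g₁, fun i hi => ?_⟩
      rw [mul_smul, mul_smul]
      rcases Nat.eq_or_lt_of_le hi with rfl | hi'
      · rw [e, inv_smul_smul]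
      · rw [hg₁ i (by omega), hg' i (by omega), ← hg₂ i (by omega), inv_smul_smul]
    by_cases e : g₁ • p (n + 1) = g₂ • q (n + 1)
    · exact ⟨1, fun i _ => one_smul X _, by rw [one_smul]; exact e⟩
    rcases Nat.eq_zero_or_pos n with rfl | hn
    · obtain ⟨g', hg', e'⟩ := exists_smul_eq_of_adj a1 a2
      exact ⟨g', fun i hi => by obtain rfl : i = 0 := by omega
                                exact hg', e'⟩
    · refine ⟨s, hs, ?_⟩
      have hb : (Γ).Adj (r n) (r (n - 1)) := by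
        have := (hr.adj (n - 1) (by omega)).symm
        rwa [show n - 1 + 1 = n by omega] at this
      have hsb : s • r (n - 1) = r (n - 1) := hs (n - 1) (by omega)
      have hsn : s • r n = r n := hs n le_rfl
      have hsQ : s ∉ vertexQ 2 (r n) := fun hq' => hsm (h.Q_smul (hr.adj n (by omega)) hq')
      exact h.swap_eq hb a1 a2 (n1 (n - 1) (by omega)) (n2 (n - 1) (by omega)) e ⟨hsn, hsb⟩ hsQ

/-- When every length is covered all walks of the critical length are critical. -/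
theorem crit_of_covers (hc : ∀ k, k < b₀ → Cover M₁ M₂ k) {p q : ℕ → CosetVertex M₁ M₂} (hp : Crit p)
    (hq : Pth b₀ q) : Crit q := by
  obtain ⟨g, hg⟩ := h.transitive hc hq hp.1
  refine ⟨hq, fun hle => hp.2 ?_⟩
  rw [← hg 0 (Nat.zero_le _), ← hg b₀ le_rfl, ← h.Z_map, ← h.Q_map]
  exact map_mono hle

/-! ### The groups `V_v` -/

omit h in
theorem Z_le_V {v e : CosetVertex M₁ M₂} (he : (Γ).Adj v e) : vertexZ 2 e ≤ Vv v :=
  le_iSup₂ (f := fun e (_ : e ∈ (Γ).neighborSet v) => vertexZ 2 e) e he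

omit h in
theorem V_le {v : CosetVertex M₁ M₂} {S : Subgroup X} (hS : ∀ e, (Γ).Adj v e → vertexZ 2 e ≤ S) :
    Vv v ≤ S := iSup₂_le hS

theorem V_conj {g x : X} {v : CosetVertex M₁ M₂} (hx : x ∈ Vv v) : g * x * g⁻¹ ∈ Vv (g • v) := by
  have hle : Vv v ≤ (Vv (g • v)).comap (MulAut.conj g).toMonoidHom :=
    V_le fun e he z hz => Z_le_V (cosetGraph_adj_smul he g) (h.Z_conj hz)
  exact hle hx

theorem stab_le_normalizer_V (v : CosetVertex M₁ M₂) : stabilizer X v ≤ normalizer (Vv v : Set X) :=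
  Core.le_normalizer_iff_conj_mem.mpr fun g hg x hx => by
    have := h.V_conj (g := g) hx
    rwa [mem_stabilizer_iff.mp hg] at this

theorem V_le_Q {v : CosetVertex M₁ M₂} (hb : 1 < b₀) : Vv v ≤ vertexQ 2 v :=
  V_le fun e he => h.small (by
    rw [SimpleGraph.dist_comm, SimpleGraph.dist_eq_one_iff_adj.mpr he]; exact hb)

theorem V_ne_bot {v : CosetVertex M₁ M₂} : Vv v ≠ ⊥ := fun e => by
  obtain ⟨a, ha⟩ := exists_adj v
  exact h.Z_ne_bot a (eq_bot_iff.mpr (e ▸ Z_le_V ha))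

end Hyp

end Cfsg.Lib.Local.ThreeThree
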