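import Cfsg.Agent.Lib.Local.ThreeThree.Basic
import Mathlib.GroupTheory.Commutator.Basic

/-!
# Goldschmidt's amalgams of index (3, 3): the groups `Z_δ`

For a vertex `a` of the first kind `Z_a` is the sum of two natural pieces, for a vertex `v` of the
second kind `Z_v` is `Ω₁Z(T)` and is central in the stabilizer of `v`.
-/

set_option autoImplicit false
set_option linter.style.haveILetI false
set_option linter.unusedSectionVars false

namespace Cfsg.Lib.Local.ThreeThree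

open Subgroup Cfsg Cfsg.Lib Cfsg.Lib.Local MulAction
open scoped commutatorElement

variable {X : Type*} [Group X] {M₁ M₂ : Subgroup X}

local notation "Γ" => cosetGraph M₁ M₂

/-- `Ω₁Z` of an edge group. -/
def Om (a v : CosetVertex M₁ M₂) : Subgroup X :=
  omegaOne 2 (edgeStabilizer a v ⊓ centralizer (edgeStabilizer a v : Set X))

theorem adj_smul_of_mem {δ μ : CosetVertex M₁ M₂} (hμ : (Γ).Adj δ μ) {g : X} (hg : g • δ = δ) :
    (Γ).Adj δ (g • μ) := hg ▸ cosetGraph_adj_smul hμ g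

theorem not_al_of_adj {a v : CosetVertex M₁ M₂} (hav : (Γ).Adj a v) (ha : Al a) : ¬ Al v :=
  (al_adj hav).mp ha

theorem al_of_adj {a v : CosetVertex M₁ M₂} (hav : (Γ).Adj a v) (hv : ¬ Al v) : Al a :=
  (al_adj hav).mpr hv

theorem exists_pair_coset {a v : CosetVertex M₁ M₂} (hav : (Γ).Adj a v) (ha : Al a) :
    ∃ x : X, a = Sum.inl (x : X ⧸ M₁) ∧ v = Sum.inr (x : X ⧸ M₂) := by
  obtain ⟨x, ⟨h1, h2⟩ | ⟨rfl, rfl⟩⟩ := cosetGraph_adj.mp hav
  · exact ⟨x, h1, h2⟩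
  · simp [Al] at ha

namespace Hyp

variable (h : Hyp M₁ M₂)
include h

/-! ### Neighbours -/

theorem Q_smul {δ μ : CosetVertex M₁ M₂} (hμ : (Γ).Adj δ μ) {q : X} (hq : q ∈ vertexQ 2 δ) :
    q • μ = μ := (h.Q_le_edge hμ hq).2

theorem Q_smul_self {δ : CosetVertex M₁ M₂} {q : X} (hq : q ∈ vertexQ 2 δ) : q • δ = δ :=
  (map_subtype_le _ : vertexQ 2 δ ≤ stabilizer X δ) hq

theorem mem_Q_of_fix {δ μ ν : CosetVertex M₁ M₂} (hμ : (Γ).Adj δ μ) (hν : (Γ).Adj δ ν) (hne : μ ≠ ν)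
    {g : X} (h0 : g • δ = δ) (h1 : g • μ = μ) (h2 : g • ν = ν) : g ∈ vertexQ 2 δ :=
  (h.edge_inf hμ hν hne).le ⟨⟨h0, h1⟩, ⟨h0, h2⟩⟩

theorem exists_third {δ μ ν : CosetVertex M₁ M₂} (hμ : (Γ).Adj δ μ) (hν : (Γ).Adj δ ν) (hne : μ ≠ ν) :
    ∃ ρ, (Γ).Adj δ ρ ∧ ρ ≠ μ ∧ ρ ≠ ν ∧ ∀ σ, (Γ).Adj δ σ → σ = μ ∨ σ = ν ∨ σ = ρ := by
  obtain ⟨t, ht, htQ⟩ := h.exists_notMem_Q hμ
  have hρ : (Γ).Adj δ (t • ν) := adj_smul_of_mem hν ht.1
  have h1 : t • ν ≠ μ := fun e => hne (MulAction.injective t (e.trans (ht.2 : t • μ = μ).symm)).symm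
  have h2 := h.smul_ne hμ hν hne ht htQ
  exact ⟨t • ν, hρ, h1, h2, fun σ hσ => h.neighbour_eq hμ hν hρ hσ hne h1.symm h2.symm⟩

theorem eq_third {δ μ ν ρ σ : CosetVertex M₁ M₂} (hμ : (Γ).Adj δ μ) (hν : (Γ).Adj δ ν)
    (hρ : (Γ).Adj δ ρ) (hσ : (Γ).Adj δ σ) (h1 : μ ≠ ν) (h2 : ρ ≠ μ) (h3 : ρ ≠ ν) (h4 : σ ≠ μ)
    (h5 : σ ≠ ν) : σ = ρ := by
  rcases h.neighbour_eq hμ hν hρ hσ h1 h2.symm h3.symm with e | e | e
  exacts [absurd e h4, absurd e h5, e]

theorem swap_eq {δ μ ν ρ : CosetVertex M₁ M₂} (hμ : (Γ).Adj δ μ) (hν : (Γ).Adj δ ν)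
    (hρ : (Γ).Adj δ ρ) (h1 : ν ≠ μ) (h2 : ρ ≠ μ) (h3 : ν ≠ ρ) {t : X}
    (ht : t ∈ edgeStabilizer δ μ) (htQ : t ∉ vertexQ 2 δ) : t • ν = ρ :=
  h.eq_third hμ hν hρ (adj_smul_of_mem hν ht.1) h1.symm h2 h3.symm
    (fun e => h1 (MulAction.injective t (e.trans (ht.2 : t • μ = μ).symm))) (h.smul_ne hμ hν h1.symm ht htQ)

theorem stab_le_of {δ μ : CosetVertex M₁ M₂} (hμ : (Γ).Adj δ μ) {N : Subgroup X}
    (hT : edgeStabilizer δ μ ≤ N) {g : X} (hg : g ∈ N) (hg0 : g • δ = δ) (hg1 : g • μ ≠ μ) :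
    stabilizer X δ ≤ N :=
  (h.eq_stab_of_lt hμ (N := N ⊓ stabilizer X δ) (le_inf hT inf_le_left) inf_le_right
    fun hle => hg1 (hle ⟨hg, hg0⟩).2).ge.trans inf_le_left

/-! ### `Ω₁Z` of an edge group -/

theorem noncentral_al {a v : CosetVertex M₁ M₂} (hav : (Γ).Adj a v) (ha : Al a) :
    ¬ stabilizer X a ≤ centralizer (Om a v : Set X) := by
  obtain ⟨x, rfl, rfl⟩ := exists_pair_coset hav ha
  intro hle
  refine h.noncentral fun m hm => mem_centralizer_iff.mpr fun z hz => (MulAut.conj x).injective ?_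
  rw [map_mul, map_mul]
  refine mem_centralizer_iff.mp (hle ?_) (MulAut.conj x z) ?_
  · rw [stabilizer_inl]; exact mem_map_of_mem _ hm
  · rw [Om, edgeStabilizer, stabilizer_inl, stabilizer_inr,
      ← map_inf _ _ _ (MulAut.conj x).injective, ← omegaCenter_map]
    exact mem_map_of_mem _ hz

theorem central_be {a v : CosetVertex M₁ M₂} (hav : (Γ).Adj a v) (hv : ¬ Al v) :
    stabilizer X v ≤ centralizer (Om a v : Set X) := by
  obtain ⟨x, rfl, rfl⟩ := exists_pair_coset hav (al_of_adj hav hv)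
  rw [stabilizer_inr, Om, edgeStabilizer, stabilizer_inl, stabilizer_inr,
    ← map_inf _ _ _ (MulAut.conj x).injective, ← omegaCenter_map]
  rintro _ ⟨m, hm, rfl⟩
  refine mem_centralizer_iff.mpr ?_
  rintro _ ⟨z, hz, rfl⟩
  rw [← map_mul, ← map_mul, mem_centralizer_iff.mp (h.central hm) z hz]

theorem Z_be {a v : CosetVertex M₁ M₂} (hav : (Γ).Adj a v) (hv : ¬ Al v) :
    vertexZ 2 v = Om a v := by
  have hs : IsSylowIn 2 (edgeStabilizer a v) (stabilizer X v) := by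
    rw [edge_comm]; exact h.isSylow_edge hav.symm
  haveI := h.fin v
  refine le_antisymm (iSup_le fun S => ?_) (omegaCenter_le_closure hs)
  obtain ⟨g, hg, e⟩ := hs.exists_conj ⟨S, rfl⟩
  rw [← e, ← omegaCenter_map]
  rintro _ ⟨z, hz, rfl⟩
  show g * z * g⁻¹ ∈ Om a v
  rw [← mem_centralizer_iff.mp (h.central_be hav hv hg) z hz, mul_inv_cancel_right]
  exact hz

theorem Z_be_commute {v : CosetVertex M₁ M₂} (hv : ¬ Al v) {g z : X} (hg : g • v = v)
    (hz : z ∈ vertexZ 2 v) : Commute g z := by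
  obtain ⟨a, hva⟩ := exists_adj v
  rw [h.Z_be hva.symm hv] at hz
  exact (mem_centralizer_iff.mp (h.central_be hva.symm hv hg) z hz).symm

theorem Z_be_le {a v : CosetVertex M₁ M₂} (hav : (Γ).Adj a v) (ha : Al a) :
    vertexZ 2 v ≤ vertexZ 2 a := by
  rw [h.Z_be hav (not_al_of_adj hav ha)]
  exact omegaCenter_le_closure (h.isSylow_edge hav)

theorem mem_Z_be {a v : CosetVertex M₁ M₂} (hav : (Γ).Adj a v) (hv : ¬ Al v) {z : X}
    (hz : z ∈ edgeStabilizer a v) (hc : ∀ g ∈ edgeStabilizer a v, Commute g z) (h2 : z * z = 1) :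
    z ∈ vertexZ 2 v := by
  rw [h.Z_be hav hv]
  exact subset_closure ⟨⟨hz, mem_centralizer_iff.mpr fun g hg => (hc g hg).eq⟩, by rw [pow_two, h2]⟩

/-! ### Vertices of the first kind -/

theorem inf_centralizer_Z {a : CosetVertex M₁ M₂} (ha : Al a) :
    stabilizer X a ⊓ centralizer (vertexZ 2 a : Set X) = vertexQ 2 a := by
  refine le_antisymm ?_ (le_inf (map_subtype_le _)
    fun q hq => mem_centralizer_iff.mpr fun z hz => (h.Z_commute_Q hz hq).eq.symm)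
  obtain ⟨v, hav⟩ := exists_adj a
  set C := stabilizer X a ⊓ centralizer (vertexZ 2 a : Set X) with hC
  have hCn : stabilizer X a ≤ normalizer (C : Set X) := by
    refine Core.le_normalizer_iff_conj_mem.mpr fun g hg c hc => ⟨(stabilizer X a).mul_mem ((stabilizer X a).mul_mem hg hc.1) ((stabilizer X a).inv_mem hg),
      mem_centralizer_iff.mpr fun z hz => ?_⟩
    have h1 := (mem_normalizer_iff''.mp (h.stab_le_normalizer_Z a hg) z).mp hz
    calc z * (g * c * g⁻¹) = g * ((g⁻¹ * z * g) * c) * g⁻¹ := by group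
      _ = g * (c * (g⁻¹ * z * g)) * g⁻¹ := by rw [mem_centralizer_iff.mp hc.2 _ h1]
      _ = g * c * g⁻¹ * z := by group
  by_cases hle : C ≤ edgeStabilizer a v
  · exact h.le_Q inf_le_left hCn ((h.side hav).2.to_le hle)
  · exfalso
    refine h.noncentral_al hav ha ?_
    have e := h.eq_stab_of_lt hav (N := stabilizer X a ⊓ centralizer (Om a v : Set X))
      (le_inf inf_le_left fun t ht => mem_centralizer_iff.mpr fun z hz => ?_) inf_le_left
      fun hn => hle fun c hc => hn ⟨hc.1, centralizer_le (omegaCenter_le_closure (h.isSylow_edge hav)) hc.2⟩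
    · exact e.ge.trans inf_le_right
    · have hzc : Om a v ≤ centralizer (edgeStabilizer a v : Set X) :=
        (closure_le _).mpr fun x hx => hx.1.2
      exact (mem_centralizer_iff.mp (hzc hz) t ht).symm

theorem mem_Q_of_commute {a : CosetVertex M₁ M₂} (ha : Al a) {g : X} (hg : g • a = a)
    (hc : ∀ z ∈ vertexZ 2 a, Commute z g) : g ∈ vertexQ 2 a :=
  (h.inf_centralizer_Z ha).le ⟨hg, mem_centralizer_iff.mpr fun z hz => (hc z hz).eq⟩

theorem Z_conj_self {δ : CosetVertex M₁ M₂} {g z : X} (hg : g • δ = δ) (hz : z ∈ vertexZ 2 δ) :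
    g * z * g⁻¹ ∈ vertexZ 2 δ := by
  have := h.Z_conj (g := g) hz
  rwa [hg] at this

theorem Z_le_edge {a v : CosetVertex M₁ M₂} (hav : (Γ).Adj a v) : vertexZ 2 a ≤ edgeStabilizer a v :=
  (h.Z_le_Q a).trans (h.Q_le_edge hav)

/-- An element of `Z_a` commuting with an edge element outside `Q_a` lies in `Z` of the other end. -/
theorem mem_Z_be_of_commute {a v : CosetVertex M₁ M₂} (hav : (Γ).Adj a v) (ha : Al a) {t z : X}
    (ht : t ∈ edgeStabilizer a v) (htQ : t ∉ vertexQ 2 a) (hz : z ∈ vertexZ 2 a) (hc : Commute t z) :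
    z ∈ vertexZ 2 v := by
  refine h.mem_Z_be hav (not_al_of_adj hav ha) (h.Z_le_edge hav hz) (fun g hg => ?_) (h.Z_sq hz)
  by_cases hgQ : g ∈ vertexQ 2 a
  · exact h.Z_commute_Q hz hgQ
  · rw [show g = t * (t⁻¹ * g) by group]
    exact hc.mul_left (h.Z_commute_Q hz (h.inv_mul_mem_Q hav ht hg htQ hgQ))

theorem eq_one_of_commute_stab {a : CosetVertex M₁ M₂} (ha : Al a) {z : X} (hz : z ∈ vertexZ 2 a)
    (hc : ∀ g : X, g • a = a → Commute g z) : z = 1 := by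
  obtain ⟨v, hav⟩ := exists_adj a
  let N : Subgroup X := vertexZ 2 a ⊓ centralizer (stabilizer X a : Set X)
  have hNv : N ≤ vertexZ 2 v := fun n hn => by
    obtain ⟨t, ht, htQ⟩ := h.exists_notMem_Q hav
    exact h.mem_Z_be_of_commute hav ha ht htQ hn.1 (mem_centralizer_iff.mp hn.2 t ht.1)
  have key : ∀ δ : CosetVertex M₁ M₂, (∀ g : X, g • δ = δ → ∀ n ∈ N, Commute g n) →
      stabilizer X δ ≤ normalizer (N : Set X) := fun δ hδ => by
    refine Core.le_normalizer_iff_conj_mem.mpr fun g hg n hn => ?_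
    rw [(hδ g hg n hn).eq, mul_inv_cancel_right]
    exact hn
  have e := h.eq_bot_of_normalized hav (N := N) (inf_le_left.trans (h.Z_le_edge hav))
    (key a fun g hg n hn => mem_centralizer_iff.mp hn.2 g hg)
    (key v fun g hg n hn => h.Z_be_commute (not_al_of_adj hav ha) hg (hNv hn))
  refine mem_bot.mp (e ▸ (⟨hz, mem_centralizer_iff.mpr fun g hg => (hc g hg).eq⟩ : z ∈ N))

theorem eq_one_of_mem_two {a v w : CosetVertex M₁ M₂} (hav : (Γ).Adj a v) (haw : (Γ).Adj a w)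
    (ha : Al a) (hne : v ≠ w) {z : X} (hv : z ∈ vertexZ 2 v) (hw : z ∈ vertexZ 2 w) : z = 1 := by
  refine h.eq_one_of_commute_stab ha (h.Z_be_le hav ha hv) fun g hg => ?_
  have hN := h.edge_sup hav haw hne (N := centralizer {z})
    (fun t ht => mem_centralizer_singleton_iff.mpr (h.Z_be_commute (not_al_of_adj hav ha) ht.2 hv).eq)
    (fun t ht => mem_centralizer_singleton_iff.mpr (h.Z_be_commute (not_al_of_adj haw ha) ht.2 hw).eq)
  exact mem_centralizer_singleton_iff.mp (hN hg)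

/-- `[z, t] = z · z^t` lies in `Z` of the other end. -/
theorem comm_mem {a v : CosetVertex M₁ M₂} (hav : (Γ).Adj a v) (ha : Al a) {t z : X}
    (ht : t ∈ edgeStabilizer a v) (hz : z ∈ vertexZ 2 a) : z * (t * z * t⁻¹) ∈ vertexZ 2 v := by
  have hz' : t * z * t⁻¹ ∈ vertexZ 2 a := h.Z_conj_self ht.1 hz
  by_cases htQ : t ∈ vertexQ 2 a
  · rw [(h.Z_commute_Q hz htQ).eq, mul_inv_cancel_right, h.Z_sq hz]
    exact one_mem _
  refine h.mem_Z_be_of_commute hav ha ht htQ (mul_mem hz hz') ?_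
  have h2 : t * t ∈ vertexQ 2 a := by
    have := h.inv_mul_mem_Q hav (inv_mem ht) ht (fun e => htQ (inv_mem_iff.mp e)) htQ
    rwa [inv_inv] at this
  have e : t * (t * z * t⁻¹) * t⁻¹ = z := by
    rw [show t * (t * z * t⁻¹) * t⁻¹ = (t * t) * z * (t * t)⁻¹ by group, (h.Z_commute_Q hz h2).eq,
      mul_inv_cancel_right]
  refine mul_inv_eq_iff_eq_mul.mp ?_
  calc t * (z * (t * z * t⁻¹)) * t⁻¹ = (t * z * t⁻¹) * (t * (t * z * t⁻¹) * t⁻¹) := by group
    _ = z * (t * z * t⁻¹) := by rw [e, (h.Z_comm hz' hz).eq]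

theorem Z_ne_bot (δ : CosetVertex M₁ M₂) : vertexZ 2 δ ≠ ⊥ := by
  intro e
  have key : ∀ {a v : CosetVertex M₁ M₂}, (Γ).Adj a v → Al a → vertexZ 2 v ≠ ⊥ := by
    intro a v hav ha e0
    refine h.noncentral_al hav ha fun g hg => ?_
    rw [← h.Z_be hav (not_al_of_adj hav ha), e0]
    exact mem_centralizer_iff.mpr fun x hx => by rw [mem_bot.mp hx, one_mul, mul_one]
  obtain ⟨μ, hμ⟩ := exists_adj δ
  by_cases hδ : Al δ
  · exact key hμ hδ (eq_bot_iff.mpr (e ▸ h.Z_be_le hμ hδ))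
  · exact key hμ.symm (al_of_adj hμ.symm hδ) e

theorem exists_ne_one (δ : CosetVertex M₁ M₂) : ∃ z ∈ vertexZ 2 δ, z ≠ 1 := by
  by_contra hcon
  simp only [not_exists, not_and, not_not] at hcon
  exact h.Z_ne_bot δ ((eq_bot_iff_forall _).mpr hcon)

theorem Z_gen {a v w : CosetVertex M₁ M₂} (hav : (Γ).Adj a v) (haw : (Γ).Adj a w)
    (ha : Al a) (hne : v ≠ w) : vertexZ 2 a = vertexZ 2 v ⊔ vertexZ 2 w := by
  refine le_antisymm ?_ (sup_le (h.Z_be_le hav ha) (h.Z_be_le haw ha))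
  have hall : ∀ u, (Γ).Adj a u → vertexZ 2 u ≤ vertexZ 2 v ⊔ vertexZ 2 w := fun u hau => by
    rcases eq_or_ne u v with rfl | huv
    · exact le_sup_left
    rcases eq_or_ne u w with rfl | huw
    · exact le_sup_right
    obtain ⟨t, ht, htQ⟩ := h.exists_notMem_Q hav
    intro z hz
    have e : t • u = w := h.swap_eq hav hau haw huv hne.symm huw ht htQ
    have h2 : t * z * t⁻¹ ∈ vertexZ 2 w := e ▸ h.Z_conj hz
    have h1 := h.comm_mem hav ha ht (h.Z_be_le hau ha hz)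
    have := mul_mem (mem_sup_left (T := vertexZ 2 w) h1) (inv_mem (mem_sup_right (S := vertexZ 2 v) h2))
    rwa [mul_inv_cancel_right] at this
  haveI := h.fin a
  refine iSup_le fun S => ?_
  obtain ⟨g, hg, e⟩ := (h.isSylow_edge hav).exists_conj ⟨S, rfl⟩
  rw [← e, edge_map, mem_stabilizer_iff.mp hg]
  have hgv := adj_smul_of_mem hav (mem_stabilizer_iff.mp hg)
  exact (h.Z_be hgv (not_al_of_adj hgv ha)).ge.trans (hall _ hgv)

/-- `[Z_w, t] = Z_v`. -/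
theorem comm_surj {a v w : CosetVertex M₁ M₂} (hav : (Γ).Adj a v) (haw : (Γ).Adj a w) (ha : Al a)
    (hne : v ≠ w) {t c : X} (ht : t ∈ edgeStabilizer a v) (htQ : t ∉ vertexQ 2 a)
    (hc : c ∈ vertexZ 2 v) : ∃ z ∈ vertexZ 2 w, z * (t * z * t⁻¹) = c := by
  obtain ⟨x, hax, hxv, hxw, -⟩ := h.exists_third hav haw hne
  have hwa := h.Z_be_le haw ha
  have e : t • x = w := h.swap_eq hav hax haw hxv hne.symm hxw ht htQ
  have hca := h.Z_be_le hav ha hc
  have hc2 := (h.Z_gen haw hax ha hxw.symm).le hca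
  haveI hcomm : (vertexZ 2 w).subgroupOf (vertexZ 2 a) ≤ normalizer ((vertexZ 2 x).subgroupOf (vertexZ 2 a) : Set (vertexZ 2 a)) := by
    intro g _
    refine mem_normalizer_iff.mpr fun n => ?_
    rw [show g * n * g⁻¹ = n from Subtype.ext (by
      show (g : X) * n * (g : X)⁻¹ = n
      rw [(h.Z_comm g.2 n.2).eq, mul_inv_cancel_right])]
  have hc3 : (⟨c, hca⟩ : vertexZ 2 a) ∈ (vertexZ 2 w).subgroupOf (vertexZ 2 a) ⊔ (vertexZ 2 x).subgroupOf (vertexZ 2 a) := by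
    rw [← subgroupOf_sup hwa (h.Z_be_le hax ha), mem_subgroupOf]
    exact hc2
  rw [← SetLike.mem_coe, coe_mul_of_left_le_normalizer_right _ _ hcomm] at hc3
  obtain ⟨⟨z, hza⟩, hz, ⟨y, hya⟩, hy, hzy⟩ := hc3
  have hzy' : z * y = c := congrArg Subtype.val hzy
  have hz' : z ∈ vertexZ 2 w := hz
  have hy' : y ∈ vertexZ 2 x := hy
  set z₂ := t * y * t⁻¹ with hz₂def
  have hz₂ : z₂ ∈ vertexZ 2 w := e ▸ h.Z_conj hy'
  have ht2 : t * t ∈ vertexQ 2 a := by
    have := h.inv_mul_mem_Q hav (inv_mem ht) ht (fun e => htQ (inv_mem_iff.mp e)) htQ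
    rwa [inv_inv] at this
  have h1 : t * z₂ * t⁻¹ = y := by
    rw [hz₂def, show t * (t * y * t⁻¹) * t⁻¹ = (t * t) * y * (t * t)⁻¹ by group,
      (h.Z_commute_Q hya ht2).eq, mul_inv_cancel_right]
  have hct : t * c * t⁻¹ = c := by
    rw [(h.Z_be_commute (not_al_of_adj hav ha) ht.2 hc).eq, mul_inv_cancel_right]
  refine ⟨z, hz', ?_⟩
  have h2 : t * (z * z₂) * t⁻¹ = z * z₂ := by
    have h3 : (t * z * t⁻¹) * z₂ = z * y := by rw [hzy', ← hct, ← hzy', hz₂def]; group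
    calc t * (z * z₂) * t⁻¹ = (t * z * t⁻¹) * (t * z₂ * t⁻¹) := by group
      _ = (t * z * t⁻¹) * y := by rw [h1]
      _ = (t * z * t⁻¹) * z₂ * (z₂⁻¹ * y) := by group
      _ = (z * y) * (z₂⁻¹ * y) := by rw [h3]
      _ = z * (y * (z₂ * y)) := by rw [h.Z_inv (hwa hz₂)]; group
      _ = z * z₂ := by
        rw [(h.Z_comm (hwa hz₂) hya).eq, ← mul_assoc y y, h.Z_sq hya, one_mul]
  have h4 := h.eq_one_of_mem_two hav haw ha hne
    (h.mem_Z_be_of_commute hav ha ht htQ (mul_mem hza (hwa hz₂)) (mul_inv_eq_iff_eq_mul.mp h2))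
    (mul_mem hz' hz₂)
  have hzz : z₂ = z := by
    rw [eq_inv_of_mul_eq_one_right h4, h.Z_inv hza]
  rw [← hzz, h1]
  rw [hzz]
  exact hzy'

end Hyp

end Cfsg.Lib.Local.ThreeThree
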